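import Cfsg.Agent.L33E.Mod

/-! Groups generated by lists satisfying tower relations. -/

set_option autoImplicit false

namespace Cfsg.Lib.L33E

open Subgroup

variable {G H : Type*} [Group G] [Group H] {gs : List G} {D : Tw}

theorem Id.map_evL (f : G →* H) (gs : List G) (m : ℕ) : f (evL gs m) = evL (gs.map f) m := by
  induction gs generalizing m with
  | nil => simp [evL]
  | cons c cs ih => rw [List.map_cons, evL_cons, evL_cons, map_mul, ih]; split_ifs <;> simp

theorem Id.map_gen (f : G →* H) (gs : List G) : (gen gs).map f = gen (gs.map f) := by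
  rw [gen, MonoidHom.map_closure]
  congr 1
  ext x
  simp

/-- the relations of a tower -/
inductive Rl : Tw → List G → Prop
  | nil : Rl [] []
  | snoc {D : Tw} {gs : List G} {β : List ℕ} {sq : ℕ} {g : G} : Rl D gs →
      List.Forall₂ (fun x b => g * x * g⁻¹ = evL gs b) gs β → g * g = evL gs sq →
      Rl (D ++ [(β, sq)]) (gs ++ [g])

theorem Sat.rl (h : Sat D gs) : Rl D gs := by
  induction h with
  | nil => exact .nil
  | snoc _ a b _ ih => exact ih.snoc a b

theorem Id.gen_snoc {β : List ℕ} {sq : ℕ} {g : G}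
    (a : List.Forall₂ (fun x b => g * x * g⁻¹ = evL gs b) gs β) (b : g * g = evL gs sq) {x : G}
    (hx : x ∈ gen (gs ++ [g])) : x ∈ gen gs ∨ x * g⁻¹ ∈ gen gs := by
  have c1 : ∀ y ∈ gen gs, g * y * g⁻¹ ∈ gen gs := fun y hy =>
    ((closure_le ((gen gs).comap (MulAut.conj g).toMonoidHom)).2 fun z hz => by
      obtain ⟨i, hi, rfl⟩ := List.getElem_of_mem hz
      have := (List.forall₂_iff_get.1 a).2 i hi (a.length_eq ▸ hi)
      change g * gs[i] * g⁻¹ ∈ gen gs
      exact (show g * gs[i] * g⁻¹ = _ from this) ▸ evL_mem _ _) hy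
  have s : g * g ∈ gen gs := b ▸ evL_mem _ _
  have c2 : ∀ y ∈ gen gs, g⁻¹ * y * g ∈ gen gs := fun y hy => by
    have := mul_mem (mul_mem (inv_mem s) (c1 y hy)) s
    rwa [show (g * g)⁻¹ * (g * y * g⁻¹) * (g * g) = g⁻¹ * y * g by group] at this
  induction hx using closure_induction with
  | mem x hx =>
    rcases List.mem_append.1 hx with h | h
    · exact .inl (subset_closure h)
    · rw [List.mem_singleton.1 h, mul_inv_cancel]; exact .inr (one_mem _)
  | one => exact .inl (one_mem _)
  | mul x y _ _ h1 h2 =>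
    rcases h1 with h1 | h1 <;> rcases h2 with h2 | h2
    · exact .inl (mul_mem h1 h2)
    · exact .inr (by simpa [mul_assoc] using mul_mem h1 h2)
    · exact .inr (by simpa [mul_assoc] using mul_mem h1 (c1 y h2))
    · exact .inl (by simpa [mul_assoc] using mul_mem (mul_mem h1 (c1 _ h2)) s)
  | inv x _ h =>
    rcases h with h | h
    · exact .inl (inv_mem h)
    · exact .inr (by simpa [mul_assoc] using mul_mem (c2 _ (inv_mem h)) (inv_mem s))

theorem Rl.mem_iff (h : Rl D gs) {x : G} : x ∈ gen gs ↔ ∃ m < 2 ^ gs.length, evL gs m = x := by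
  refine ⟨fun hx => ?_, fun ⟨m, _, e⟩ => e ▸ evL_mem _ _⟩
  induction h generalizing x with
  | nil => exact ⟨0, by simp, (by simpa [gen] using hx : x = 1).symm⟩
  | snoc _ a b ih =>
    rw [List.length_append, List.length_singleton, pow_succ]
    rcases Id.gen_snoc a b hx with h | h <;> obtain ⟨m, hm, e⟩ := ih h
    · exact ⟨m, by omega, (evL_append_lt _ _ hm).trans e⟩
    · exact ⟨_, by omega, (evL_snoc_add _ _ hm).trans (by rw [e, inv_mul_cancel_right])⟩

theorem Sat.injI (h : Sat D gs) :
    ∀ x < 2 ^ gs.length, ∀ y < 2 ^ gs.length, evL gs x = evL gs y → x = y := by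
  induction h with
  | nil => intro x hx y hy _; simp at hx hy; omega
  | @snoc D gs β sq g h a b n ih =>
    have k : ∀ x y, evL gs x ≠ evL gs y * g := fun x y e => by
      obtain ⟨m, -, e'⟩ := h.rl.mem_iff.1 (mul_mem (inv_mem (evL_mem gs y)) (evL_mem gs x))
      exact n m (by rw [e', e, inv_mul_cancel_left])
    intro x hx y hy e
    rw [List.length_append, List.length_singleton] at hx hy
    replace hx := lt_or_add hx
    replace hy := lt_or_add hy
    obtain hx | ⟨x, hx, rfl⟩ := hx <;> obtain hy | ⟨y, hy, rfl⟩ := hy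
    · exact ih x hx y hy (by rwa [evL_append_lt _ _ hx, evL_append_lt _ _ hy] at e)
    · exact absurd (by rwa [evL_append_lt _ _ hx, evL_snoc_add _ _ hy] at e) (k x y)
    · exact absurd (by rwa [evL_append_lt _ _ hy, evL_snoc_add _ _ hx, eq_comm] at e) (k y x)
    · rw [evL_snoc_add _ _ hx, evL_snoc_add _ _ hy, mul_left_inj] at e
      rw [ih x hx y hy e]

theorem Rl.surj (h : Rl D gs) : Function.Surjective
    fun i : Fin (2 ^ gs.length) => (⟨evL gs i, evL_mem _ _⟩ : gen gs) := fun x => by
  obtain ⟨m, hm, e⟩ := h.mem_iff.1 x.2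
  exact ⟨⟨m, hm⟩, Subtype.ext e⟩

theorem Sat.cardI (h : Sat D gs) : Nat.card (gen gs) = 2 ^ gs.length := by
  rw [← Nat.card_congr (Equiv.ofBijective _ ⟨fun i j e =>
    Fin.ext (h.injI i i.2 j j.2 (congrArg Subtype.val e)), h.rl.surj⟩), Nat.card_fin]

theorem Rl.card_le (h : Rl D gs) : Nat.card (gen gs) ≤ 2 ^ gs.length := by
  simpa using Nat.card_le_card_of_surjective _ h.surj

theorem Rl.sat (h : Rl D gs) (c : 2 ^ gs.length ≤ Nat.card (gen gs)) : Sat D gs := by
  induction h with
  | nil => exact .nil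
  | @snoc D gs β sq g h a b ih =>
    rw [List.length_append, List.length_singleton, pow_succ] at c
    have := Finite.of_surjective _ h.surj
    have f : Function.Surjective fun p : gen gs × Bool =>
        (⟨p.1 * (if p.2 then g else 1), mul_mem (closure_mono (fun _ => List.mem_append_left _)
          p.1.2) (by split_ifs; exacts [subset_closure (by simp), one_mem _])⟩ :
            gen (gs ++ [g])) := fun x => by
      rcases Id.gen_snoc a b x.2 with k | k
      exacts [⟨(⟨_, k⟩, false), by simp⟩, ⟨(⟨_, k⟩, true), by simp⟩]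
    have d := Nat.card_le_card_of_surjective _ f
    rw [Nat.card_prod, Nat.card_eq_fintype_card (α := Bool), Fintype.card_bool] at d
    refine (ih (by omega)).snoc a b fun m e => ?_
    have l : gen (gs ++ [g]) ≤ gen gs := (closure_le _).2 fun x hx => by
      rcases List.mem_append.1 hx with k | k
      · exact subset_closure k
      · rw [List.mem_singleton.1 k, e]; exact evL_mem _ _
    have := card_le_of_le l
    have := h.card_le
    have : 0 < 2 ^ gs.length := by positivity
    omega

theorem Sat.snoc_invI {β : List ℕ} {sq : ℕ} (h : Sat (D ++ [(β, sq)]) gs) : ∃ ks g, gs = ks ++ [g] ∧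
    Sat D ks ∧ List.Forall₂ (fun x b => g * x * g⁻¹ = evL ks b) ks β ∧ g * g = evL ks sq ∧
      ∀ m, g ≠ evL ks m := by
  generalize e : D ++ [(β, sq)] = D' at h
  cases h with
  | nil => simp at e
  | snoc h a b n =>
    obtain ⟨rfl, e'⟩ := List.append_inj' e rfl
    cases e'
    exact ⟨_, _, rfl, h, a, b, n⟩

theorem Sat.of_mapI {f : G →* H} (hf : Function.Injective f) (h : Sat D (gs.map f)) : Sat D gs := by
  generalize e : gs.map f = hs at h
  induction h generalizing gs with
  | nil => rw [List.map_eq_nil_iff.1 e]; exact .nil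
  | snoc _ a b n ih =>
    obtain ⟨ks, l, rfl, rfl, e'⟩ := List.map_eq_append_iff.1 e
    obtain ⟨g, rfl, rfl⟩ := List.map_eq_singleton_iff.1 e'
    refine (ih rfl).snoc ((List.forall₂_map_left_iff.1 a).imp fun x c k => hf ?_) (hf ?_)
      fun m k => n m ?_
    · rw [map_mul, map_mul, map_inv, k, Id.map_evL]
    · rw [map_mul, b, Id.map_evL]
    · rw [k, Id.map_evL]

theorem Sat.mapI {f : G →* H} (hf : Function.Injective f) (h : Sat D gs) : Sat D (gs.map f) := by
  induction h with
  | nil => exact .nil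
  | snoc _ a b n ih =>
    rw [List.map_append]
    refine ih.snoc (List.forall₂_map_left_iff.2 (a.imp fun x c k => ?_)) ?_ fun m k => n m (hf ?_)
    · rw [← Id.map_evL, ← k, map_mul, map_mul, map_inv]
    · rw [← Id.map_evL, ← b, map_mul]
    · rw [k, Id.map_evL]

theorem Sat.prodI {hs : List H} (h : Sat D gs) (h' : Sat D hs) : ∃ ds : List (G × H), Sat D ds ∧
    ds.map (MonoidHom.fst G H) = gs ∧ ds.map (MonoidHom.snd G H) = hs := by
  induction h generalizing hs with
  | nil =>
    have := h'.len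
    exact ⟨[], .nil, rfl, (List.length_eq_zero_iff.1 this).symm⟩
  | @snoc D gs β sq g _ a b n ih =>
    obtain ⟨ks, k, rfl, h1, a', b', -⟩ := h'.snoc_invI
    obtain ⟨ds, h2, rfl, rfl⟩ := ih h1
    refine ⟨ds ++ [(g, k)], h2.snoc ?_ (Prod.ext (b.trans (Id.map_evL _ _ _).symm)
      (b'.trans (Id.map_evL _ _ _).symm)) fun m e => n m ?_, by simp, by simp⟩
    · rw [List.forall₂_map_left_iff] at a a'
      rw [List.forall₂_iff_get] at a a' ⊢
      exact ⟨a.1, fun i h3 h4 => Prod.ext ((a.2 i h3 h4).trans (Id.map_evL _ _ _).symm)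
        ((a'.2 i h3 h4).trans (Id.map_evL _ _ _).symm)⟩
    · rw [← Id.map_evL, ← e]; rfl

theorem Sat.equiv_map (f : G →* H) (h : Sat D gs) (h' : Sat D (gs.map f)) :
    Nonempty (gen gs ≃* gen (gs.map f)) := by
  refine ⟨(MulEquiv.ofBijective (f.subgroupMap (gen gs)) ⟨(injective_iff_map_eq_one _).2 fun x hx => ?_,
    f.subgroupMap_surjective _⟩).trans (MulEquiv.subgroupCongr (Id.map_gen f gs))⟩
  obtain ⟨m, hm, e⟩ := h.rl.mem_iff.1 x.2
  have := h'.injI m (by rwa [List.length_map]) 0 (by positivity) (by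
    rw [← Id.map_evL, e, evL_zero]; exact congrArg Subtype.val hx)
  exact Subtype.ext (by rw [← e, this, evL_zero]; rfl)

/-- two groups generated by lists satisfying the same tower relations are isomorphic -/
theorem Sat.equiv {hs : List H} (h : Sat D gs) (h' : Sat D hs) :
    Nonempty (gen gs ≃* gen hs) := by
  obtain ⟨ds, k, rfl, rfl⟩ := h.prodI h'
  obtain ⟨a⟩ := k.equiv_map _ h
  obtain ⟨b⟩ := k.equiv_map _ h'
  exact ⟨a.symm.trans b⟩

end Cfsg.Lib.L33E
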