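import Cfsg.Agent.L33E.Defs

/-!
# The Boolean tests of the certified climb
-/

set_option autoImplicit false

namespace Cfsg.Lib.L33E

noncomputable section

/-- a test on a candidate `y`; `a`, `b` select products `A`, `B` of the earlier images -/
structure Tst where
  k : ℕ
  a : ℕ
  b : ℕ
  c : ℕ
/-- one level of the search: source of candidates `p` (0 fixed, 1 coset of the first pool, 2 the
whole target, `q + 3` pool `q`), tests, symmetry pool, new pool, and early stop -/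
structure Lv where
  p : ℕ
  b : ℕ
  ts : List Tst
  sym : ℕ
  push : ℕ
  stop : Bool
structure Env where
  s : ℕ
  c : ℕ
  cf : List (ℕ × ℕ)
  nb : List (ℕ × ℕ × ℕ)

def tstK (M : Md) (E : Env) (P0 : List ℕ) (t : Tst) (A B : ℕ) (k : (ℕ → Bool) → Bool) : Bool :=
  cond (Nat.beq t.k 0) (M.cjT A B k) <| M.rm A fun ra =>
  cond (Nat.beq t.k 1) (k fun y => frc (ra y) fun v => Nat.beq (M.mul v v) B) <|
  cond (Nat.beq t.k 2) (k fun y => !Nat.beq (ra y) B) <|
  cond (Nat.beq t.k 3) (k fun y => frc (ra y) fun v => !Nat.beq (M.mul v v) B) <|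
  cond (Nat.beq t.k 4) (frc (E.cf.getD t.c (0, 0)).2 fun Z => k fun y => bit Z (ra y)) <|
  cond (Nat.beq t.k 5) (frc (l1 M.W B) fun w => cond (Nat.beq (M.cj B w) 1)
    (k fun y => frc (ra y) fun u => frc (M.cj u w) fun v =>
      Nat.ble (pw E.s) v || Nat.beq (Nat.land v 33) t.c) (k fun _ => true)) <|
  cond (Nat.beq t.k 6) (k fun y => Nat.beq (par (Nat.land (ra y) E.c)) t.c) <|
  cond (Nat.beq t.k 7) (k fun y => frc (ra y) fun v => frc (l1 M.W v) fun w =>
    !Nat.beq (M.cj v w) 1 || frc (M.cj B w) fun u =>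
      Nat.ble (pw E.s) u || Nat.beq (Nat.land u 33) t.c) <|
  cond (Nat.beq t.k 8) (k fun y => frc (ra y) fun v => M.cjT v v fun p =>
    Nat.ble (cntL p P0) (E.nb.getD t.c (0, 0, 0)).2.2) <|
  k fun y => frc (ra y) fun v => Nat.beq (M.sig v) t.c

/-- the test is justified by the source element `x` (`x0` is the first source element) -/
def srcT (M : Md) (E : Env) (x0 : ℕ) (t : Tst) (A B x : ℕ) : Bool :=
  cond (Nat.beq t.k 4) (Nat.blt t.c E.cf.length &&
    Nat.beq (E.cf.getD t.c (0, 0)).1 (M.mul x A)) <|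
  cond (Nat.beq t.k 5) (Nat.beq B 1 && Nat.blt (M.mul x A) (pw E.s) &&
    Nat.beq (Nat.land (M.mul x A) 33) t.c) <|
  cond (Nat.beq t.k 7) (Nat.beq (M.mul x A) 1 && Nat.blt B (pw E.s) &&
    Nat.beq (Nat.land B 33) t.c) <|
  cond (Nat.beq t.k 8) (Nat.blt t.c E.nb.length && Nat.beq (E.nb.getD t.c (0, 0, 0)).1 x0 &&
    Nat.beq (E.nb.getD t.c (0, 0, 0)).2.1 (M.mul x A)) <|
  tstK M E [] t A B fun p => p x

def filT (M : Md) (E : Env) (P0 ys : List ℕ) (ts : List Tst) (k : List ℕ → Bool) :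
    List ℕ → Bool :=
  List.rec k (fun t _ ih cs => List.casesOn cs true fun _ _ =>
    frc (M.ev ys t.a) fun A => frc (M.ev ys t.b) fun B => tstK M E P0 t A B fun p =>
      filL p cs ih) ts

def candK (M : Md) (Tm : ℕ) (TL : List ℕ) (L : Lv) (st ys : List ℕ) (pl : List (List ℕ))
    (k : List ℕ → Bool) : Bool :=
  cond (Nat.beq L.p 0) (List.casesOn st false fun y _ => k [y]) <|
  cond (Nat.beq L.p 1) (frc (ys.headD 0) fun y0 => frc (M.ev ys L.b) fun B =>
    cond (!Nat.beq (l1 M.Lab y0) 0 && !Nat.beq (l1 M.Lab B) (l1 M.Lab y0)) true <|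
      frc (M.mul (l1 M.W B) (M.inv (l1 M.W y0))) fun w =>
        bit Tm w && Nat.beq (M.mul w y0) (M.mul B w) && frc (M.inv w) fun w' =>
          M.rm w' fun r => mapK (fun u => M.inv (r u)) (pl.headD []) k) <|
  cond (Nat.beq L.p 2) (k TL) (k (pl.getD (Nat.sub L.p 3) []))

/-- members `y` of a list with `y a = b y` for all pairs `(a, b)` -/
def filC (M : Md) (ab : List (ℕ × ℕ)) (k : List ℕ → Bool) : List ℕ → Bool :=
  List.rec k (fun p _ ih U => M.cjT p.1 p.2 fun q => filL q U ih) ab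

def symK (M : Md) (Am : ℕ) (L : Lv) (ys : List ℕ) (pl : List (List ℕ))
    (k : (ℕ → Bool) → Bool) : Bool :=
  cond (Nat.beq L.sym 0) (k fun _ => false) <|
    filL (bit Am) (pl.getD (Nat.sub L.sym 1) []) <| filC M (ys.zip ys) fun U =>
      k fun y => M.rm y fun r => anyL (fun w => frc (r (M.inv w)) fun u => Nat.blt (M.mul u w) y) U

def pushK (M : Md) (TL : List ℕ) (q y : ℕ) (pl : List (List ℕ)) (k : List (List ℕ) → Bool) :
    Bool :=
  cond (Nat.beq q 0) (k pl) <| M.cjT y y fun p =>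
    filL p (cond (Nat.beq q 1) TL (pl.getD (Nat.sub q 2) [])) fun U => k (pl ++ [U])

def run (M : Md) (E : Env) (Tm Am : ℕ) (TL : List ℕ) (outs : List (List ℕ)) (Ls : List Lv) :
    List ℕ → List ℕ → List (List ℕ) → Bool :=
  List.rec (fun _ ys _ => memL ys outs) (fun L _ ih st ys pl =>
    candK M Tm TL L st ys pl <| filT M E (pl.headD []) ys L.ts fun cs =>
      symK M Am L ys pl fun sk => allL (fun y => sk y || mapK id (ys ++ [y]) fun ys' =>
        (L.stop && memL ys' outs) || pushK M TL L.push y pl (ih st.tail ys')) cs) Ls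

def run0 (M : Md) (E : Env) (Tm Am : ℕ) (TL : List ℕ) (outs : List (List ℕ)) (Ls : List Lv)
    (lb : ℕ) (st : List ℕ) : Bool :=
  List.casesOn st false fun y0 st' => M.cjT y0 y0 fun p => filL p TL fun U =>
    Nat.blt U.length lb || memL [y0] outs || run M E Tm Am TL outs Ls st' [y0] [U]

def src (M : Md) (E : Env) (m x0 : ℕ) (Ls : List Lv) :
    List ℕ → List ℕ → List (List ℕ) → Bool :=
  List.rec (fun _ _ _ => true) (fun L _ ih xs pre al => List.casesOn xs false fun x xs' =>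
    cond (Nat.beq L.p 0) (Nat.blt pre.length m) (cond (Nat.beq L.p 1)
      (Nat.beq (M.mul x x0) (M.mul (M.ev pre L.b) x)) (cond (Nat.beq L.p 2) true
        (Nat.blt (Nat.sub L.p 3) al.length && allL (M.cm x) (al.getD (Nat.sub L.p 3) [])))) &&
    (Nat.beq L.sym 0 || Nat.ble m pre.length) &&
    allL (fun t => frc (M.ev pre t.a) fun A => frc (M.ev pre t.b) fun B => srcT M E x0 t A B x)
      L.ts &&
    cond (Nat.beq L.push 0) (ih xs' (pre ++ [x]) al) (cond (Nat.beq L.push 1)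
      (ih xs' (pre ++ [x]) (al ++ [[x]])) (Nat.blt (Nat.sub L.push 2) al.length &&
        ih xs' (pre ++ [x]) (al ++ [x :: al.getD (Nat.sub L.push 2) []])))) Ls

/-- the search through all images of `xs` whose first `m` members are given by one of `sts` -/
def dfs (M : Md) (E : Env) (Tm Am : ℕ) (xs : List ℕ) (Ls : List Lv) (lb m : ℕ)
    (sts outs : List (List ℕ)) : Bool :=
  M.bnd xs && allL M.bnd sts && allL M.bnd outs && Nat.ble 1 m && Nat.ble m xs.length &&
  allL (fun st => Nat.beq st.length m) sts &&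
  src M E m (xs.headD 0) Ls xs.tail [xs.headD 0] [[xs.headD 0]] &&
  filN (bit Tm) M.N fun TL => allL (run0 M E Tm Am TL outs Ls lb) sts

abbrev Pr := List ℕ × List ℕ
def preOK (xs : List ℕ) (outs : List Pr) : Bool :=
  allL (fun F => eqL F.1 (xs.take F.2.length)) outs
def full (N : ℕ) : ℕ := Nat.sub (pw N) 1
/-- `as` are the products of `bs` selected by `ms` -/
def Md.by (M : Md) (bs ms as : List ℕ) : Bool := all2 (fun m a => Nat.beq (M.ev bs m) a) ms as

def chkDer (M : Md) (Fs : List Pr) (steps : List (ℕ × ℕ × List ℕ)) (F : Pr) : Bool :=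
  M.bnd F.1 && allL (fun F => M.bnd F.1 && M.bnd F.2) Fs &&
  List.rec (motive := fun _ => List ℕ → Bool) (fun cur => eqL cur F.2) (fun s _ ih cur =>
    cond (Nat.beq s.1 0) (Nat.blt s.2.1 M.N && mapK (fun x => M.cj x s.2.1) cur ih) <|
    cond (Nat.beq s.1 1)
      (M.by (Fs.getD s.2.1 ([], [])).1 s.2.2 cur && mapK (M.ev (Fs.getD s.2.1 ([], [])).2) s.2.2 ih)
      (M.by (Fs.getD s.2.1 ([], [])).2 s.2.2 cur &&
        mapK (M.ev (Fs.getD s.2.1 ([], [])).1) s.2.2 ih)) steps F.1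

/-- elements known to lie in the normal subgroup of index at most two -/
def xel (M : Md) (Fs : List Pr) (e : ℕ × ℕ × ℕ) : ℕ :=
  cond (Nat.beq e.1 0) (M.mul e.2.1 e.2.1) <| cond (Nat.beq e.1 1)
    (M.mul (M.inv e.2.1) (M.cj e.2.1 e.2.2))
    (M.mul (M.inv (M.ev (Fs.getD e.2.1 ([], [])).1 e.2.2)) (M.ev (Fs.getD e.2.1 ([], [])).2 e.2.2))
def chkX (M : Md) (Fs : List Pr) (K : List (ℕ × ℕ × ℕ)) (cs : List ℕ) : Bool :=
  allL (fun F => M.bnd F.1 && M.bnd F.2) Fs &&
  allL (fun e => Nat.ble 2 e.1 || (Nat.blt e.2.1 M.N && Nat.blt e.2.2 M.N)) K &&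
  mapK (xel M Fs) K fun Kx => allN (fun c => anyL (fun x => Nat.beq (par (Nat.land x c)) 1) Kx ||
    memN c cs || (!Nat.beq c 0 && Nat.beq (Nat.land c 1) 0)) M.N

def chkBig (M : Md) (s e : ℕ) (cs : List ℕ) : Bool :=
  Nat.blt e M.N && Nat.blt s cs.length && allL (M.cm e) cs && M.low cs

def chkCF (M : Md) (xZ : ℕ × ℕ) (reps : List ℕ) : Bool :=
  Nat.blt xZ.1 M.N && frc (M.sig xZ.1) fun sx => allN (fun y => bit xZ.2 y ||
    !Nat.beq (M.sig y) sx || frc (l1 M.W y) fun w => frc (M.cj y w) fun r => memN r reps) M.N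

def chkExtr (M : Md) (E : Env) (xs : List ℕ) (Ls : List Lv) (outs : List Pr) : Bool :=
  allL (M.cm (xs.headD 0)) xs && preOK xs outs && frc (full (pw E.s)) fun Sm =>
    dfs M E Sm Sm xs Ls 0 1 [[1]] (outs.map Prod.snd)

def chkLoc (M : Md) (E : Env) (xs : List ℕ) (Ls : List Lv) (outs : List (List ℕ)) (m : ℕ) : Bool :=
  Nat.beq (xs.headD 0) 1 && allL (M.cm 1) xs &&
  allL (fun o => Nat.beq o.length xs.length && M.sub o fun _ mk =>
    allN (fun x => bit mk x || anyL (fun y => !M.cm x y) o) (pw E.s) &&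
    filN (fun x => allL (fun y => bit mk (M.cj y x)) o) (pw E.s) fun l => Nat.ble l.length m) outs &&
  frc (full (pw E.s)) fun Sm => dfs M E Sm Sm xs Ls 0 1 [[1]] outs

def chkNbp (M : Md) (s v m : ℕ) : Bool :=
  Nat.blt v (pw s) && allN (fun y => !Nat.beq (Nat.land y 33) (Nat.land v 33) ||
    !Nat.beq (M.sig y) (M.sig v) || M.cjT y y fun p => filN p (pw s) fun l => Nat.ble l.length m)
    (pw s)

def chkScM (M : Md) (as bs qs m1 m2 : List ℕ) : Bool :=
  M.bnd bs && M.bnd qs && M.by bs m1 as && M.by qs m2 as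
def chkSyM (M : Md) (bs qs : List ℕ) : Bool :=
  M.sub bs (fun _ mb => allL (fun g => allL (fun b => bit mb (M.cj b g)) bs) (gens M.n)) &&
  M.sub qs fun _ mq => filN (fun _ => true) M.N <| filC M (bs.zip bs) (allL (bit mq))

/-- the map `bs ↦ as` carries conjugation by `q` to conjugation by `e.1` -/
def nrmT (M : Md) (bs as : List ℕ) (mq : ℕ) (q : ℕ) (e : ℕ × List ℕ) : Bool :=
  Nat.blt e.1 M.N && bit mq e.1 && mapK (fun b => M.cj b q) bs (M.by bs e.2) &&
    mapK (fun a => M.cj a e.1) as (M.by as e.2)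

def chkFrat (M : Md) (E : Env) (bs as qs xs : List ℕ) (nw : List (ℕ × List ℕ)) (Ls : List Lv)
    (outs : List Pr) : Bool :=
  eqL bs (xs.take bs.length) && preOK xs outs && M.bnd as && M.sub bs fun _ mb =>
    allL (bit mb) as && M.sub qs fun _ mq => allL (bit mq) xs && all2 (nrmT M bs as mq) qs nw &&
      dfs M E mq mq xs Ls 0 bs.length [as] (outs.map Prod.snd)

def chkRb (M : Md) (σ : List ℕ) (D : Tw) : Bool :=
  all2 (fun (kx : ℕ × ℕ) (lv : List ℕ × ℕ) => mapK id (σ.take kx.1) fun pre =>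
    Nat.beq (M.mul kx.2 kx.2) (M.ev pre lv.2) &&
    all2 (fun x b => Nat.beq (M.mul kx.2 x) (M.mul (M.ev pre b) kx.2)) pre lv.1)
    ((List.range σ.length).zip σ) D && M.low σ

abbrev Kd := List ℕ × List ℕ × ℕ
def kidE (M : Md) (β : List ℕ) (kids : List Kd) (sq : ℕ) (e : ℕ × ℕ × ℕ) : Bool :=
  Nat.beq e.1 sq && Nat.blt e.2.1 M.N && Nat.blt e.2.2 kids.length &&
  all2 (fun x b => Nat.beq (M.mul e.2.1 (M.ev β x))
    (M.mul (M.ev (kids.getD e.2.2 ([], [], 0)).1 b) e.2.1))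
    (kids.getD e.2.2 ([], [], 0)).1 (kids.getD e.2.2 ([], [], 0)).2.1 &&
  Nat.beq (M.mul (M.mul e.2.1 (M.ev β e.2.1)) sq)
    (M.ev (kids.getD e.2.2 ([], [], 0)).1 (kids.getD e.2.2 ([], [], 0)).2.2)
/-- a leaf `lf.1` (images of `xs`) with all possible squares leads to one of `kids` -/
def leafK (M : Md) (s : ℕ) (ms : List ℕ) (kids : List Kd) (lf : List ℕ × List (ℕ × ℕ × ℕ)) :
    Bool :=
  mapK (M.ev lf.1) ms fun β => frc (β.headD 0) fun b0 => Nat.beq (M.cj b0 (l1 M.W b0)) 1 ||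
    mapK (M.ev β) β fun β2 => frc (β2.headD 0) fun e =>
      cond (!Nat.beq (l1 M.Lab 1) 0 && !Nat.beq (l1 M.Lab e) (l1 M.Lab 1)) true <|
        frc (M.mul (l1 M.W e) (M.inv (l1 M.W 1))) fun w => Nat.beq (M.mul w 1) (M.mul e w) &&
          frc (M.inv w) fun w' => M.rm w' fun r => filN (fun _ => true) (pw s) fun S =>
            mapK (fun u => M.inv (r u)) S <| filC M ((gens M.n).zip β2) <|
              allL fun sq => !Nat.beq (M.ev β sq) sq || anyL (kidE M β kids sq) lf.2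
def chkKid (M : Md) (D : Tw) (s : ℕ) (xs ms : List ℕ)
    (leaves : List (List ℕ × List (ℕ × ℕ × ℕ))) (kids : List Kd) : Bool :=
  M.bnd xs && M.by xs ms (gens M.n) &&
  allL (fun kd => Nat.beq kd.1.length M.n && (eqL kd.1 (gens M.n) || chkRb M kd.1 D)) kids &&
  allL (fun lf => Nat.beq lf.1.length xs.length && M.bnd lf.1 && leafK M s ms kids lf) leaves

def chkLift (M : Md) (D : Tw) (E : Env) (bs as xs : List ℕ) (nw : List (ℕ × List ℕ)) (w2 : ℕ)
    (m2 : List ℕ) (Ls : List Lv) (stops : List Pr) (ms : List ℕ)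
    (leaves : List (List ℕ × List (ℕ × ℕ × ℕ))) (kids : List Kd) : Bool :=
  eqL bs (xs.take bs.length) && preOK xs stops && M.bnd bs && M.bnd as && Nat.blt w2 M.N &&
  M.by bs m2 as && mapK (fun b => M.cj b w2) bs (M.by as m2) &&
  filN (fun _ => true) M.N (filC M (as.zip bs) List.isEmpty) &&
  chkKid M D E.s xs ms leaves kids && frc (full M.N) fun Tm =>
    all2 (nrmT M bs as Tm) (gens M.n) nw &&
    dfs M E Tm Tm xs Ls 0 bs.length [as] (stops.map Prod.snd ++ leaves.map Prod.fst)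

def chkSyl (M : Md) (D : Tw) (E : Env) (xs : List ℕ) (zi : ℕ) (reps : List ℕ) (Ls : List Lv)
    (stops : List Pr) (ms : List ℕ) (leaves : List (List ℕ × List (ℕ × ℕ × ℕ)))
    (kids : List Kd) : Bool :=
  Nat.beq (xs.headD 0) 1 && preOK xs stops && Nat.blt zi E.cf.length &&
  Nat.beq (E.cf.getD zi (0, 0)).1 1 && frc (E.cf.getD zi (0, 0)).2 (fun Z =>
    allN (fun e => !bit Z e || frc (M.cj e (l1 M.W e)) fun r => Nat.beq r 1 || memN r reps) M.N) &&
  chkKid M D E.s xs ms leaves kids && frc (full M.N) fun Tm =>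
    dfs M E Tm Tm xs Ls (pw E.s) 1 (reps.map fun e => [e])
      (stops.map Prod.snd ++ leaves.map Prod.fst)

/-- `La` is a homomorphism to `ℤ/4` on the codes `x` with `par (x &&& c) = 0` -/
def chkHom (M : Md) (c La om : ℕ) : Bool :=
  Nat.beq (l2 La 0) 0 && allN (fun i => M.rm (pw i) fun r =>
    frc (l2 om (Nat.mul 2 i)) fun o0 => frc (l2 om (Nat.succ (Nat.mul 2 i))) fun o1 =>
      allN (fun x => Nat.beq (l2 La (r x)) (Nat.land (Nat.add (l2 La x)
        (cond (Nat.beq (par (Nat.land x c)) 0) o0 o1)) 3)) M.N) M.n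

/-- transfer: `c = 0` (whole group) or `c = E.c` (the normal subgroup) -/
def chkTT (M : Md) (E : Env) (c La om Wt : ℕ) (xs lbs reps : List ℕ) (zi zj : ℕ) (Ls : List Lv)
    (outs : List Pr) : Bool :=
  (Nat.beq c 0 || Nat.beq c E.c) && preOK xs outs && M.bnd xs && M.low lbs &&
  chkHom M c La om && frc (xs.headD 0) fun u => frc (M.sig u) fun su =>
    Nat.beq (par (Nat.land u E.c)) 0 &&
    allL (fun x => Nat.beq (par (Nat.land x c)) 0 && M.cm u x) (xs ++ lbs) &&
    (Nat.beq su 1 || (Nat.beq su 2 && Nat.blt zi E.cf.length &&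
      Nat.beq (E.cf.getD zi (0, 0)).1 (M.mul u u) && frc (E.cf.getD zi (0, 0)).2 fun Z =>
        allN (fun y => !Nat.beq (par (Nat.land y c)) 0 || (Nat.beq (Nat.land (l2 La y) 1) 0 &&
          (!bit Z y || Nat.beq (l2 La y) 0))) M.N)) &&
    frc (cond (Nat.blt zj E.cf.length && Nat.beq (E.cf.getD zj (0, 0)).1 u)
      (E.cf.getD zj (0, 0)).2 (full M.N)) (fun Z =>
      allN (fun e => !Nat.beq (l2 La e) 0 || !Nat.beq (par (Nat.land e E.c)) 0 || !bit Z e ||
        !Nat.beq (M.sig e) su || frc (l1 Wt e) fun w => Nat.blt w M.N &&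
          Nat.beq (par (Nat.land w c)) 0 && frc (M.cj e w) fun r => memN r reps) M.N) &&
    filN (fun x => Nat.beq (par (Nat.land x c)) 0) M.N fun TL => frc (maskL TL) fun Tm =>
      dfs M E Tm Tm xs Ls (pw lbs.length) 1 (reps.map fun e => [e]) (outs.map Prod.snd)

/-- `Fs` lists pairs (images of `bs`, their masks); `L` is the group they generate -/
def chkStab (M : Md) (bs fx fm zs : List ℕ) (Fs : List Pr) (L : List (List ℕ))
    (pa : List (ℕ × ℕ)) (k m : ℕ) : Bool :=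
  M.bnd bs && M.by bs fm fx && allL (fun F => M.bnd F.1 && M.by bs F.2 F.1 && M.by F.1 fm fx) Fs &&
  M.low zs && allL (fun z => allL (M.cm z) bs) zs && allL M.bnd L &&
  eqL (L.headD []) bs && Nat.blt 0 L.length &&
  all2 (fun (jo : ℕ × List ℕ) (p : ℕ × ℕ) => Nat.ble p.1 jo.1 && Nat.blt p.2 Fs.length &&
    M.by (L.getD p.1 []) (Fs.getD p.2 ([], [])).2 jo.2) ((List.range L.tail.length).zip L.tail) pa &&
  List.rec (motive := fun _ => Bool) true (fun o l ih => !memL o l && ih) L &&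
  allL (fun o => allL (fun F => mapK (M.ev o) F.2 fun o' => memL o' L) Fs) L &&
  Nat.beq (Nat.mod L.length (pw k)) 0 && Nat.blt m (pw (Nat.add k zs.length))

def chkTr (M : Md) (σ : List ℕ) (F' F : Pr) : Bool :=
  M.bnd σ && allL (fun x => Nat.blt x (pw σ.length)) (F'.1 ++ F'.2) &&
    M.by σ F'.1 F.1 && M.by σ F'.2 F.2
def chkStK (M : Md) (s : ℕ) (σ : List ℕ) (tb : ℕ) (F1 F2 : Pr) : Bool :=
  Nat.ble s σ.length && Nat.beq (σ.headD 0) 1 &&
  allN (fun x => frc (M.ev σ x) fun v => Nat.blt v (pw s) &&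
    Nat.beq (Nat.land x 33) (l1 tb (Nat.land v 33))) (pw s) &&
  chkTr M σ ([1, 2, 4], [1, 4, 6]) F1 && chkTr M σ ([1, 2, 8, 16], [1, 2, 16, 24]) F2

def inT (c x : ℕ) : Bool := Nat.beq (par (Nat.land x c)) 0
/-- the centraliser of `as` among the codes selected by `c` lies in the group generated -/
def selfC (M : Md) (c : ℕ) (as : List ℕ) : Bool :=
  allL (inT c) as && M.low as && M.sub as fun _ m =>
    filN (inT c) M.N <| filC M (as.zip as) (allL (bit m))
def chkR32 (M : Md) (c : ℕ) (as : List ℕ) : Bool :=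
  Nat.beq as.length 3 && allL (fun a => Nat.beq (M.mul a a) 0 && allL (M.cm a) as) as &&
    selfC M c as
def q8T (M : Md) (z i j : ℕ) : Bool :=
  Nat.beq (M.mul i i) z && Nat.beq (M.mul j j) z && Nat.beq (M.mul (M.mul i j) i) j
def chkR33 (M : Md) (c z i j i' j' : ℕ) : Bool :=
  Nat.beq (M.mul z z) 0 && q8T M z i j && q8T M z i' j' && M.cm i i' && M.cm i j' && M.cm j i' &&
    M.cm j j' && selfC M c [z, i, j, i', j']
/-- `[x^(2^(k-1)), .., x^2, x]` -/
def seg (M : Md) (k : ℕ) : ℕ → List ℕ :=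
  Nat.rec (fun _ => []) (fun _ ih x => frc (M.mul x x) fun y => ih y ++ [x]) k
/-- a series with at most four cyclic factors ending in the group selected by `c` -/
def chkRc (M : Md) (c : ℕ) (cs : List (ℕ × ℕ)) : Bool :=
  Nat.ble cs.length 4 && List.rec (motive := fun _ => List ℕ → Bool)
    (fun pre => M.spanL pre fun l => frc (maskL l) fun m => filN (inT c) M.N (allL (bit m)))
    (fun x _ ih pre => Nat.blt x.1 M.N && M.spanL pre (fun l => frc (maskL l) fun m =>
      allL (fun y => bit m (M.cj y x.1)) pre) && mapK id (pre ++ seg M x.2 x.1) ih) cs []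
def chkCl2 (M : Md) (c : ℕ) (ts : List ℕ) : Bool :=
  Nat.beq (Nat.land c 1) 1 && (Nat.beq M.n 8 || Nat.beq M.n 9) && allL (inT c) ts &&
  M.sub ts (fun _ m => filN (inT c) M.N (allL (bit m))) &&
  anyL (fun a => anyL (fun b => !M.cm a b) ts) ts &&
  allL (fun a => allL (fun b => frc (M.mul (M.inv a) (M.cj a b)) fun k => allL (M.cm k) ts) ts) ts
def chkId (M : Md) (c : ℕ) (σ : List ℕ) (D : Tw) : Bool :=
  M.bnd σ && allL (inT c) σ && chkRb M σ D && ((Nat.beq c 0 && Nat.beq σ.length M.n) ||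
    (Nat.beq (Nat.land c 1) 1 && Nat.beq (Nat.succ σ.length) M.n))

variable {G : Type*} [Group G]

def FusC (gs : List G) (F : Pr) : Prop := Fus (F.1.map (evL gs)) (F.2.map (evL gs))
def EnvOK (E : Env) (gs : List G) : Prop :=
  Kap E.s gs ∧ XP gs E.c ∧ AllL E.cf (CF gs) ∧
    AllL E.nb fun e => NB [evL gs e.1, evL gs e.2.1] [] e.2.2
def Kid (D : Tw) (gs : List G) (kd : Kd) : Prop :=
  ∃ k : G, Sat (D ++ [kd.2]) (kd.1.map (evL gs) ++ [k])
/-- `g` normalises the group generated by `gs`, lies outside it, with square inside -/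
def Up (gs : List G) (g : G) : Prop :=
  (∀ x ∈ gen gs, g⁻¹ * x * g ∈ gen gs) ∧ g ∉ gen gs ∧ g * g ∈ gen gs

end

end Cfsg.Lib.L33E
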