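import Cfsg.Agent.L33E.R1C12

set_option autoImplicit false
set_option maxRecDepth 100000
set_option linter.all false
set_option Elab.async false

namespace Cfsg.Lib.L33E

theorem c20005751 : chkFrat M20086 E20000005 [33,35,64] [64,35,66] [33,35,64,458,251,654,879,1011,999] [33,35,64,458,251,654,879,1011,999] [(0,[1,2,4]),(0,[1,2,4]),(0,[1,2,4]),(256,[7,4,2]),(0,[1,2,4]),(272,[2,1,7]),(16,[4,7,1]),(16,[4,7,1]),(256,[7,4,2])] [⟨0,0,[],0,0,false⟩,⟨0,0,[],0,2,false⟩,⟨2,0,[⟨0,1,7,0⟩,⟨1,0,3,0⟩],2,0,false⟩,⟨4,0,[⟨0,8,14,0⟩,⟨1,0,6,0⟩],0,0,false⟩,⟨2,0,[⟨0,1,2,0⟩,⟨0,8,29,0⟩,⟨0,16,16,0⟩],2,0,false⟩] [] = true := by decide +kernel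
theorem c20006352 : chkSyl M20086 D20086 E20005740 [1,2,4,8,16,32,64,128,256,512] 0 [32] [⟨3,0,[⟨4,0,0,1⟩,⟨4,1,0,2⟩],0,0,false⟩,⟨3,0,[⟨4,0,0,3⟩,⟨4,1,0,4⟩,⟨4,2,0,5⟩],1,2,false⟩,⟨3,0,[⟨4,4,0,6⟩,⟨4,5,0,7⟩,⟨4,6,0,8⟩,⟨0,4,6,0⟩],2,3,false⟩,⟨3,0,[⟨0,4,14,0⟩,⟨0,8,10,0⟩,⟨1,0,2,0⟩],3,0,false⟩,⟨5,0,[⟨4,1,0,9⟩,⟨4,3,0,10⟩,⟨0,16,18,0⟩],0,0,false⟩,⟨1,3,[⟨4,0,0,11⟩,⟨4,40,0,12⟩,⟨4,48,0,13⟩,⟨0,4,4,0⟩],3,0,false⟩,⟨1,106,[⟨4,13,0,14⟩,⟨0,4,111,0⟩],0,0,false⟩,⟨1,122,[⟨4,0,0,15⟩,⟨0,4,148,0⟩],0,0,false⟩,⟨1,7,[⟨4,0,0,16⟩,⟨0,8,105,0⟩,⟨0,16,128,0⟩],0,0,true⟩] [([1,2,4,8,16,32,64,128,256,512],[32,2,4,8,113,3,64,138,377,518]),([1,2,4,8,16,32,64,128,256,512],[32,2,4,8,113,3,64,138,377,516]),([1,2,4,8,16,32,64,128,256,512],[32,2,4,8,113,3,64,138,379,518]),([1,2,4,8,16,32,64,128,256,512],[32,2,4,8,113,3,64,138,379,516])] [1,2,4,8,16,32,64,128,256,512] [([32,2,4,8,113,1,64,225,355,514],[(0,0,0),(2,0,1)]),([32,2,4,8,113,1,64,225,355,512],[(0,0,2),(2,0,3)]),([32,2,4,8,113,1,64,225,353,514],[(0,0,4),(2,0,5)]),([32,2,4,8,113,1,64,225,353,512],[(0,0,6),(2,0,7)])]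 [([1,2,4,8,16,32,64,128,256,512],[32,2,4,8,113,1,64,225,355,514],0),([1,2,4,8,16,32,64,128,256,512],[32,2,4,8,113,1,64,225,355,514],2),([1,2,4,8,16,32,64,128,256,512],[32,2,4,8,113,1,64,225,355,512],0),([1,2,4,8,16,32,64,128,256,512],[32,2,4,8,113,1,64,225,355,512],2),([1,2,4,8,16,32,64,128,256,512],[32,2,4,8,113,1,64,225,353,514],0),([1,2,4,8,16,32,64,128,256,512],[32,2,4,8,113,1,64,225,353,514],2),([1,2,4,8,16,32,64,128,256,512],[32,2,4,8,113,1,64,225,353,512],0),([1,2,4,8,16,32,64,128,256,512],[32,2,4,8,113,1,64,225,353,512],2)] = true := by decide +kernel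
theorem c20006375 : chkTT M20086 E20006372 0 L20006374 0x2002200000 M20086.W [32,1] [] [2,4,97] 99 0 [⟨3,0,[⟨6,0,0,1⟩,⟨4,0,0,1⟩,⟨4,1,0,2⟩],1,2,false⟩] [] = true := by decide +kernel
theorem c20005789 : chkFrat M20086 E20005787 [33,35,64] [64,35,66] [33,35,64,458,251,654,879,1011,999] [33,35,64,458,251,654,879,1011,999] [(0,[1,2,4]),(0,[1,2,4]),(0,[1,2,4]),(256,[7,4,2]),(0,[1,2,4]),(272,[2,1,7]),(16,[4,7,1]),(16,[4,7,1]),(256,[7,4,2])] [⟨0,0,[],0,0,false⟩,⟨0,0,[],0,2,false⟩,⟨2,0,[⟨6,0,0,0⟩,⟨0,1,7,0⟩,⟨1,0,3,0⟩],2,0,false⟩,⟨4,0,[⟨6,0,0,0⟩,⟨0,8,14,0⟩,⟨1,0,6,0⟩],0,0,false⟩,⟨2,0,[⟨6,0,0,1⟩,⟨0,1,2,0⟩,⟨0,8,29,0⟩],2,0,false⟩] [] = true := by decide +kernel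
theorem c20005746 : chkSyM M20086 [33,35,64] [33,35,64,458,251,654,879,1011,999] = true := by decide +kernel
theorem c20005753 : chkSyM M20086 [33,35,64] [33,35,64,658,609,670,518,51,258] = true := by decide +kernel
theorem c20005558 : chkCF M20086 (2,Z20005553) [1] = true := by decide +kernel
theorem c20005735 : chkCF M20086 (256,Z20005553) [1] = true := by decide +kernel
theorem c20005760 : chkCF M20086 (545,Z20005553) [1] = true := by decide +kernel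
theorem c20006167 : chkCF M20086 (33,Z20005553) [1] = true := by decide +kernel
theorem c20006181 : chkCF M20086 (4,Z20005553) [1] = true := by decide +kernel
theorem c20006349 : chkCF M20086 (512,Z20005553) [1] = true := by decide +kernel
theorem c20006370 : chkCF M20086 (32,Z20005553) [1] = true := by decide +kernel
theorem c20005744 : chkX M20086 [([1,2,4],[1,4,6]),([1,2,8,16],[1,2,16,24]),([1,2,8,16,42,64,128,256],[1,2,16,24,42,88,458,169]),([1,2,4,32,64,512],[1,4,6,32,611,68])] [(2,0,2),(2,0,4),(2,1,4),(2,1,8),(2,2,64),(2,2,128),(2,3,16),(2,3,32)] [0,33,833] = true := by decide +kernel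
theorem c20006109 : chkRb M20086 [1,2,4,8,16,32,64,128,256,514] D20086 = true := by decide +kernel
theorem c20006706 : chkRb M20086 [1,2,4,8,16,32,64,128,256,514] D20086 = true := by decide +kernel
theorem c20006108 : chkStab M20086 [1,2,4,32,64,512] [1] [1] [2,4,33] [([1,2,4,32,66,518],[1,2,4,8,18,38]),([1,2,6,32,64,609],[1,2,6,8,16,57]),([1,2,4,32,64,545],[1,2,4,8,16,41]),([1,2,6,32,97,576],[1,2,6,8,25,48])] [[1,2,4,32,64,512],[1,2,4,32,66,518],[1,2,6,32,64,609],[1,2,4,32,64,545],[1,2,6,32,97,576],[1,2,6,32,66,613],[1,2,4,32,66,551],[1,2,6,32,99,580],[1,2,6,32,64,576],[1,2,4,32,97,545],[1,2,6,32,97,609],[1,2,4,32,97,512],[1,2,6,32,66,580],[1,2,4,32,99,551],[1,2,6,32,99,613],[1,2,4,32,99,518]] [(0,0),(0,1),(0,2),(0,3),(1,1),(1,2),(1,3),(2,2),(2,3),(3,3),(4,1),(5,2),(5,3),(6,3),(7,1)] 4 64 = true := by decide +kernel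
theorem c20006127 : chkStab M20086 [1,2,4,32,64,512] [1] [1] [2,4,33] [([1,2,4,32,66,518],[1,2,4,8,18,38]),([1,2,6,32,64,609],[1,2,6,8,16,57]),([1,2,4,32,64,545],[1,2,4,8,16,41]),([1,2,6,32,97,576],[1,2,6,8,25,48])] [[1,2,4,32,64,512],[1,2,4,32,66,518],[1,2,6,32,64,609],[1,2,4,32,64,545],[1,2,6,32,97,576],[1,2,6,32,66,613],[1,2,4,32,66,551],[1,2,6,32,99,580],[1,2,6,32,64,576],[1,2,4,32,97,545],[1,2,6,32,97,609],[1,2,4,32,97,512],[1,2,6,32,66,580],[1,2,4,32,99,551],[1,2,6,32,99,613],[1,2,4,32,99,518]] [(0,0),(0,1),(0,2),(0,3),(1,1),(1,2),(1,3),(2,2),(2,3),(3,3),(4,1),(5,2),(5,3),(6,3),(7,1)] 4 64 = true := by decide +kernel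
theorem c20006700 : chkStab M20086 [1,2,4,32,64,512] [1] [1] [2,4,33] [([1,2,4,32,66,518],[1,2,4,8,18,38]),([1,2,6,32,64,609],[1,2,6,8,16,57]),([1,2,4,32,64,514],[1,2,4,8,16,34]),([1,2,6,32,68,611],[1,2,6,8,20,59])] [[1,2,4,32,64,512],[1,2,4,32,66,518],[1,2,6,32,64,609],[1,2,4,32,64,514],[1,2,6,32,68,611],[1,2,6,32,66,613],[1,2,4,32,66,516],[1,2,6,32,70,615],[1,2,6,32,64,611],[1,2,4,32,70,514],[1,2,6,32,68,609],[1,2,4,32,68,518],[1,2,6,32,66,615],[1,2,4,32,68,516],[1,2,6,32,70,613],[1,2,4,32,70,512]] [(0,0),(0,1),(0,2),(0,3),(1,1),(1,2),(1,3),(2,2),(2,3),(3,3),(4,1),(5,2),(5,3),(6,3),(7,1)] 4 64 = true := by decide +kernel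
theorem c20006719 : chkStab M20086 [1,2,4,32,64,512] [1] [1] [2,4,33] [([1,2,4,32,66,518],[1,2,4,8,18,38]),([1,2,6,32,64,609],[1,2,6,8,16,57]),([1,2,4,32,64,547],[1,2,4,8,16,43]),([1,2,6,32,101,578],[1,2,6,8,29,50])] [[1,2,4,32,64,512],[1,2,4,32,66,518],[1,2,6,32,64,609],[1,2,4,32,64,547],[1,2,6,32,101,578],[1,2,6,32,66,613],[1,2,4,32,66,549],[1,2,6,32,103,582],[1,2,6,32,64,578],[1,2,4,32,103,547],[1,2,6,32,101,609],[1,2,4,32,101,518],[1,2,6,32,66,582],[1,2,4,32,101,549],[1,2,6,32,103,613],[1,2,4,32,103,512]] [(0,0),(0,1),(0,2),(0,3),(1,1),(1,2),(1,3),(2,2),(2,3),(3,3),(4,1),(5,2),(5,3),(6,3),(7,1)] 4 64 = true := by decide +kernel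
theorem c20006729 : chkStab M20086 [1,2,4,32,64,512] [1] [1] [2,4,33] [([1,2,4,32,66,518],[1,2,4,8,18,38]),([1,2,6,32,64,609],[1,2,6,8,16,57]),([1,2,4,32,70,516],[1,2,4,8,22,36]),([1,2,4,32,68,547],[1,2,4,8,20,43])] [[1,2,4,32,64,512],[1,2,4,32,66,518],[1,2,6,32,64,609],[1,2,4,32,70,516],[1,2,4,32,68,547],[1,2,6,32,66,613],[1,2,4,32,68,514],[1,2,4,32,70,549],[1,2,6,32,68,615],[1,2,6,32,70,578],[1,2,6,32,70,611],[1,2,4,32,66,551],[1,2,6,32,68,582],[1,2,4,32,64,545],[1,2,6,32,66,580],[1,2,6,32,64,576]] [(0,0),(0,1),(0,2),(0,3),(1,1),(1,2),(1,3),(2,2),(2,3),(3,1),(3,3),(4,1),(6,3),(8,3),(10,3)] 4 64 = true := by decide +kernel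
theorem c20006741 : chkStab M20086 [1,2,4,32,64,512] [1] [1] [2,4,33] [([1,2,4,32,66,518],[1,2,4,8,18,38]),([1,2,6,32,64,609],[1,2,6,8,16,57]),([1,2,4,32,68,514],[1,2,4,8,20,34]),([1,2,4,32,68,512],[1,2,4,8,20,32])] [[1,2,4,32,64,512],[1,2,4,32,66,518],[1,2,6,32,64,609],[1,2,4,32,68,514],[1,2,4,32,68,512],[1,2,6,32,66,613],[1,2,4,32,70,516],[1,2,4,32,70,518],[1,2,6,32,70,611],[1,2,6,32,70,609],[1,2,6,32,68,615],[1,2,4,32,64,514],[1,2,6,32,68,613],[1,2,4,32,66,516],[1,2,6,32,64,611],[1,2,6,32,66,615]] [(0,0),(0,1),(0,2),(0,3),(1,1),(1,2),(1,3),(2,2),(2,3),(3,1),(3,3),(4,1),(6,3),(8,3),(10,3)] 4 64 = true := by decide +kernel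
theorem c20006751 : chkStab M20086 [1,2,4,32,64,512] [1] [1] [2,4,33] [([1,2,4,32,66,518],[1,2,4,8,18,38]),([1,2,6,32,64,609],[1,2,6,8,16,57]),([1,2,4,32,64,547],[1,2,4,8,16,43]),([1,2,6,32,101,578],[1,2,6,8,29,50])] [[1,2,4,32,64,512],[1,2,4,32,66,518],[1,2,6,32,64,609],[1,2,4,32,64,547],[1,2,6,32,101,578],[1,2,6,32,66,613],[1,2,4,32,66,549],[1,2,6,32,103,582],[1,2,6,32,64,578],[1,2,4,32,103,547],[1,2,6,32,101,609],[1,2,4,32,101,518],[1,2,6,32,66,582],[1,2,4,32,101,549],[1,2,6,32,103,613],[1,2,4,32,103,512]] [(0,0),(0,1),(0,2),(0,3),(1,1),(1,2),(1,3),(2,2),(2,3),(3,3),(4,1),(5,2),(5,3),(6,3),(7,1)] 4 64 = true := by decide +kernel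
theorem c20006761 : chkStab M20086 [1,2,4,32,64,512] [1] [1] [2,4,33] [([1,2,4,32,66,518],[1,2,4,8,18,38]),([1,2,6,32,64,609],[1,2,6,8,16,57]),([1,2,4,32,64,547],[1,2,4,8,16,43]),([1,2,6,32,101,578],[1,2,6,8,29,50])] [[1,2,4,32,64,512],[1,2,4,32,66,518],[1,2,6,32,64,609],[1,2,4,32,64,547],[1,2,6,32,101,578],[1,2,6,32,66,613],[1,2,4,32,66,549],[1,2,6,32,103,582],[1,2,6,32,64,578],[1,2,4,32,103,547],[1,2,6,32,101,609],[1,2,4,32,101,518],[1,2,6,32,66,582],[1,2,4,32,101,549],[1,2,6,32,103,613],[1,2,4,32,103,512]] [(0,0),(0,1),(0,2),(0,3),(1,1),(1,2),(1,3),(2,2),(2,3),(3,3),(4,1),(5,2),(5,3),(6,3),(7,1)] 4 64 = true := by decide +kernel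
theorem c20006771 : chkStab M20086 [1,2,4,32,64,512] [1] [1] [2,4,33] [([1,2,4,32,66,518],[1,2,4,8,18,38]),([1,2,6,32,64,609],[1,2,6,8,16,57]),([1,2,4,32,70,516],[1,2,4,8,22,36]),([1,2,4,32,68,547],[1,2,4,8,20,43])] [[1,2,4,32,64,512],[1,2,4,32,66,518],[1,2,6,32,64,609],[1,2,4,32,70,516],[1,2,4,32,68,547],[1,2,6,32,66,613],[1,2,4,32,68,514],[1,2,4,32,70,549],[1,2,6,32,68,615],[1,2,6,32,70,578],[1,2,6,32,70,611],[1,2,4,32,66,551],[1,2,6,32,68,582],[1,2,4,32,64,545],[1,2,6,32,66,580],[1,2,6,32,64,576]] [(0,0),(0,1),(0,2),(0,3),(1,1),(1,2),(1,3),(2,2),(2,3),(3,1),(3,3),(4,1),(6,3),(8,3),(10,3)] 4 64 = true := by decide +kernel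
theorem c20006781 : chkStab M20086 [1,2,4,32,64,512] [1] [1] [2,4,33] [([1,2,4,32,66,518],[1,2,4,8,18,38]),([1,2,6,32,64,609],[1,2,6,8,16,57]),([1,2,4,32,68,514],[1,2,4,8,20,34]),([1,2,4,32,68,512],[1,2,4,8,20,32])] [[1,2,4,32,64,512],[1,2,4,32,66,518],[1,2,6,32,64,609],[1,2,4,32,68,514],[1,2,4,32,68,512],[1,2,6,32,66,613],[1,2,4,32,70,516],[1,2,4,32,70,518],[1,2,6,32,70,611],[1,2,6,32,70,609],[1,2,6,32,68,615],[1,2,4,32,64,514],[1,2,6,32,68,613],[1,2,4,32,66,516],[1,2,6,32,64,611],[1,2,6,32,66,615]] [(0,0),(0,1),(0,2),(0,3),(1,1),(1,2),(1,3),(2,2),(2,3),(3,1),(3,3),(4,1),(6,3),(8,3),(10,3)] 4 64 = true := by decide +kernel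
theorem c20006800 : chkStab M20086 [1,2,4,32,64,512] [1] [1] [2,4,33] [([1,2,4,32,66,518],[1,2,4,8,18,38]),([1,2,6,32,64,609],[1,2,6,8,16,57]),([1,2,4,32,64,547],[1,2,4,8,16,43]),([1,2,6,32,101,578],[1,2,6,8,29,50])] [[1,2,4,32,64,512],[1,2,4,32,66,518],[1,2,6,32,64,609],[1,2,4,32,64,547],[1,2,6,32,101,578],[1,2,6,32,66,613],[1,2,4,32,66,549],[1,2,6,32,103,582],[1,2,6,32,64,578],[1,2,4,32,103,547],[1,2,6,32,101,609],[1,2,4,32,101,518],[1,2,6,32,66,582],[1,2,4,32,101,549],[1,2,6,32,103,613],[1,2,4,32,103,512]] [(0,0),(0,1),(0,2),(0,3),(1,1),(1,2),(1,3),(2,2),(2,3),(3,3),(4,1),(5,2),(5,3),(6,3),(7,1)] 4 64 = true := by decide +kernel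
theorem c20006812 : chkStab M20086 [1,2,4,32,64,512] [1] [1] [2,4,33] [([1,2,4,32,66,518],[1,2,4,8,18,38]),([1,2,6,32,64,609],[1,2,6,8,16,57]),([1,2,4,32,64,514],[1,2,4,8,16,34]),([1,2,6,32,68,611],[1,2,6,8,20,59])] [[1,2,4,32,64,512],[1,2,4,32,66,518],[1,2,6,32,64,609],[1,2,4,32,64,514],[1,2,6,32,68,611],[1,2,6,32,66,613],[1,2,4,32,66,516],[1,2,6,32,70,615],[1,2,6,32,64,611],[1,2,4,32,70,514],[1,2,6,32,68,609],[1,2,4,32,68,518],[1,2,6,32,66,615],[1,2,4,32,68,516],[1,2,6,32,70,613],[1,2,4,32,70,512]] [(0,0),(0,1),(0,2),(0,3),(1,1),(1,2),(1,3),(2,2),(2,3),(3,3),(4,1),(5,2),(5,3),(6,3),(7,1)] 4 64 = true := by decide +kernel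
theorem c20006359 : chkNbp M20086 6 33 32 = true := by decide +kernel
theorem c20005812 : chkStK M20086 6 [1,2,4,8,16,32,64,128,256,512] 0x21020000000000000000000000000000000000000000000000000000000000000000000000000000000000000000000001000 ([1,2,4],[1,4,6]) ([1,2,8,16],[1,2,16,24]) = true := by decide +kernel
theorem c20005840 : chkStK M20086 6 [1,2,4,8,16,32,64,128,256,512] 0x21020000000000000000000000000000000000000000000000000000000000000000000000000000000000000000000001000 ([1,2,4],[1,4,6]) ([1,2,8,16],[1,2,16,24]) = true := by decide +kernel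
theorem c20005868 : chkStK M20086 6 [1,2,4,8,16,32,64,128,256,512] 0x21020000000000000000000000000000000000000000000000000000000000000000000000000000000000000000000001000 ([1,2,4],[1,4,6]) ([1,2,8,16],[1,2,16,24]) = true := by decide +kernel
theorem c20006094 : chkStK M20086 6 [1,2,4,8,16,32,64,128,256,512] 0x21020000000000000000000000000000000000000000000000000000000000000000000000000000000000000000000001000 ([1,2,4],[1,4,6]) ([1,2,8,16],[1,2,16,24]) = true := by decide +kernel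
theorem c20006688 : chkStK M20086 6 [1,2,4,8,16,32,64,128,256,514] 0x21020000000000000000000000000000000000000000000000000000000000000000000000000000000000000000000001000 ([1,2,4],[1,4,6]) ([1,2,8,16],[1,2,16,24]) = true := by decide +kernel
theorem c20006783 : chkStK M20086 6 [1,2,4,8,16,32,64,128,256,514] 0x21020000000000000000000000000000000000000000000000000000000000000000000000000000000000000000000001000 ([1,2,4],[1,4,6]) ([1,2,8,16],[1,2,16,24]) = true := by decide +kernel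
theorem c20006398 : chkStK M20086 6 [1,2,4,8,16,32,64,128,256,512] 0x21020000000000000000000000000000000000000000000000000000000000000000000000000000000000000000000001000 ([1,2,4],[1,4,6]) ([1,2,8,16],[1,2,16,24]) = true := by decide +kernel
theorem c20006426 : chkStK M20086 6 [1,2,4,8,16,32,64,128,256,512] 0x21020000000000000000000000000000000000000000000000000000000000000000000000000000000000000000000001000 ([1,2,4],[1,4,6]) ([1,2,8,16],[1,2,16,24]) = true := by decide +kernel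
theorem c20006454 : chkStK M20086 6 [1,2,4,8,16,32,64,128,256,512] 0x21020000000000000000000000000000000000000000000000000000000000000000000000000000000000000000000001000 ([1,2,4],[1,4,6]) ([1,2,8,16],[1,2,16,24]) = true := by decide +kernel
theorem c20006676 : chkStK M20086 6 [1,2,4,8,16,32,64,128,256,512] 0x21020000000000000000000000000000000000000000000000000000000000000000000000000000000000000000000001000 ([1,2,4],[1,4,6]) ([1,2,8,16],[1,2,16,24]) = true := by decide +kernel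
theorem c20005516 : chkBig M20086 6 33 [1,2,4,8,32,64,144] = true := by decide +kernel
theorem c20006131 : chkBig M20086 6 33 [1,2,4,8,32,64,144] = true := by decide +kernel
theorem c20005697 : chkStab M20086 [1,2,4,32] [1] [1] [1,2,4,32] [([1,2,6,32],[1,2,6,8]),([1,2,4,34],[1,2,4,10])] [[1,2,4,32],[1,2,6,32],[1,2,4,34],[1,2,6,34]] [(0,0),(0,1),(1,1)] 2 32 = true := by decide +kernel
theorem c20005705 : chkStab M20086 [1,2,4,32] [1] [1] [1,2,4,32] [([1,2,6,32],[1,2,6,8]),([1,2,4,34],[1,2,4,10])] [[1,2,4,32],[1,2,6,32],[1,2,4,34],[1,2,6,34]] [(0,0),(0,1),(1,1)] 2 32 = true := by decide +kernel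
theorem c20006308 : chkStab M20086 [1,2,4,32] [1] [1] [1,2,4,32] [([1,2,6,32],[1,2,6,8]),([1,2,4,34],[1,2,4,10])] [[1,2,4,32],[1,2,6,32],[1,2,4,34],[1,2,6,34]] [(0,0),(0,1),(1,1)] 2 32 = true := by decide +kernel
theorem c20006316 : chkStab M20086 [1,2,4,32] [1] [1] [1,2,4,32] [([1,2,6,32],[1,2,6,8]),([1,2,4,34],[1,2,4,10])] [[1,2,4,32],[1,2,6,32],[1,2,4,34],[1,2,6,34]] [(0,0),(0,1),(1,1)] 2 32 = true := by decide +kernel
theorem c20005748 : chkDer M20086 [([1,2,4,32,64,512],[1,4,6,32,611,68])] [(0,1,[]),(1,0,[9,11,18]),(0,144,[]),(1,0,[9,20,63]),(0,256,[]),(1,0,[16,38,63]),(0,144,[]),(1,0,[34,15,36])] ([33,35,64],[64,35,66]) = true := by decide +kernel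
theorem c20006739 : chkDer M20086 [([1,2,4,32,64,512],[1,4,6,32,609,70])] [(1,0,[1,2,4,8,16,32]),(0,8,[]),(2,0,[1,4,2,8,61,38]),(0,8,[]),(1,0,[1,6,2,8,38,61])] ([1,2,4,32,64,512],[1,2,4,32,68,512]) = true := by decide +kernel
theorem c20006769 : chkDer M20086 [([1,2,4,32,64,512],[1,4,6,32,578,70])] [(1,0,[1,2,4,8,16,32]),(0,8,[]),(2,0,[1,4,2,8,61,38]),(0,8,[]),(1,0,[1,6,2,8,38,61])] ([1,2,4,32,64,512],[1,2,4,32,68,547]) = true := by decide +kernel
theorem c20006815 : chkDer M20086 [([1,2,4,32,64,512],[1,4,6,32,576,103])] [(1,0,[1,2,4,8,16,32]),(0,8,[]),(2,0,[1,4,2,8,52,38]),(0,8,[]),(1,0,[1,6,2,8,47,61])] ([1,2,4,32,64,512],[1,2,4,32,68,512]) = true := by decide +kernel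
theorem c20006123 : chkDer M20086 [([1,2,4,32,64,512],[1,4,6,32,578,68])] [(1,0,[1,2,4,8,16,32]),(0,8,[]),(2,0,[1,4,2,8,59,38]),(0,8,[]),(1,0,[1,6,2,8,34,61])] ([1,2,4,32,64,512],[1,2,4,32,64,545]) = true := by decide +kernel
theorem c20006747 : chkDer M20086 [([1,2,4,32,64,512],[1,4,6,32,609,101])] [(1,0,[1,2,4,8,16,32]),(0,8,[]),(2,0,[1,4,2,8,50,38]),(0,8,[]),(1,0,[1,6,2,8,43,61])] ([1,2,4,32,64,512],[1,2,4,32,64,547]) = true := by decide +kernel
theorem c20006808 : chkDer M20086 [([1,2,4,32,64,512],[1,4,6,32,576,101])] [(1,0,[1,2,4,8,16,32]),(0,8,[]),(2,0,[1,4,2,8,50,38]),(0,8,[]),(1,0,[1,6,2,8,43,61])] ([1,2,4,32,64,512],[1,2,4,32,64,514]) = true := by decide +kernel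
theorem c20006722 : chkDer M20086 [([1,2,4,32,64,512],[1,4,6,32,611,99])] [(1,0,[1,2,4,8,16,32]),(0,8,[]),(2,0,[1,4,2,8,54,32]),(0,8,[]),(1,0,[1,6,2,8,45,57])] ([1,2,4,32,64,512],[1,2,4,32,68,545]) = true := by decide +kernel
theorem c20006764 : chkDer M20086 [([1,2,4,32,64,512],[1,4,6,32,578,66])] [(1,0,[1,2,4,8,16,32]),(0,8,[]),(2,0,[1,4,2,8,63,32]),(0,8,[]),(1,0,[1,6,2,8,36,57])] ([1,2,4,32,64,512],[1,2,4,32,68,545]) = true := by decide +kernel
theorem c20006793 : chkDer M20086 [([1,2,4,32,64,512],[1,4,6,32,576,66])] [(1,0,[1,2,4,8,16,32]),(0,8,[]),(2,0,[1,4,2,8,63,32]),(0,8,[]),(1,0,[1,6,2,8,36,57])] ([1,2,4,32,64,512],[1,2,4,32,68,547]) = true := by decide +kernel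
theorem c20006682 : chkDer M20086 [([1,2,4,32,64,512],[1,4,6,32,576,64])] [(1,0,[1,2,4,8,16,32]),(0,8,[]),(2,0,[1,4,2,8,57,32]),(0,8,[]),(1,0,[1,6,2,8,32,57])] ([1,2,4,32,64,512],[1,2,4,32,64,545]) = true := by decide +kernel
theorem c20006715 : chkDer M20086 [([1,2,4,32,64,512],[1,4,6,32,611,97])] [(1,0,[1,2,4,8,16,32]),(0,8,[]),(2,0,[1,4,2,8,48,32]),(0,8,[]),(1,0,[1,6,2,8,41,57])] ([1,2,4,32,64,512],[1,2,4,32,64,547]) = true := by decide +kernel
theorem c20006772 : chkDer M20086 [([1,2,4,32,64,512],[1,4,6,32,578,97])] [(1,0,[1,2,4,8,16,32]),(0,8,[]),(2,0,[1,4,2,8,48,32]),(0,8,[]),(1,0,[1,6,2,8,41,57])] ([1,2,4,32,64,512],[1,2,4,32,64,514]) = true := by decide +kernel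
theorem c20006752 : chkDer M20086 [([1,2,4,32,64,512],[1,4,6,32,609,103])] [(1,0,[1,2,4,8,16,32]),(1,0,[1,4,6,8,57,31]),(1,0,[1,6,2,8,47,50])] ([1,2,4,32,64,512],[1,2,4,32,68,514]) = true := by decide +kernel
theorem c20006813 : chkDer M20086 [([1,2,4,32,64,512],[1,4,6,32,576,103])] [(1,0,[1,2,4,8,16,32]),(1,0,[1,4,6,8,48,31]),(1,0,[1,6,2,8,47,59])] ([1,2,4,32,64,512],[1,2,4,32,68,514]) = true := by decide +kernel
theorem c20006725 : chkDer M20086 [([1,2,4,32,64,512],[1,4,6,32,611,103])] [(1,0,[1,2,4,8,16,32]),(1,0,[1,4,6,8,59,31]),(1,0,[1,6,2,8,41,48])] ([1,2,4,32,64,512],[1,2,4,32,70,516]) = true := by decide +kernel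
theorem c20006742 : chkDer M20086 [([1,2,4,32,64,512],[1,4,6,32,609,99])] [(1,0,[1,2,4,8,16,32]),(1,0,[1,4,6,8,57,27]),(1,0,[1,6,2,8,43,52])] ([1,2,4,32,64,512],[1,2,4,32,70,516]) = true := by decide +kernel
theorem c20005699 : chkDer M20086 [([1,2,4,32],[1,4,6,32]),([1,2,4,8,16,32,64,128,256,512],[32,2,4,8,113,3,64,138,377,516])] [(1,0,[1,2,4,8]),(1,1,[1,4,6,32]),(1,0,[8,4,6,3]),(2,1,[1,6,2,38]),(1,0,[1,6,2,14])] ([1,2,4,32],[1,2,4,34]) = true := by decide +kernel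
theorem c20005707 : chkDer M20086 [([1,2,4,32],[1,4,6,32]),([1,2,4,8,16,32,64,128,256,512],[32,2,4,8,113,3,64,138,379,516])] [(1,0,[1,2,4,8]),(1,1,[1,4,6,32]),(1,0,[8,4,6,3]),(2,1,[1,6,2,38]),(1,0,[1,6,2,14])] ([1,2,4,32],[1,2,4,34]) = true := by decide +kernel
theorem c20006310 : chkDer M20086 [([1,2,4,32],[1,4,6,32]),([1,2,4,8,16,32,64,128,256,512],[32,2,4,8,113,3,64,138,377,516])] [(1,0,[1,2,4,8]),(1,1,[1,4,6,32]),(1,0,[8,4,6,3]),(2,1,[1,6,2,38]),(1,0,[1,6,2,14])] ([1,2,4,32],[1,2,4,34]) = true := by decide +kernel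
theorem c20006318 : chkDer M20086 [([1,2,4,32],[1,4,6,32]),([1,2,4,8,16,32,64,128,256,512],[32,2,4,8,113,3,64,138,379,516])] [(1,0,[1,2,4,8]),(1,1,[1,4,6,32]),(1,0,[8,4,6,3]),(2,1,[1,6,2,38]),(1,0,[1,6,2,14])] ([1,2,4,32],[1,2,4,34]) = true := by decide +kernel
theorem c20006801 : chkDer M20086 [([1,2,4,32,64,512],[1,4,6,32,576,70])] [(1,0,[1,2,4,8,16,32]),(1,0,[1,4,6,8,48,22]),(1,0,[1,6,2,8,38,50])] ([1,2,4,32,64,512],[1,2,4,32,68,514]) = true := by decide +kernel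
theorem c20006767 : chkDer M20086 [([1,2,4,32,64,512],[1,4,6,32,578,70])] [(1,0,[1,2,4,8,16,32]),(1,0,[1,4,6,8,50,22]),(1,0,[1,6,2,8,32,48])] ([1,2,4,32,64,512],[1,2,4,32,70,516]) = true := by decide +kernel
theorem c20006730 : chkDer M20086 [([1,2,4,32,64,512],[1,4,6,32,609,66])] [(2,0,[1,6,2,8,38,63]),(2,0,[1,4,6,8,59,20])] ([1,2,4,32,64,512],[1,4,6,32,611,68]) = true := by decide +kernel
theorem c20006810 : chkDer M20086 [([1,2,4,32,64,512],[1,4,6,32,576,101])] [(1,0,[1,2,4,8,16,32]),(0,8,[]),(1,0,[1,6,4,8,41,31])] ([1,2,4,32,64,512],[1,2,6,32,68,611]) = true := by decide +kernel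
theorem c20006125 : chkDer M20086 [([1,2,4,32,64,512],[1,4,6,32,578,68])] [(1,0,[1,2,4,8,16,32]),(0,8,[]),(1,0,[1,6,4,8,43,22])] ([1,2,4,32,64,512],[1,2,6,32,97,576]) = true := by decide +kernel
theorem c20006712 : chkDer M20086 [([1,2,4,32,64,512],[1,4,6,32,611,70])] [(2,0,[1,6,2,8,36,61]),(2,0,[1,4,6,8,57,20])] ([1,2,4,32,64,514],[1,4,6,32,609,68]) = true := by decide +kernel
theorem c20006798 : chkDer M20086 [([1,2,4,32,64,512],[1,4,6,32,576,68])] [(1,0,[1,2,4,8,16,32]),(0,8,[]),(1,0,[1,6,4,8,41,22])] ([1,2,4,32,64,512],[1,2,6,32,101,578]) = true := by decide +kernel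
theorem c20006759 : chkDer M20086 [([1,2,4,32,64,512],[1,4,6,32,578,64])] [(1,0,[1,2,4,8,16,32]),(0,8,[]),(1,0,[1,6,4,8,43,16])] ([1,2,4,32,64,512],[1,2,6,32,101,578]) = true := by decide +kernel
theorem c20006684 : chkDer M20086 [([1,2,4,32,64,512],[1,4,6,32,576,64])] [(1,0,[1,2,4,8,16,32]),(0,8,[]),(1,0,[1,6,4,8,41,16])] ([1,2,4,32,64,512],[1,2,6,32,97,576]) = true := by decide +kernel
theorem c20006698 : chkDer M20086 [([1,2,4,32,64,512],[1,4,6,32,611,64])] [(1,0,[1,2,4,8,16,32]),(0,8,[]),(1,0,[1,6,4,8,34,16])] ([1,2,4,32,64,512],[1,2,6,32,68,611]) = true := by decide +kernel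
theorem c20005800 : chkTr M20086 [1,2,4,8,16,32,64,128,256,512] ([1,2,8,16,42],[1,2,16,24,42]) ([1,2,8,16,42],[1,2,16,24,42]) = true := by decide +kernel
theorem c20005802 : chkTr M20086 [1,2,4,8,16,32,64,128,256,512] ([1,2,8,16,42,64,128,256],[1,2,16,24,42,88,458,169]) ([1,2,8,16,42,64,128,256],[1,2,16,24,42,88,458,169]) = true := by decide +kernel
theorem c20005813 : chkTr M20086 [1,2,4,8,16,32,64,128,256,512] ([1,2,4,32],[1,4,6,32]) ([1,2,4,32],[1,4,6,32]) = true := by decide +kernel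
theorem c20005815 : chkTr M20086 [1,2,4,8,16,32,64,128,256,512] ([1,2,8,16,42,64],[1,2,16,24,42,88]) ([1,2,8,16,42,64],[1,2,16,24,42,88]) = true := by decide +kernel
theorem c20005817 : chkTr M20086 [1,2,4,8,16,32,64,128,256,512] ([1,2,4,32,64,512],[1,4,6,32,611,68]) ([1,2,4,32,64,512],[1,4,6,32,611,68]) = true := by decide +kernel
theorem c20005828 : chkTr M20086 [1,2,4,8,16,32,64,128,256,512] ([1,2,8,16,42],[1,2,16,24,42]) ([1,2,8,16,42],[1,2,16,24,42]) = true := by decide +kernel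
theorem c20005830 : chkTr M20086 [1,2,4,8,16,32,64,128,256,512] ([1,2,8,16,42,64,128,256],[1,2,16,24,42,88,458,169]) ([1,2,8,16,42,64,128,256],[1,2,16,24,42,88,458,169]) = true := by decide +kernel
theorem c20005841 : chkTr M20086 [1,2,4,8,16,32,64,128,256,512] ([1,2,4,32],[1,4,6,32]) ([1,2,4,32],[1,4,6,32]) = true := by decide +kernel
theorem c20005843 : chkTr M20086 [1,2,4,8,16,32,64,128,256,512] ([1,2,8,16,42,64],[1,2,16,24,42,88]) ([1,2,8,16,42,64],[1,2,16,24,42,88]) = true := by decide +kernel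
theorem c20005845 : chkTr M20086 [1,2,4,8,16,32,64,128,256,512] ([1,2,4,32,64,512],[1,4,6,32,611,68]) ([1,2,4,32,64,512],[1,4,6,32,611,68]) = true := by decide +kernel
theorem c20005856 : chkTr M20086 [1,2,4,8,16,32,64,128,256,512] ([1,2,8,16,42],[1,2,16,24,42]) ([1,2,8,16,42],[1,2,16,24,42]) = true := by decide +kernel
theorem c20005858 : chkTr M20086 [1,2,4,8,16,32,64,128,256,512] ([1,2,8,16,42,64,128,256],[1,2,16,24,42,88,458,169]) ([1,2,8,16,42,64,128,256],[1,2,16,24,42,88,458,169]) = true := by decide +kernel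
theorem c20005869 : chkTr M20086 [1,2,4,8,16,32,64,128,256,512] ([1,2,4,32],[1,4,6,32]) ([1,2,4,32],[1,4,6,32]) = true := by decide +kernel
theorem c20005871 : chkTr M20086 [1,2,4,8,16,32,64,128,256,512] ([1,2,8,16,42,64],[1,2,16,24,42,88]) ([1,2,8,16,42,64],[1,2,16,24,42,88]) = true := by decide +kernel
theorem c20005873 : chkTr M20086 [1,2,4,8,16,32,64,128,256,512] ([1,2,4,32,64,512],[1,4,6,32,611,68]) ([1,2,4,32,64,512],[1,4,6,32,611,68]) = true := by decide +kernel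
theorem c20006082 : chkTr M20086 [1,2,4,8,16,32,64,128,256,512] ([1,2,8,16,42],[1,2,16,24,42]) ([1,2,8,16,42],[1,2,16,24,42]) = true := by decide +kernel
theorem c20006084 : chkTr M20086 [1,2,4,8,16,32,64,128,256,512] ([1,2,8,16,42,64,128,256],[1,2,16,24,42,88,458,169]) ([1,2,8,16,42,64,128,256],[1,2,16,24,42,88,458,169]) = true := by decide +kernel
theorem c20006095 : chkTr M20086 [1,2,4,8,16,32,64,128,256,512] ([1,2,4,32],[1,4,6,32]) ([1,2,4,32],[1,4,6,32]) = true := by decide +kernel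
theorem c20006097 : chkTr M20086 [1,2,4,8,16,32,64,128,256,512] ([1,2,8,16,42,64],[1,2,16,24,42,88]) ([1,2,8,16,42,64],[1,2,16,24,42,88]) = true := by decide +kernel
theorem c20006099 : chkTr M20086 [1,2,4,8,16,32,64,128,256,512] ([1,2,4,32,64,512],[1,4,6,32,611,68]) ([1,2,4,32,64,512],[1,4,6,32,611,68]) = true := by decide +kernel
theorem c20006112 : chkTr M20086 [1,2,4,8,16,32,64,128,256,514] ([1,2,8,16,42],[1,2,16,24,42]) ([1,2,8,16,42],[1,2,16,24,42]) = true := by decide +kernel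
theorem c20006114 : chkTr M20086 [1,2,4,8,16,32,64,128,256,514] ([1,2,8,16,42,64,128,256],[1,2,16,24,42,88,458,169]) ([1,2,8,16,42,64,128,256],[1,2,16,24,42,88,458,169]) = true := by decide +kernel
theorem c20006689 : chkTr M20086 [1,2,4,8,16,32,64,128,256,514] ([1,2,4,32],[1,4,6,32]) ([1,2,4,32],[1,4,6,32]) = true := by decide +kernel
theorem c20006691 : chkTr M20086 [1,2,4,8,16,32,64,128,256,514] ([1,2,8,16,42,64],[1,2,16,24,42,88]) ([1,2,8,16,42,64],[1,2,16,24,42,88]) = true := by decide +kernel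
theorem c20006695 : chkTr M20086 [1,2,4,8,16,32,64,128,256,514] ([1,2,4,32,64,512],[1,4,6,32,578,101]) ([1,2,4,32,64,514],[1,4,6,32,576,101]) = true := by decide +kernel
theorem c20006709 : chkTr M20086 [1,2,4,8,16,32,64,128,256,514] ([1,2,8,16,42],[1,2,16,24,42]) ([1,2,8,16,42],[1,2,16,24,42]) = true := by decide +kernel
theorem c20006711 : chkTr M20086 [1,2,4,8,16,32,64,128,256,514] ([1,2,8,16,42,64,128,256],[1,2,16,24,42,88,458,169]) ([1,2,8,16,42,64,128,256],[1,2,16,24,42,88,458,169]) = true := by decide +kernel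
theorem c20006784 : chkTr M20086 [1,2,4,8,16,32,64,128,256,514] ([1,2,4,32],[1,4,6,32]) ([1,2,4,32],[1,4,6,32]) = true := by decide +kernel
theorem c20006786 : chkTr M20086 [1,2,4,8,16,32,64,128,256,514] ([1,2,8,16,42,64],[1,2,16,24,42,88]) ([1,2,8,16,42,64],[1,2,16,24,42,88]) = true := by decide +kernel
theorem c20006790 : chkTr M20086 [1,2,4,8,16,32,64,128,256,514] ([1,2,4,32,64,512],[1,4,6,32,578,101]) ([1,2,4,32,64,514],[1,4,6,32,576,101]) = true := by decide +kernel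
theorem c20006386 : chkTr M20086 [1,2,4,8,16,32,64,128,256,512] ([1,2,8,16,42],[1,2,16,24,42]) ([1,2,8,16,42],[1,2,16,24,42]) = true := by decide +kernel
theorem c20006388 : chkTr M20086 [1,2,4,8,16,32,64,128,256,512] ([1,2,8,16,42,64,128,256],[1,2,16,24,42,88,458,169]) ([1,2,8,16,42,64,128,256],[1,2,16,24,42,88,458,169]) = true := by decide +kernel
theorem c20006399 : chkTr M20086 [1,2,4,8,16,32,64,128,256,512] ([1,2,4,32],[1,4,6,32]) ([1,2,4,32],[1,4,6,32]) = true := by decide +kernel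
theorem c20006401 : chkTr M20086 [1,2,4,8,16,32,64,128,256,512] ([1,2,8,16,42,64],[1,2,16,24,42,88]) ([1,2,8,16,42,64],[1,2,16,24,42,88]) = true := by decide +kernel
theorem c20006403 : chkTr M20086 [1,2,4,8,16,32,64,128,256,512] ([1,2,4,32,64,512],[1,4,6,32,578,101]) ([1,2,4,32,64,512],[1,4,6,32,578,101]) = true := by decide +kernel
theorem c20006414 : chkTr M20086 [1,2,4,8,16,32,64,128,256,512] ([1,2,8,16,42],[1,2,16,24,42]) ([1,2,8,16,42],[1,2,16,24,42]) = true := by decide +kernel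
theorem c20006416 : chkTr M20086 [1,2,4,8,16,32,64,128,256,512] ([1,2,8,16,42,64,128,256],[1,2,16,24,42,88,458,169]) ([1,2,8,16,42,64,128,256],[1,2,16,24,42,88,458,169]) = true := by decide +kernel
theorem c20006427 : chkTr M20086 [1,2,4,8,16,32,64,128,256,512] ([1,2,4,32],[1,4,6,32]) ([1,2,4,32],[1,4,6,32]) = true := by decide +kernel
theorem c20006429 : chkTr M20086 [1,2,4,8,16,32,64,128,256,512] ([1,2,8,16,42,64],[1,2,16,24,42,88]) ([1,2,8,16,42,64],[1,2,16,24,42,88]) = true := by decide +kernel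
theorem c20006431 : chkTr M20086 [1,2,4,8,16,32,64,128,256,512] ([1,2,4,32,64,512],[1,4,6,32,578,101]) ([1,2,4,32,64,512],[1,4,6,32,578,101]) = true := by decide +kernel
theorem c20006442 : chkTr M20086 [1,2,4,8,16,32,64,128,256,512] ([1,2,8,16,42],[1,2,16,24,42]) ([1,2,8,16,42],[1,2,16,24,42]) = true := by decide +kernel
theorem c20006444 : chkTr M20086 [1,2,4,8,16,32,64,128,256,512] ([1,2,8,16,42,64,128,256],[1,2,16,24,42,88,458,169]) ([1,2,8,16,42,64,128,256],[1,2,16,24,42,88,458,169]) = true := by decide +kernel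
theorem c20006455 : chkTr M20086 [1,2,4,8,16,32,64,128,256,512] ([1,2,4,32],[1,4,6,32]) ([1,2,4,32],[1,4,6,32]) = true := by decide +kernel
theorem c20006457 : chkTr M20086 [1,2,4,8,16,32,64,128,256,512] ([1,2,8,16,42,64],[1,2,16,24,42,88]) ([1,2,8,16,42,64],[1,2,16,24,42,88]) = true := by decide +kernel
theorem c20006459 : chkTr M20086 [1,2,4,8,16,32,64,128,256,512] ([1,2,4,32,64,512],[1,4,6,32,578,101]) ([1,2,4,32,64,512],[1,4,6,32,578,101]) = true := by decide +kernel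
theorem c20006664 : chkTr M20086 [1,2,4,8,16,32,64,128,256,512] ([1,2,8,16,42],[1,2,16,24,42]) ([1,2,8,16,42],[1,2,16,24,42]) = true := by decide +kernel
theorem c20006666 : chkTr M20086 [1,2,4,8,16,32,64,128,256,512] ([1,2,8,16,42,64,128,256],[1,2,16,24,42,88,458,169]) ([1,2,8,16,42,64,128,256],[1,2,16,24,42,88,458,169]) = true := by decide +kernel
theorem c20006677 : chkTr M20086 [1,2,4,8,16,32,64,128,256,512] ([1,2,4,32],[1,4,6,32]) ([1,2,4,32],[1,4,6,32]) = true := by decide +kernel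
theorem c20006679 : chkTr M20086 [1,2,4,8,16,32,64,128,256,512] ([1,2,8,16,42,64],[1,2,16,24,42,88]) ([1,2,8,16,42,64],[1,2,16,24,42,88]) = true := by decide +kernel
theorem c20006681 : chkTr M20086 [1,2,4,8,16,32,64,128,256,512] ([1,2,4,32,64,512],[1,4,6,32,578,101]) ([1,2,4,32,64,512],[1,4,6,32,578,101]) = true := by decide +kernel
theorem c20005531 : chkDer M20086 [([1,2,4,32,64,512],[1,4,6,32,611,68]),([1,2,4],[1,4,6])] [(0,1,[]),(1,0,[27]),(0,256,[]),(2,0,[29]),(0,144,[]),(2,1,[2])] ([97],[2]) = true := by decide +kernel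
theorem c20006148 : chkDer M20086 [([1,2,8,16,42,64,128,256],[1,2,16,24,42,88,458,169]),([1,2,8,16,42],[1,2,16,24,42])] [(0,16,[]),(1,0,[183]),(0,512,[]),(2,1,[21])] ([256],[33]) = true := by decide +kernel
theorem c20006693 : chkDer M20086 [([1,2,4,32,64,512],[1,4,6,32,576,97])] [(1,0,[1,2,4,8,16,34])] ([1,2,4,32,64,514],[1,4,6,32,576,101]) = true := by decide +kernel
theorem c20006100 : chkDer M20086 [] [(0,1,[])] ([1,2,4,32,64,512],[1,2,4,32,66,518]) = true := by decide +kernel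
theorem c20005547 : chkDer M20086 [([1,2,4,32,64,512],[1,4,6,32,611,68]),([1,2,4],[1,4,6])] [(1,0,[41]),(0,144,[]),(2,1,[2])] ([545],[2]) = true := by decide +kernel
theorem c20006144 : chkDer M20086 [([1,2,8,16,42],[1,2,16,24,42])] [(0,8,[]),(1,0,[29])] ([49],[33]) = true := by decide +kernel
theorem c20006140 : chkDer M20086 [([1,2,4,32],[1,4,6,32])] [(2,0,[11]),(0,16,[])] ([37],[33]) = true := by decide +kernel
theorem c20006232 : chkDer M20086 [] [(0,8,[])] ([1,2,4,32],[1,2,6,32]) = true := by decide +kernel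
theorem c20005543 : chkDer M20086 [([1,2,4,32,64,512],[1,4,6,32,611,68])] [(1,0,[34]),(0,256,[])] ([514],[33]) = true := by decide +kernel
theorem c20006156 : chkDer M20086 [([1,2,4,32,64,512],[1,4,6,32,578,101])] [(1,0,[34])] ([514],[97]) = true := by decide +kernel
theorem c20006136 : chkDer M20086 [([1,2,4],[1,4,6])] [(2,0,[2])] ([4],[2]) = true := by decide +kernel
theorem c20005564 : chkDer M20086 [] [(0,16,[])] ([33],[35]) = true := by decide +kernel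
theorem c20005582 : chkDer M20086 [] [(0,24,[])] ([4],[12]) = true := by decide +kernel
theorem c20005710 : chkDer M20086 [] [(0,8,[])] ([4],[6]) = true := by decide +kernel
theorem c20005718 : chkDer M20086 [] [(0,256,[])] ([33],[64]) = true := by decide +kernel
theorem c20005726 : chkDer M20086 [] [(0,384,[])] ([1],[112]) = true := by decide +kernel
theorem c20005755 : chkDer M20086 [] [(0,16,[])] ([512],[658]) = true := by decide +kernel
theorem c20005766 : chkDer M20086 [] [(0,8,[])] ([512],[609]) = true := by decide +kernel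
theorem c20005774 : chkDer M20086 [] [(0,17,[])] ([512],[670]) = true := by decide +kernel
theorem c20006172 : chkDer M20086 [] [(0,64,[])] ([1],[3]) = true := by decide +kernel
theorem c20006183 : chkDer M20086 [] [(0,576,[])] ([1],[5]) = true := by decide +kernel
theorem c20006206 : chkDer M20086 [] [(0,704,[])] ([1],[15]) = true := by decide +kernel
theorem c20006325 : chkDer M20086 [] [(0,16,[])] ([4],[14]) = true := by decide +kernel
theorem c20006333 : chkDer M20086 [] [(0,128,[])] ([1],[106]) = true := by decide +kernel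
theorem c20006341 : chkDer M20086 [] [(0,832,[])] ([1],[143]) = true := by decide +kernel

end Cfsg.Lib.L33E
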