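import Cfsg.Agent.L33E.R1C12

set_option autoImplicit false
set_option maxRecDepth 100000
set_option linter.all false
set_option Elab.async false

namespace Cfsg.Lib.L33E

theorem c20006364 : chkTT M20086 E20006361 0 L20006363 0x202000002 M20086.W [33,1] [1,2,4,8,32,64,144,512] [2,4,97,512,514] 99 0 [⟨3,0,[⟨6,0,0,1⟩,⟨4,0,0,1⟩,⟨7,0,1,33⟩,⟨8,0,0,0⟩],1,2,false⟩] [] = true := by decide +kernel
theorem c20005742 : chkSyl M20086 D20086 E20005740 [1,2,4,8,16,32,64,128,256,512] 0 [32] [⟨3,0,[⟨4,0,0,1⟩,⟨4,1,0,2⟩],0,0,false⟩,⟨3,0,[⟨4,0,0,3⟩,⟨4,1,0,4⟩,⟨4,2,0,5⟩],1,2,false⟩,⟨3,0,[⟨4,4,0,6⟩,⟨4,5,0,7⟩,⟨4,6,0,8⟩,⟨0,4,6,0⟩],2,3,false⟩,⟨3,0,[⟨0,4,14,0⟩,⟨0,8,10,0⟩,⟨1,0,2,0⟩],3,0,false⟩,⟨5,0,[⟨4,1,0,9⟩,⟨4,3,0,10⟩,⟨0,16,18,0⟩],0,0,false⟩,⟨1,3,[⟨4,0,0,11⟩,⟨4,40,0,12⟩,⟨4,48,0,13⟩,⟨0,4,4,0⟩],3,0,false⟩,⟨1,106,[⟨4,13,0,14⟩,⟨0,4,111,0⟩],0,0,false⟩,⟨1,122,[⟨4,0,0,15⟩,⟨0,4,148,0⟩],0,0,false⟩,⟨1,7,[⟨4,0,0,16⟩,⟨0,8,105,0⟩,⟨0,16,128,0⟩],0,0,true⟩]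 [([1,2,4,8,16,32,64,128,256,512],[32,2,4,8,113,3,64,138,377,518]),([1,2,4,8,16,32,64,128,256,512],[32,2,4,8,113,3,64,138,377,516]),([1,2,4,8,16,32,64,128,256,512],[32,2,4,8,113,3,64,138,379,518]),([1,2,4,8,16,32,64,128,256,512],[32,2,4,8,113,3,64,138,379,516])] [1,2,4,8,16,32,64,128,256,512] [([32,2,4,8,113,1,64,225,355,514],[(0,0,0),(2,0,1)]),([32,2,4,8,113,1,64,225,355,512],[(0,0,2),(2,0,3)]),([32,2,4,8,113,1,64,225,353,514],[(0,0,4),(2,0,5)]),([32,2,4,8,113,1,64,225,353,512],[(0,0,6),(2,0,7)])] [([1,2,4,8,16,32,64,128,256,512],[32,2,4,8,113,1,64,225,355,514],0),([1,2,4,8,16,32,64,128,256,512],[32,2,4,8,113,1,64,225,355,514],2),([1,2,4,8,16,32,64,128,256,512],[32,2,4,8,113,1,64,225,355,512],0),([1,2,4,8,16,32,64,128,256,512],[32,2,4,8,113,1,64,225,355,512],2),([1,2,4,8,16,32,64,128,256,512],[32,2,4,8,113,1,64,225,353,514],0),([1,2,4,8,16,32,64,128,256,512],[32,2,4,8,113,1,64,225,353,514],2),([1,2,4,8,16,32,64,128,256,512],[32,2,4,8,113,1,64,225,353,512],0),([1,2,4,8,16,32,64,128,256,512],[32,2,4,8,113,1,64,225,353,512],2)]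 = true := by decide +kernel
theorem c20005784 : chkFrat M20086 E20005782 [33,35,64] [64,35,66] [33,35,64,658,609,670,518,51,258] [33,35,64,658,609,670,518,51,258] [(0,[1,2,4]),(0,[1,2,4]),(0,[1,2,4]),(0,[1,2,4]),(0,[1,2,4]),(0,[1,2,4]),(0,[1,2,4]),(272,[2,1,7]),(16,[4,7,1])] [⟨0,0,[],0,0,false⟩,⟨0,0,[],0,2,false⟩,⟨4,0,[⟨4,0,0,0⟩,⟨4,1,0,1⟩,⟨2,2,0,0⟩,⟨2,3,0,0⟩,⟨2,4,0,0⟩,⟨2,5,0,0⟩,⟨2,6,0,0⟩,⟨2,7,0,0⟩],2,3,false⟩,⟨4,0,[⟨4,0,0,2⟩,⟨4,1,0,3⟩,⟨0,8,13,0⟩],3,4,false⟩,⟨6,0,[⟨4,0,0,4⟩,⟨4,1,0,5⟩,⟨2,2,0,0⟩,⟨2,3,0,0⟩,⟨2,4,0,0⟩,⟨2,5,0,0⟩,⟨2,6,0,0⟩,⟨2,7,0,0⟩],4,0,false⟩] [] = true := by decide +kernel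
theorem c20006357 : chkTT M20086 E20004312 0 L20004314 0x200002 M20086.W [1] [] [] 99 0 [] [] = true := by decide +kernel
theorem c20005551 : chkCF M20086 (1,Z20004104) [2,4,33,37,49,97,256,512,514,545] = true := by decide +kernel
theorem c20005555 : chkCF M20086 (33,Z20005553) [1] = true := by decide +kernel
theorem c20005569 : chkCF M20086 (4,Z20005553) [1] = true := by decide +kernel
theorem c20005738 : chkCF M20086 (512,Z20005553) [1] = true := by decide +kernel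
theorem c20006164 : chkCF M20086 (1,Z20004104) [2,4,33,37,49,97,256,512,514,545] = true := by decide +kernel
theorem c20006170 : chkCF M20086 (2,Z20005553) [1] = true := by decide +kernel
theorem c20006346 : chkCF M20086 (256,Z20005553) [1] = true := by decide +kernel
theorem c20006367 : chkCF M20086 (1,Z20004325) [2,4,32,33,37,49,97,256,512,514,545] = true := by decide +kernel
theorem c20005480 : chkFrat M20086 E20000005 [1,2,4,32] [1,4,6,32] [1,2,4,32,64,512] [1,2,4,32,64,512] [(0,[1,2,4,8]),(0,[1,2,4,8]),(0,[1,2,4,8]),(0,[1,2,4,8]),(576,[3,2,4,10]),(64,[7,2,4,14])] [⟨0,0,[],0,0,false⟩,⟨0,0,[],0,0,false⟩,⟨0,0,[],0,0,false⟩,⟨2,0,[⟨0,1,3,0⟩,⟨1,0,0,0⟩],1,0,false⟩,⟨2,0,[⟨0,1,7,0⟩,⟨0,16,16,0⟩],0,0,false⟩] [([1,2,4,32,64,512],[1,4,6,32,611,64]),([1,2,4,32,64,512],[1,4,6,32,611,66]),([1,2,4,32,64,512],[1,4,6,32,611,68]),([1,2,4,32,64,512],[1,4,6,32,611,70]),([1,2,4,32,64,512],[1,4,6,32,611,97])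,([1,2,4,32,64,512],[1,4,6,32,611,99]),([1,2,4,32,64,512],[1,4,6,32,611,101]),([1,2,4,32,64,512],[1,4,6,32,611,103]),([1,2,4,32,64,512],[1,4,6,32,609,64]),([1,2,4,32,64,512],[1,4,6,32,609,66]),([1,2,4,32,64,512],[1,4,6,32,609,68]),([1,2,4,32,64,512],[1,4,6,32,609,70]),([1,2,4,32,64,512],[1,4,6,32,609,97]),([1,2,4,32,64,512],[1,4,6,32,609,99]),([1,2,4,32,64,512],[1,4,6,32,609,101]),([1,2,4,32,64,512],[1,4,6,32,609,103]),([1,2,4,32,64,512],[1,4,6,32,578,64]),([1,2,4,32,64,512],[1,4,6,32,578,66]),([1,2,4,32,64,512],[1,4,6,32,578,68]),([1,2,4,32,64,512],[1,4,6,32,578,70]),([1,2,4,32,64,512],[1,4,6,32,578,97]),([1,2,4,32,64,512],[1,4,6,32,578,99]),([1,2,4,32,64,512],[1,4,6,32,578,101]),([1,2,4,32,64,512],[1,4,6,32,578,103]),([1,2,4,32,64,512],[1,4,6,32,576,64]),([1,2,4,32,64,512],[1,4,6,32,576,66]),([1,2,4,32,64,512],[1,4,6,32,576,68]),([1,2,4,32,64,512],[1,4,6,32,576,70]),([1,2,4,32,64,512],[1,4,6,32,576,97]),([1,2,4,32,64,512],[1,4,6,32,576,99]),([1,2,4,32,64,512],[1,4,6,32,576,101]),([1,2,4,32,64,512],[1,4,6,32,576,103])]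 = true := by decide +kernel
theorem c20006354 : chkX M20086 [([1,2,4],[1,4,6]),([1,2,8,16],[1,2,16,24]),([1,2,8,16,42,64,128,256],[1,2,16,24,42,88,458,169]),([1,2,4,32,64,512],[1,4,6,32,578,101])] [(2,0,2),(2,0,4),(2,1,4),(2,1,8),(2,2,64),(2,2,128),(2,3,16),(2,3,32)] [0,33,321] = true := by decide +kernel
theorem c20006687 : chkRb M20086 [1,2,4,8,16,32,64,128,256,514] D20086 = true := by decide +kernel
theorem c20006782 : chkRb M20086 [1,2,4,8,16,32,64,128,256,514] D20086 = true := by decide +kernel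
theorem c20006122 : chkStab M20086 [1,2,4,32,64,512] [1] [1] [2,4,33] [([1,2,4,32,66,518],[1,2,4,8,18,38]),([1,2,6,32,64,609],[1,2,6,8,16,57]),([1,2,4,32,64,545],[1,2,4,8,16,41]),([1,2,6,32,97,576],[1,2,6,8,25,48])] [[1,2,4,32,64,512],[1,2,4,32,66,518],[1,2,6,32,64,609],[1,2,4,32,64,545],[1,2,6,32,97,576],[1,2,6,32,66,613],[1,2,4,32,66,551],[1,2,6,32,99,580],[1,2,6,32,64,576],[1,2,4,32,97,545],[1,2,6,32,97,609],[1,2,4,32,97,512],[1,2,6,32,66,580],[1,2,4,32,99,551],[1,2,6,32,99,613],[1,2,4,32,99,518]] [(0,0),(0,1),(0,2),(0,3),(1,1),(1,2),(1,3),(2,2),(2,3),(3,3),(4,1),(5,2),(5,3),(6,3),(7,1)] 4 64 = true := by decide +kernel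
theorem c20006686 : chkStab M20086 [1,2,4,32,64,512] [1] [1] [2,4,33] [([1,2,4,32,66,518],[1,2,4,8,18,38]),([1,2,6,32,64,609],[1,2,6,8,16,57]),([1,2,4,32,64,545],[1,2,4,8,16,41]),([1,2,6,32,97,576],[1,2,6,8,25,48])] [[1,2,4,32,64,512],[1,2,4,32,66,518],[1,2,6,32,64,609],[1,2,4,32,64,545],[1,2,6,32,97,576],[1,2,6,32,66,613],[1,2,4,32,66,551],[1,2,6,32,99,580],[1,2,6,32,64,576],[1,2,4,32,97,545],[1,2,6,32,97,609],[1,2,4,32,97,512],[1,2,6,32,66,580],[1,2,4,32,99,551],[1,2,6,32,99,613],[1,2,4,32,99,518]] [(0,0),(0,1),(0,2),(0,3),(1,1),(1,2),(1,3),(2,2),(2,3),(3,3),(4,1),(5,2),(5,3),(6,3),(7,1)] 4 64 = true := by decide +kernel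
theorem c20006705 : chkStab M20086 [1,2,4,32,64,512] [1] [1] [2,4,33] [([1,2,4,32,66,518],[1,2,4,8,18,38]),([1,2,6,32,64,609],[1,2,6,8,16,57]),([1,2,4,32,68,514],[1,2,4,8,20,34]),([1,2,4,32,68,512],[1,2,4,8,20,32])] [[1,2,4,32,64,512],[1,2,4,32,66,518],[1,2,6,32,64,609],[1,2,4,32,68,514],[1,2,4,32,68,512],[1,2,6,32,66,613],[1,2,4,32,70,516],[1,2,4,32,70,518],[1,2,6,32,70,611],[1,2,6,32,70,609],[1,2,6,32,68,615],[1,2,4,32,64,514],[1,2,6,32,68,613],[1,2,4,32,66,516],[1,2,6,32,64,611],[1,2,6,32,66,615]] [(0,0),(0,1),(0,2),(0,3),(1,1),(1,2),(1,3),(2,2),(2,3),(3,1),(3,3),(4,1),(6,3),(8,3),(10,3)] 4 64 = true := by decide +kernel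
theorem c20006724 : chkStab M20086 [1,2,4,32,64,512] [1] [1] [2,4,33] [([1,2,4,32,66,518],[1,2,4,8,18,38]),([1,2,6,32,64,609],[1,2,6,8,16,57]),([1,2,4,32,68,514],[1,2,4,8,20,34]),([1,2,4,32,68,545],[1,2,4,8,20,41])] [[1,2,4,32,64,512],[1,2,4,32,66,518],[1,2,6,32,64,609],[1,2,4,32,68,514],[1,2,4,32,68,545],[1,2,6,32,66,613],[1,2,4,32,70,516],[1,2,4,32,70,551],[1,2,6,32,70,611],[1,2,6,32,70,576],[1,2,6,32,68,615],[1,2,4,32,64,547],[1,2,6,32,68,580],[1,2,4,32,66,549],[1,2,6,32,64,578],[1,2,6,32,66,582]] [(0,0),(0,1),(0,2),(0,3),(1,1),(1,2),(1,3),(2,2),(2,3),(3,1),(3,3),(4,1),(6,3),(8,3),(10,3)] 4 64 = true := by decide +kernel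
theorem c20006736 : chkStab M20086 [1,2,4,32,64,512] [1] [1] [2,4,33] [([1,2,4,32,66,518],[1,2,4,8,18,38]),([1,2,6,32,64,609],[1,2,6,8,16,57]),([1,2,4,32,64,514],[1,2,4,8,16,34]),([1,2,6,32,68,611],[1,2,6,8,20,59])] [[1,2,4,32,64,512],[1,2,4,32,66,518],[1,2,6,32,64,609],[1,2,4,32,64,514],[1,2,6,32,68,611],[1,2,6,32,66,613],[1,2,4,32,66,516],[1,2,6,32,70,615],[1,2,6,32,64,611],[1,2,4,32,70,514],[1,2,6,32,68,609],[1,2,4,32,68,518],[1,2,6,32,66,615],[1,2,4,32,68,516],[1,2,6,32,70,613],[1,2,4,32,70,512]] [(0,0),(0,1),(0,2),(0,3),(1,1),(1,2),(1,3),(2,2),(2,3),(3,3),(4,1),(5,2),(5,3),(6,3),(7,1)] 4 64 = true := by decide +kernel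
theorem c20006746 : chkStab M20086 [1,2,4,32,64,512] [1] [1] [2,4,33] [([1,2,4,32,66,518],[1,2,4,8,18,38]),([1,2,6,32,64,609],[1,2,6,8,16,57]),([1,2,4,32,70,516],[1,2,4,8,22,36]),([1,2,4,32,68,547],[1,2,4,8,20,43])] [[1,2,4,32,64,512],[1,2,4,32,66,518],[1,2,6,32,64,609],[1,2,4,32,70,516],[1,2,4,32,68,547],[1,2,6,32,66,613],[1,2,4,32,68,514],[1,2,4,32,70,549],[1,2,6,32,68,615],[1,2,6,32,70,578],[1,2,6,32,70,611],[1,2,4,32,66,551],[1,2,6,32,68,582],[1,2,4,32,64,545],[1,2,6,32,66,580],[1,2,6,32,64,576]] [(0,0),(0,1),(0,2),(0,3),(1,1),(1,2),(1,3),(2,2),(2,3),(3,1),(3,3),(4,1),(6,3),(8,3),(10,3)] 4 64 = true := by decide +kernel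
theorem c20006756 : chkStab M20086 [1,2,4,32,64,512] [1] [1] [2,4,33] [([1,2,4,32,66,518],[1,2,4,8,18,38]),([1,2,6,32,64,609],[1,2,6,8,16,57]),([1,2,4,32,68,514],[1,2,4,8,20,34]),([1,2,4,32,68,545],[1,2,4,8,20,41])] [[1,2,4,32,64,512],[1,2,4,32,66,518],[1,2,6,32,64,609],[1,2,4,32,68,514],[1,2,4,32,68,545],[1,2,6,32,66,613],[1,2,4,32,70,516],[1,2,4,32,70,551],[1,2,6,32,70,611],[1,2,6,32,70,576],[1,2,6,32,68,615],[1,2,4,32,64,547],[1,2,6,32,68,580],[1,2,4,32,66,549],[1,2,6,32,64,578],[1,2,6,32,66,582]] [(0,0),(0,1),(0,2),(0,3),(1,1),(1,2),(1,3),(2,2),(2,3),(3,1),(3,3),(4,1),(6,3),(8,3),(10,3)] 4 64 = true := by decide +kernel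
theorem c20006766 : chkStab M20086 [1,2,4,32,64,512] [1] [1] [2,4,33] [([1,2,4,32,66,518],[1,2,4,8,18,38]),([1,2,6,32,64,609],[1,2,6,8,16,57]),([1,2,4,32,68,514],[1,2,4,8,20,34]),([1,2,4,32,68,545],[1,2,4,8,20,41])] [[1,2,4,32,64,512],[1,2,4,32,66,518],[1,2,6,32,64,609],[1,2,4,32,68,514],[1,2,4,32,68,545],[1,2,6,32,66,613],[1,2,4,32,70,516],[1,2,4,32,70,551],[1,2,6,32,70,611],[1,2,6,32,70,576],[1,2,6,32,68,615],[1,2,4,32,64,547],[1,2,6,32,68,580],[1,2,4,32,66,549],[1,2,6,32,64,578],[1,2,6,32,66,582]] [(0,0),(0,1),(0,2),(0,3),(1,1),(1,2),(1,3),(2,2),(2,3),(3,1),(3,3),(4,1),(6,3),(8,3),(10,3)] 4 64 = true := by decide +kernel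
theorem c20006776 : chkStab M20086 [1,2,4,32,64,512] [1] [1] [2,4,33] [([1,2,4,32,66,518],[1,2,4,8,18,38]),([1,2,6,32,64,609],[1,2,6,8,16,57]),([1,2,4,32,64,514],[1,2,4,8,16,34]),([1,2,6,32,68,611],[1,2,6,8,20,59])] [[1,2,4,32,64,512],[1,2,4,32,66,518],[1,2,6,32,64,609],[1,2,4,32,64,514],[1,2,6,32,68,611],[1,2,6,32,66,613],[1,2,4,32,66,516],[1,2,6,32,70,615],[1,2,6,32,64,611],[1,2,4,32,70,514],[1,2,6,32,68,609],[1,2,4,32,68,518],[1,2,6,32,66,615],[1,2,4,32,68,516],[1,2,6,32,70,613],[1,2,4,32,70,512]] [(0,0),(0,1),(0,2),(0,3),(1,1),(1,2),(1,3),(2,2),(2,3),(3,3),(4,1),(5,2),(5,3),(6,3),(7,1)] 4 64 = true := by decide +kernel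
theorem c20006795 : chkStab M20086 [1,2,4,32,64,512] [1] [1] [2,4,33] [([1,2,4,32,66,518],[1,2,4,8,18,38]),([1,2,6,32,64,609],[1,2,6,8,16,57]),([1,2,4,32,70,516],[1,2,4,8,22,36]),([1,2,4,32,68,547],[1,2,4,8,20,43])] [[1,2,4,32,64,512],[1,2,4,32,66,518],[1,2,6,32,64,609],[1,2,4,32,70,516],[1,2,4,32,68,547],[1,2,6,32,66,613],[1,2,4,32,68,514],[1,2,4,32,70,549],[1,2,6,32,68,615],[1,2,6,32,70,578],[1,2,6,32,70,611],[1,2,4,32,66,551],[1,2,6,32,68,582],[1,2,4,32,64,545],[1,2,6,32,66,580],[1,2,6,32,64,576]] [(0,0),(0,1),(0,2),(0,3),(1,1),(1,2),(1,3),(2,2),(2,3),(3,1),(3,3),(4,1),(6,3),(8,3),(10,3)] 4 64 = true := by decide +kernel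
theorem c20006805 : chkStab M20086 [1,2,4,32,64,512] [1] [1] [2,4,33] [([1,2,4,32,66,518],[1,2,4,8,18,38]),([1,2,6,32,64,609],[1,2,6,8,16,57]),([1,2,4,32,68,514],[1,2,4,8,20,34]),([1,2,4,32,68,545],[1,2,4,8,20,41])] [[1,2,4,32,64,512],[1,2,4,32,66,518],[1,2,6,32,64,609],[1,2,4,32,68,514],[1,2,4,32,68,545],[1,2,6,32,66,613],[1,2,4,32,70,516],[1,2,4,32,70,551],[1,2,6,32,70,611],[1,2,6,32,70,576],[1,2,6,32,68,615],[1,2,4,32,64,547],[1,2,6,32,68,580],[1,2,4,32,66,549],[1,2,6,32,64,578],[1,2,6,32,66,582]] [(0,0),(0,1),(0,2),(0,3),(1,1),(1,2),(1,3),(2,2),(2,3),(3,1),(3,3),(4,1),(6,3),(8,3),(10,3)] 4 64 = true := by decide +kernel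
theorem c20006817 : chkStab M20086 [1,2,4,32,64,512] [1] [1] [2,4,33] [([1,2,4,32,66,518],[1,2,4,8,18,38]),([1,2,6,32,64,609],[1,2,6,8,16,57]),([1,2,4,32,68,514],[1,2,4,8,20,34]),([1,2,4,32,68,512],[1,2,4,8,20,32])] [[1,2,4,32,64,512],[1,2,4,32,66,518],[1,2,6,32,64,609],[1,2,4,32,68,514],[1,2,4,32,68,512],[1,2,6,32,66,613],[1,2,4,32,70,516],[1,2,4,32,70,518],[1,2,6,32,70,611],[1,2,6,32,70,609],[1,2,6,32,68,615],[1,2,4,32,64,514],[1,2,6,32,68,613],[1,2,4,32,66,516],[1,2,6,32,64,611],[1,2,6,32,66,615]] [(0,0),(0,1),(0,2),(0,3),(1,1),(1,2),(1,3),(2,2),(2,3),(3,1),(3,3),(4,1),(6,3),(8,3),(10,3)] 4 64 = true := by decide +kernel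
theorem c20005798 : chkStK M20086 6 [1,2,4,8,16,32,64,128,256,512] 0x21020000000000000000000000000000000000000000000000000000000000000000000000000000000000000000000001000 ([1,2,4],[1,4,6]) ([1,2,8,16],[1,2,16,24]) = true := by decide +kernel
theorem c20005826 : chkStK M20086 6 [1,2,4,8,16,32,64,128,256,512] 0x21020000000000000000000000000000000000000000000000000000000000000000000000000000000000000000000001000 ([1,2,4],[1,4,6]) ([1,2,8,16],[1,2,16,24]) = true := by decide +kernel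
theorem c20005854 : chkStK M20086 6 [1,2,4,8,16,32,64,128,256,512] 0x21020000000000000000000000000000000000000000000000000000000000000000000000000000000000000000000001000 ([1,2,4],[1,4,6]) ([1,2,8,16],[1,2,16,24]) = true := by decide +kernel
theorem c20006080 : chkStK M20086 6 [1,2,4,8,16,32,64,128,256,512] 0x21020000000000000000000000000000000000000000000000000000000000000000000000000000000000000000000001000 ([1,2,4],[1,4,6]) ([1,2,8,16],[1,2,16,24]) = true := by decide +kernel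
theorem c20006110 : chkStK M20086 6 [1,2,4,8,16,32,64,128,256,514] 0x21020000000000000000000000000000000000000000000000000000000000000000000000000000000000000000000001000 ([1,2,4],[1,4,6]) ([1,2,8,16],[1,2,16,24]) = true := by decide +kernel
theorem c20006707 : chkStK M20086 6 [1,2,4,8,16,32,64,128,256,514] 0x21020000000000000000000000000000000000000000000000000000000000000000000000000000000000000000000001000 ([1,2,4],[1,4,6]) ([1,2,8,16],[1,2,16,24]) = true := by decide +kernel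
theorem c20006384 : chkStK M20086 6 [1,2,4,8,16,32,64,128,256,512] 0x21020000000000000000000000000000000000000000000000000000000000000000000000000000000000000000000001000 ([1,2,4],[1,4,6]) ([1,2,8,16],[1,2,16,24]) = true := by decide +kernel
theorem c20006412 : chkStK M20086 6 [1,2,4,8,16,32,64,128,256,512] 0x21020000000000000000000000000000000000000000000000000000000000000000000000000000000000000000000001000 ([1,2,4],[1,4,6]) ([1,2,8,16],[1,2,16,24]) = true := by decide +kernel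
theorem c20006440 : chkStK M20086 6 [1,2,4,8,16,32,64,128,256,512] 0x21020000000000000000000000000000000000000000000000000000000000000000000000000000000000000000000001000 ([1,2,4],[1,4,6]) ([1,2,8,16],[1,2,16,24]) = true := by decide +kernel
theorem c20006662 : chkStK M20086 6 [1,2,4,8,16,32,64,128,256,512] 0x21020000000000000000000000000000000000000000000000000000000000000000000000000000000000000000000001000 ([1,2,4],[1,4,6]) ([1,2,8,16],[1,2,16,24]) = true := by decide +kernel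
theorem c20005514 : chkBig M20086 6 2 [1,2,4,8,16,32,64] = true := by decide +kernel
theorem c20006129 : chkBig M20086 6 2 [1,2,4,8,16,32,64] = true := by decide +kernel
theorem c20006133 : chkBig M20086 6 97 [2,4,8,16,33,64,128] = true := by decide +kernel
theorem c20005701 : chkStab M20086 [1,2,4,32] [1] [1] [1,2,4,32] [([1,2,6,32],[1,2,6,8]),([1,2,4,34],[1,2,4,10])] [[1,2,4,32],[1,2,6,32],[1,2,4,34],[1,2,6,34]] [(0,0),(0,1),(1,1)] 2 32 = true := by decide +kernel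
theorem c20005709 : chkStab M20086 [1,2,4,32] [1] [1] [1,2,4,32] [([1,2,6,32],[1,2,6,8]),([1,2,4,34],[1,2,4,10])] [[1,2,4,32],[1,2,6,32],[1,2,4,34],[1,2,6,34]] [(0,0),(0,1),(1,1)] 2 32 = true := by decide +kernel
theorem c20006312 : chkStab M20086 [1,2,4,32] [1] [1] [1,2,4,32] [([1,2,6,32],[1,2,6,8]),([1,2,4,34],[1,2,4,10])] [[1,2,4,32],[1,2,6,32],[1,2,4,34],[1,2,6,34]] [(0,0),(0,1),(1,1)] 2 32 = true := by decide +kernel
theorem c20006320 : chkStab M20086 [1,2,4,32] [1] [1] [1,2,4,32] [([1,2,6,32],[1,2,6,8]),([1,2,4,34],[1,2,4,10])] [[1,2,4,32],[1,2,6,32],[1,2,4,34],[1,2,6,34]] [(0,0),(0,1),(1,1)] 2 32 = true := by decide +kernel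
theorem c20006727 : chkDer M20086 [([1,2,4,32,64,512],[1,4,6,32,611,103])] [(1,0,[1,2,4,8,16,32]),(0,8,[]),(2,0,[1,4,2,8,52,38]),(0,8,[]),(1,0,[1,6,2,8,47,61])] ([1,2,4,32,64,512],[1,2,4,32,68,547]) = true := by decide +kernel
theorem c20006754 : chkDer M20086 [([1,2,4,32,64,512],[1,4,6,32,609,103])] [(1,0,[1,2,4,8,16,32]),(0,8,[]),(2,0,[1,4,2,8,52,38]),(0,8,[]),(1,0,[1,6,2,8,47,61])] ([1,2,4,32,64,512],[1,2,4,32,68,545]) = true := by decide +kernel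
theorem c20006803 : chkDer M20086 [([1,2,4,32,64,512],[1,4,6,32,576,70])] [(1,0,[1,2,4,8,16,32]),(0,8,[]),(2,0,[1,4,2,8,61,38]),(0,8,[]),(1,0,[1,6,2,8,38,61])] ([1,2,4,32,64,512],[1,2,4,32,68,545]) = true := by decide +kernel
theorem c20006104 : chkDer M20086 [([1,2,4,32,64,512],[1,4,6,32,611,101])] [(1,0,[1,2,4,8,16,32]),(0,8,[]),(2,0,[1,4,2,8,50,38]),(0,8,[]),(1,0,[1,6,2,8,43,61])] ([1,2,4,32,64,512],[1,2,4,32,64,545]) = true := by decide +kernel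
theorem c20006732 : chkDer M20086 [([1,2,4,32,64,512],[1,4,6,32,609,68])] [(1,0,[1,2,4,8,16,32]),(0,8,[]),(2,0,[1,4,2,8,59,38]),(0,8,[]),(1,0,[1,6,2,8,34,61])] ([1,2,4,32,64,512],[1,2,4,32,64,514]) = true := by decide +kernel
theorem c20006796 : chkDer M20086 [([1,2,4,32,64,512],[1,4,6,32,576,68])] [(1,0,[1,2,4,8,16,32]),(0,8,[]),(2,0,[1,4,2,8,59,38]),(0,8,[]),(1,0,[1,6,2,8,34,61])] ([1,2,4,32,64,512],[1,2,4,32,64,547]) = true := by decide +kernel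
theorem c20006703 : chkDer M20086 [([1,2,4,32,64,512],[1,4,6,32,611,66])] [(1,0,[1,2,4,8,16,32]),(0,8,[]),(2,0,[1,4,2,8,63,32]),(0,8,[]),(1,0,[1,6,2,8,36,57])] ([1,2,4,32,64,512],[1,2,4,32,68,512]) = true := by decide +kernel
theorem c20006744 : chkDer M20086 [([1,2,4,32,64,512],[1,4,6,32,609,99])] [(1,0,[1,2,4,8,16,32]),(0,8,[]),(2,0,[1,4,2,8,54,32]),(0,8,[]),(1,0,[1,6,2,8,45,57])] ([1,2,4,32,64,512],[1,2,4,32,68,547]) = true := by decide +kernel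
theorem c20006779 : chkDer M20086 [([1,2,4,32,64,512],[1,4,6,32,578,99])] [(1,0,[1,2,4,8,16,32]),(0,8,[]),(2,0,[1,4,2,8,54,32]),(0,8,[]),(1,0,[1,6,2,8,45,57])] ([1,2,4,32,64,512],[1,2,4,32,68,512]) = true := by decide +kernel
theorem c20006118 : chkDer M20086 [([1,2,4,32,64,512],[1,4,6,32,609,97])] [(1,0,[1,2,4,8,16,32]),(0,8,[]),(2,0,[1,4,2,8,48,32]),(0,8,[]),(1,0,[1,6,2,8,41,57])] ([1,2,4,32,64,512],[1,2,4,32,64,545]) = true := by decide +kernel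
theorem c20006696 : chkDer M20086 [([1,2,4,32,64,512],[1,4,6,32,611,64])] [(1,0,[1,2,4,8,16,32]),(0,8,[]),(2,0,[1,4,2,8,57,32]),(0,8,[]),(1,0,[1,6,2,8,32,57])] ([1,2,4,32,64,512],[1,2,4,32,64,514]) = true := by decide +kernel
theorem c20006757 : chkDer M20086 [([1,2,4,32,64,512],[1,4,6,32,578,64])] [(1,0,[1,2,4,8,16,32]),(0,8,[]),(2,0,[1,4,2,8,57,32]),(0,8,[]),(1,0,[1,6,2,8,32,57])] ([1,2,4,32,64,512],[1,2,4,32,64,547]) = true := by decide +kernel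
theorem c20006720 : chkDer M20086 [([1,2,4,32,64,512],[1,4,6,32,611,99])] [(1,0,[1,2,4,8,16,32]),(1,0,[1,4,6,8,59,27]),(1,0,[1,6,2,8,45,54])] ([1,2,4,32,64,512],[1,2,4,32,68,514]) = true := by decide +kernel
theorem c20006777 : chkDer M20086 [([1,2,4,32,64,512],[1,4,6,32,578,99])] [(1,0,[1,2,4,8,16,32]),(1,0,[1,4,6,8,50,27]),(1,0,[1,6,2,8,45,63])] ([1,2,4,32,64,512],[1,2,4,32,68,514]) = true := by decide +kernel
theorem c20006701 : chkDer M20086 [([1,2,4,32,64,512],[1,4,6,32,611,66])] [(1,0,[1,2,4,8,16,32]),(1,0,[1,4,6,8,59,18]),(1,0,[1,6,2,8,36,63])] ([1,2,4,32,64,512],[1,2,4,32,68,514]) = true := by decide +kernel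
theorem c20006737 : chkDer M20086 [([1,2,4,32,64,512],[1,4,6,32,609,70])] [(1,0,[1,2,4,8,16,32]),(1,0,[1,4,6,8,57,22]),(1,0,[1,6,2,8,38,59])] ([1,2,4,32,64,512],[1,2,4,32,68,514]) = true := by decide +kernel
theorem c20005695 : chkDer M20086 [([1,2,4,32],[1,4,6,32]),([1,2,4,8,16,32,64,128,256,512],[32,2,4,8,113,3,64,138,377,518])] [(1,0,[1,2,4,8]),(1,1,[1,4,6,32]),(1,0,[8,4,6,3]),(2,1,[1,6,2,38]),(1,0,[1,6,2,14])] ([1,2,4,32],[1,2,4,34]) = true := by decide +kernel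
theorem c20005703 : chkDer M20086 [([1,2,4,32],[1,4,6,32]),([1,2,4,8,16,32,64,128,256,512],[32,2,4,8,113,3,64,138,379,518])] [(1,0,[1,2,4,8]),(1,1,[1,4,6,32]),(1,0,[8,4,6,3]),(2,1,[1,6,2,38]),(1,0,[1,6,2,14])] ([1,2,4,32],[1,2,4,34]) = true := by decide +kernel
theorem c20006306 : chkDer M20086 [([1,2,4,32],[1,4,6,32]),([1,2,4,8,16,32,64,128,256,512],[32,2,4,8,113,3,64,138,377,518])] [(1,0,[1,2,4,8]),(1,1,[1,4,6,32]),(1,0,[8,4,6,3]),(2,1,[1,6,2,38]),(1,0,[1,6,2,14])] ([1,2,4,32],[1,2,4,34]) = true := by decide +kernel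
theorem c20006314 : chkDer M20086 [([1,2,4,32],[1,4,6,32]),([1,2,4,8,16,32,64,128,256,512],[32,2,4,8,113,3,64,138,379,518])] [(1,0,[1,2,4,8]),(1,1,[1,4,6,32]),(1,0,[8,4,6,3]),(2,1,[1,6,2,38]),(1,0,[1,6,2,14])] ([1,2,4,32],[1,2,4,34]) = true := by decide +kernel
theorem c20006762 : chkDer M20086 [([1,2,4,32,64,512],[1,4,6,32,578,66])] [(1,0,[1,2,4,8,16,32]),(1,0,[1,4,6,8,50,18]),(1,0,[1,6,2,8,36,54])] ([1,2,4,32,64,512],[1,2,4,32,68,514]) = true := by decide +kernel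
theorem c20006806 : chkDer M20086 [([1,2,4,32,64,512],[1,4,6,32,576,99])] [(2,0,[1,6,2,8,47,63]),(2,0,[1,4,6,8,50,29])] ([1,2,4,32,64,512],[1,4,6,32,578,101]) = true := by decide +kernel
theorem c20006791 : chkDer M20086 [([1,2,4,32,64,512],[1,4,6,32,576,66])] [(1,0,[1,2,4,8,16,32]),(1,0,[1,4,6,8,48,18]),(1,0,[1,6,2,8,34,52])] ([1,2,4,32,64,512],[1,2,4,32,70,516]) = true := by decide +kernel
theorem c20006788 : chkDer M20086 [([1,2,4,32,64,512],[1,4,6,32,578,103])] [(2,0,[1,6,2,8,45,61]),(2,0,[1,4,6,8,48,29])] ([1,2,4,32,64,514],[1,4,6,32,576,101]) = true := by decide +kernel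
theorem c20006106 : chkDer M20086 [([1,2,4,32,64,512],[1,4,6,32,611,101])] [(1,0,[1,2,4,8,16,32]),(0,8,[]),(1,0,[1,6,4,8,34,31])] ([1,2,4,32,64,512],[1,2,6,32,97,576]) = true := by decide +kernel
theorem c20006774 : chkDer M20086 [([1,2,4,32,64,512],[1,4,6,32,578,97])] [(1,0,[1,2,4,8,16,32]),(0,8,[]),(1,0,[1,6,4,8,43,25])] ([1,2,4,32,64,512],[1,2,6,32,68,611]) = true := by decide +kernel
theorem c20006749 : chkDer M20086 [([1,2,4,32,64,512],[1,4,6,32,609,101])] [(1,0,[1,2,4,8,16,32]),(0,8,[]),(1,0,[1,6,4,8,32,31])] ([1,2,4,32,64,512],[1,2,6,32,101,578]) = true := by decide +kernel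
theorem c20006717 : chkDer M20086 [([1,2,4,32,64,512],[1,4,6,32,611,97])] [(1,0,[1,2,4,8,16,32]),(0,8,[]),(1,0,[1,6,4,8,34,25])] ([1,2,4,32,64,512],[1,2,6,32,101,578]) = true := by decide +kernel
theorem c20006120 : chkDer M20086 [([1,2,4,32,64,512],[1,4,6,32,609,97])] [(1,0,[1,2,4,8,16,32]),(0,8,[]),(1,0,[1,6,4,8,32,25])] ([1,2,4,32,64,512],[1,2,6,32,97,576]) = true := by decide +kernel
theorem c20006734 : chkDer M20086 [([1,2,4,32,64,512],[1,4,6,32,609,68])] [(1,0,[1,2,4,8,16,32]),(0,8,[]),(1,0,[1,6,4,8,32,22])] ([1,2,4,32,64,512],[1,2,6,32,68,611]) = true := by decide +kernel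
theorem c20005799 : chkTr M20086 [1,2,4,8,16,32,64,128,256,512] ([1,2,4,32],[1,4,6,32]) ([1,2,4,32],[1,4,6,32]) = true := by decide +kernel
theorem c20005801 : chkTr M20086 [1,2,4,8,16,32,64,128,256,512] ([1,2,8,16,42,64],[1,2,16,24,42,88]) ([1,2,8,16,42,64],[1,2,16,24,42,88]) = true := by decide +kernel
theorem c20005803 : chkTr M20086 [1,2,4,8,16,32,64,128,256,512] ([1,2,4,32,64,512],[1,4,6,32,611,68]) ([1,2,4,32,64,512],[1,4,6,32,611,68]) = true := by decide +kernel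
theorem c20005814 : chkTr M20086 [1,2,4,8,16,32,64,128,256,512] ([1,2,8,16,42],[1,2,16,24,42]) ([1,2,8,16,42],[1,2,16,24,42]) = true := by decide +kernel
theorem c20005816 : chkTr M20086 [1,2,4,8,16,32,64,128,256,512] ([1,2,8,16,42,64,128,256],[1,2,16,24,42,88,458,169]) ([1,2,8,16,42,64,128,256],[1,2,16,24,42,88,458,169]) = true := by decide +kernel
theorem c20005827 : chkTr M20086 [1,2,4,8,16,32,64,128,256,512] ([1,2,4,32],[1,4,6,32]) ([1,2,4,32],[1,4,6,32]) = true := by decide +kernel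
theorem c20005829 : chkTr M20086 [1,2,4,8,16,32,64,128,256,512] ([1,2,8,16,42,64],[1,2,16,24,42,88]) ([1,2,8,16,42,64],[1,2,16,24,42,88]) = true := by decide +kernel
theorem c20005831 : chkTr M20086 [1,2,4,8,16,32,64,128,256,512] ([1,2,4,32,64,512],[1,4,6,32,611,68]) ([1,2,4,32,64,512],[1,4,6,32,611,68]) = true := by decide +kernel
theorem c20005842 : chkTr M20086 [1,2,4,8,16,32,64,128,256,512] ([1,2,8,16,42],[1,2,16,24,42]) ([1,2,8,16,42],[1,2,16,24,42]) = true := by decide +kernel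
theorem c20005844 : chkTr M20086 [1,2,4,8,16,32,64,128,256,512] ([1,2,8,16,42,64,128,256],[1,2,16,24,42,88,458,169]) ([1,2,8,16,42,64,128,256],[1,2,16,24,42,88,458,169]) = true := by decide +kernel
theorem c20005855 : chkTr M20086 [1,2,4,8,16,32,64,128,256,512] ([1,2,4,32],[1,4,6,32]) ([1,2,4,32],[1,4,6,32]) = true := by decide +kernel
theorem c20005857 : chkTr M20086 [1,2,4,8,16,32,64,128,256,512] ([1,2,8,16,42,64],[1,2,16,24,42,88]) ([1,2,8,16,42,64],[1,2,16,24,42,88]) = true := by decide +kernel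
theorem c20005859 : chkTr M20086 [1,2,4,8,16,32,64,128,256,512] ([1,2,4,32,64,512],[1,4,6,32,611,68]) ([1,2,4,32,64,512],[1,4,6,32,611,68]) = true := by decide +kernel
theorem c20005870 : chkTr M20086 [1,2,4,8,16,32,64,128,256,512] ([1,2,8,16,42],[1,2,16,24,42]) ([1,2,8,16,42],[1,2,16,24,42]) = true := by decide +kernel
theorem c20005872 : chkTr M20086 [1,2,4,8,16,32,64,128,256,512] ([1,2,8,16,42,64,128,256],[1,2,16,24,42,88,458,169]) ([1,2,8,16,42,64,128,256],[1,2,16,24,42,88,458,169]) = true := by decide +kernel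
theorem c20006081 : chkTr M20086 [1,2,4,8,16,32,64,128,256,512] ([1,2,4,32],[1,4,6,32]) ([1,2,4,32],[1,4,6,32]) = true := by decide +kernel
theorem c20006083 : chkTr M20086 [1,2,4,8,16,32,64,128,256,512] ([1,2,8,16,42,64],[1,2,16,24,42,88]) ([1,2,8,16,42,64],[1,2,16,24,42,88]) = true := by decide +kernel
theorem c20006085 : chkTr M20086 [1,2,4,8,16,32,64,128,256,512] ([1,2,4,32,64,512],[1,4,6,32,611,68]) ([1,2,4,32,64,512],[1,4,6,32,611,68]) = true := by decide +kernel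
theorem c20006096 : chkTr M20086 [1,2,4,8,16,32,64,128,256,512] ([1,2,8,16,42],[1,2,16,24,42]) ([1,2,8,16,42],[1,2,16,24,42]) = true := by decide +kernel
theorem c20006098 : chkTr M20086 [1,2,4,8,16,32,64,128,256,512] ([1,2,8,16,42,64,128,256],[1,2,16,24,42,88,458,169]) ([1,2,8,16,42,64,128,256],[1,2,16,24,42,88,458,169]) = true := by decide +kernel
theorem c20006111 : chkTr M20086 [1,2,4,8,16,32,64,128,256,514] ([1,2,4,32],[1,4,6,32]) ([1,2,4,32],[1,4,6,32]) = true := by decide +kernel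
theorem c20006113 : chkTr M20086 [1,2,4,8,16,32,64,128,256,514] ([1,2,8,16,42,64],[1,2,16,24,42,88]) ([1,2,8,16,42,64],[1,2,16,24,42,88]) = true := by decide +kernel
theorem c20006117 : chkTr M20086 [1,2,4,8,16,32,64,128,256,514] ([1,2,4,32,64,512],[1,4,6,32,611,68]) ([1,2,4,32,64,514],[1,4,6,32,609,68]) = true := by decide +kernel
theorem c20006690 : chkTr M20086 [1,2,4,8,16,32,64,128,256,514] ([1,2,8,16,42],[1,2,16,24,42]) ([1,2,8,16,42],[1,2,16,24,42]) = true := by decide +kernel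
theorem c20006692 : chkTr M20086 [1,2,4,8,16,32,64,128,256,514] ([1,2,8,16,42,64,128,256],[1,2,16,24,42,88,458,169]) ([1,2,8,16,42,64,128,256],[1,2,16,24,42,88,458,169]) = true := by decide +kernel
theorem c20006708 : chkTr M20086 [1,2,4,8,16,32,64,128,256,514] ([1,2,4,32],[1,4,6,32]) ([1,2,4,32],[1,4,6,32]) = true := by decide +kernel
theorem c20006710 : chkTr M20086 [1,2,4,8,16,32,64,128,256,514] ([1,2,8,16,42,64],[1,2,16,24,42,88]) ([1,2,8,16,42,64],[1,2,16,24,42,88]) = true := by decide +kernel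
theorem c20006714 : chkTr M20086 [1,2,4,8,16,32,64,128,256,514] ([1,2,4,32,64,512],[1,4,6,32,611,68]) ([1,2,4,32,64,514],[1,4,6,32,609,68]) = true := by decide +kernel
theorem c20006785 : chkTr M20086 [1,2,4,8,16,32,64,128,256,514] ([1,2,8,16,42],[1,2,16,24,42]) ([1,2,8,16,42],[1,2,16,24,42]) = true := by decide +kernel
theorem c20006787 : chkTr M20086 [1,2,4,8,16,32,64,128,256,514] ([1,2,8,16,42,64,128,256],[1,2,16,24,42,88,458,169]) ([1,2,8,16,42,64,128,256],[1,2,16,24,42,88,458,169]) = true := by decide +kernel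
theorem c20006385 : chkTr M20086 [1,2,4,8,16,32,64,128,256,512] ([1,2,4,32],[1,4,6,32]) ([1,2,4,32],[1,4,6,32]) = true := by decide +kernel
theorem c20006387 : chkTr M20086 [1,2,4,8,16,32,64,128,256,512] ([1,2,8,16,42,64],[1,2,16,24,42,88]) ([1,2,8,16,42,64],[1,2,16,24,42,88]) = true := by decide +kernel
theorem c20006389 : chkTr M20086 [1,2,4,8,16,32,64,128,256,512] ([1,2,4,32,64,512],[1,4,6,32,578,101]) ([1,2,4,32,64,512],[1,4,6,32,578,101]) = true := by decide +kernel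
theorem c20006400 : chkTr M20086 [1,2,4,8,16,32,64,128,256,512] ([1,2,8,16,42],[1,2,16,24,42]) ([1,2,8,16,42],[1,2,16,24,42]) = true := by decide +kernel
theorem c20006402 : chkTr M20086 [1,2,4,8,16,32,64,128,256,512] ([1,2,8,16,42,64,128,256],[1,2,16,24,42,88,458,169]) ([1,2,8,16,42,64,128,256],[1,2,16,24,42,88,458,169]) = true := by decide +kernel
theorem c20006413 : chkTr M20086 [1,2,4,8,16,32,64,128,256,512] ([1,2,4,32],[1,4,6,32]) ([1,2,4,32],[1,4,6,32]) = true := by decide +kernel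
theorem c20006415 : chkTr M20086 [1,2,4,8,16,32,64,128,256,512] ([1,2,8,16,42,64],[1,2,16,24,42,88]) ([1,2,8,16,42,64],[1,2,16,24,42,88]) = true := by decide +kernel
theorem c20006417 : chkTr M20086 [1,2,4,8,16,32,64,128,256,512] ([1,2,4,32,64,512],[1,4,6,32,578,101]) ([1,2,4,32,64,512],[1,4,6,32,578,101]) = true := by decide +kernel
theorem c20006428 : chkTr M20086 [1,2,4,8,16,32,64,128,256,512] ([1,2,8,16,42],[1,2,16,24,42]) ([1,2,8,16,42],[1,2,16,24,42]) = true := by decide +kernel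
theorem c20006430 : chkTr M20086 [1,2,4,8,16,32,64,128,256,512] ([1,2,8,16,42,64,128,256],[1,2,16,24,42,88,458,169]) ([1,2,8,16,42,64,128,256],[1,2,16,24,42,88,458,169]) = true := by decide +kernel
theorem c20006441 : chkTr M20086 [1,2,4,8,16,32,64,128,256,512] ([1,2,4,32],[1,4,6,32]) ([1,2,4,32],[1,4,6,32]) = true := by decide +kernel
theorem c20006443 : chkTr M20086 [1,2,4,8,16,32,64,128,256,512] ([1,2,8,16,42,64],[1,2,16,24,42,88]) ([1,2,8,16,42,64],[1,2,16,24,42,88]) = true := by decide +kernel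
theorem c20006445 : chkTr M20086 [1,2,4,8,16,32,64,128,256,512] ([1,2,4,32,64,512],[1,4,6,32,578,101]) ([1,2,4,32,64,512],[1,4,6,32,578,101]) = true := by decide +kernel
theorem c20006456 : chkTr M20086 [1,2,4,8,16,32,64,128,256,512] ([1,2,8,16,42],[1,2,16,24,42]) ([1,2,8,16,42],[1,2,16,24,42]) = true := by decide +kernel
theorem c20006458 : chkTr M20086 [1,2,4,8,16,32,64,128,256,512] ([1,2,8,16,42,64,128,256],[1,2,16,24,42,88,458,169]) ([1,2,8,16,42,64,128,256],[1,2,16,24,42,88,458,169]) = true := by decide +kernel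
theorem c20006663 : chkTr M20086 [1,2,4,8,16,32,64,128,256,512] ([1,2,4,32],[1,4,6,32]) ([1,2,4,32],[1,4,6,32]) = true := by decide +kernel
theorem c20006665 : chkTr M20086 [1,2,4,8,16,32,64,128,256,512] ([1,2,8,16,42,64],[1,2,16,24,42,88]) ([1,2,8,16,42,64],[1,2,16,24,42,88]) = true := by decide +kernel
theorem c20006667 : chkTr M20086 [1,2,4,8,16,32,64,128,256,512] ([1,2,4,32,64,512],[1,4,6,32,578,101]) ([1,2,4,32,64,512],[1,4,6,32,578,101]) = true := by decide +kernel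
theorem c20006678 : chkTr M20086 [1,2,4,8,16,32,64,128,256,512] ([1,2,8,16,42],[1,2,16,24,42]) ([1,2,8,16,42],[1,2,16,24,42]) = true := by decide +kernel
theorem c20006680 : chkTr M20086 [1,2,4,8,16,32,64,128,256,512] ([1,2,8,16,42,64,128,256],[1,2,16,24,42,88,458,169]) ([1,2,8,16,42,64,128,256],[1,2,16,24,42,88,458,169]) = true := by decide +kernel
theorem c20005477 : chkScM M20086 [1,2,4,32] [1,2,4,32] [1,2,4,32,64,512] [1,2,4,8] [1,2,4,8] = true := by decide +kernel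
theorem c20005535 : chkDer M20086 [([1,2,8,16,42,64,128,256],[1,2,16,24,42,88,458,169]),([1,2,8,16,42],[1,2,16,24,42])] [(0,16,[]),(1,0,[183]),(0,512,[]),(2,1,[21])] ([256],[33]) = true := by decide +kernel
theorem c20006115 : chkDer M20086 [([1,2,4,32,64,512],[1,4,6,32,609,64])] [(1,0,[1,2,4,8,16,34])] ([1,2,4,32,64,514],[1,4,6,32,609,68]) = true := by decide +kernel
theorem c20005539 : chkDer M20086 [([1,2,4,32,64,512],[1,4,6,32,611,68]),([1,2,4,32],[1,4,6,32])] [(1,0,[32]),(0,144,[]),(2,1,[11]),(0,16,[])] ([512],[33]) = true := by decide +kernel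
theorem c20006102 : chkDer M20086 [] [(0,8,[])] ([1,2,4,32,64,512],[1,2,6,32,64,609]) = true := by decide +kernel
theorem c20005527 : chkDer M20086 [([1,2,8,16,42],[1,2,16,24,42])] [(0,8,[]),(1,0,[29])] ([49],[33]) = true := by decide +kernel
theorem c20005523 : chkDer M20086 [([1,2,4,32],[1,4,6,32])] [(2,0,[11]),(0,16,[])] ([37],[33]) = true := by decide +kernel
theorem c20005621 : chkDer M20086 [] [(0,8,[])] ([1,2,4,32],[1,2,6,32]) = true := by decide +kernel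
theorem c20006152 : chkDer M20086 [([1,2,4,32,64,512],[1,4,6,32,578,101]),([1,2,4],[1,4,6])] [(1,0,[32]),(0,144,[]),(2,1,[2])] ([512],[2]) = true := by decide +kernel
theorem c20006160 : chkDer M20086 [([1,2,4,32,64,512],[1,4,6,32,578,101])] [(0,272,[]),(2,0,[16]),(0,256,[])] ([545],[33]) = true := by decide +kernel
theorem c20005519 : chkDer M20086 [([1,2,4],[1,4,6])] [(2,0,[2])] ([4],[2]) = true := by decide +kernel
theorem c20005560 : chkDer M20086 [] [(0,64,[])] ([1],[3]) = true := by decide +kernel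
theorem c20005571 : chkDer M20086 [] [(0,576,[])] ([1],[5]) = true := by decide +kernel
theorem c20005594 : chkDer M20086 [] [(0,704,[])] ([1],[15]) = true := by decide +kernel
theorem c20005714 : chkDer M20086 [] [(0,16,[])] ([4],[14]) = true := by decide +kernel
theorem c20005722 : chkDer M20086 [] [(0,128,[])] ([1],[106]) = true := by decide +kernel
theorem c20005730 : chkDer M20086 [] [(0,832,[])] ([1],[143]) = true := by decide +kernel
theorem c20005762 : chkDer M20086 [] [(0,264,[])] ([545],[689]) = true := by decide +kernel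
theorem c20005770 : chkDer M20086 [] [(0,8,[])] ([545],[576]) = true := by decide +kernel
theorem c20005778 : chkDer M20086 [] [(0,273,[])] ([545],[701]) = true := by decide +kernel
theorem c20006176 : chkDer M20086 [] [(0,16,[])] ([33],[35]) = true := by decide +kernel
theorem c20006194 : chkDer M20086 [] [(0,24,[])] ([4],[12]) = true := by decide +kernel
theorem c20006321 : chkDer M20086 [] [(0,8,[])] ([4],[6]) = true := by decide +kernel
theorem c20006329 : chkDer M20086 [] [(0,256,[])] ([33],[64]) = true := by decide +kernel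
theorem c20006337 : chkDer M20086 [] [(0,384,[])] ([1],[112]) = true := by decide +kernel

end Cfsg.Lib.L33E
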