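import Cfsg.Agent.L33E.R1C21

set_option autoImplicit false
set_option maxRecDepth 100000
set_option linter.all false
set_option Elab.async false

namespace Cfsg.Lib.L33E

theorem c20006012 : chkFrat M20110 E20006010 [33,35,64] [64,35,66] [33,35,64,1505,691,1538,576,80,88,1205] [33,35,64,1505,691,1538,576,80,88,1205] [(0,[1,2,4]),(0,[1,2,4]),(0,[1,2,4]),(256,[7,4,2]),(0,[1,2,4]),(0,[1,2,4]),(0,[1,2,4]),(272,[2,1,7]),(272,[2,1,7]),(0,[1,2,4])] [⟨0,0,[],0,0,false⟩,⟨0,0,[],0,2,false⟩,⟨2,0,[⟨4,0,0,0⟩,⟨4,3,0,1⟩,⟨0,1,7,0⟩],2,0,false⟩,⟨4,0,[⟨4,0,0,2⟩,⟨4,1,0,3⟩,⟨0,8,11,0⟩],2,3,false⟩,⟨4,0,[⟨4,0,0,4⟩,⟨4,1,0,5⟩,⟨0,8,13,0⟩,⟨0,16,21,0⟩],0,3,false⟩] [] = true := by decide +kernel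
theorem c20005966 : chkSyM M20110 [33,35,64] [33,35,64,1505,691,1538,576,80,88,1205] = true := by decide +kernel
theorem c20005962 : chkSyl M20110 D20110 E20004312 [1,2,4,8,16,32,64,128,256,512,1024] 0 [] [⟨3,0,[],0,0,false⟩,⟨3,0,[],1,2,false⟩,⟨3,0,[],2,3,false⟩,⟨3,0,[],3,0,false⟩,⟨5,0,[],0,0,false⟩,⟨1,3,[],3,0,false⟩,⟨1,106,[],0,0,false⟩,⟨1,122,[],0,0,false⟩,⟨1,7,[],0,0,false⟩,⟨1,32,[],0,0,false⟩] [] [1,2,4,8,16,32,64,128,256,512,1024] [] [] = true := by decide +kernel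
theorem c20005959 : chkCF M20110 (1,Z20004104) [2,4,33,37,49,97,256,512,514,545,1024,1026,1028,1304,1536,1538,1540] = true := by decide +kernel
theorem c20005983 : chkCF M20110 (545,Z20005970) [1] = true := by decide +kernel
theorem c20005997 : chkCF M20110 (1538,Z20005970) [1] = true := by decide +kernel
theorem c20006077 : chkStab M20110 [1,2,8,16,42,64,128,256,1024] [1] [1] [2,41] [([1,2,8,16,42,66,235,379,1057],[1,2,4,8,16,34,113,187,277]),([1,2,10,26,40,64,235,400,1024],[1,2,6,14,18,32,113,200,256]),([1,2,8,18,42,64,130,353,1024],[1,2,4,10,16,32,66,181,256]),([1,2,10,16,42,66,225,355,1121],[1,2,6,8,16,34,117,183,309]),([1,2,8,16,42,64,128,256,1026],[1,2,4,8,16,32,64,128,258])] [[1,2,8,16,42,64,128,256,1024],[1,2,8,16,42,66,235,379,1057],[1,2,10,26,40,64,235,400,1024],[1,2,8,18,42,64,130,353,1024],[1,2,10,16,42,66,225,355,1121],[1,2,8,16,42,64,128,256,1026],[1,2,10,26,40,66,128,483,1057],[1,2,8,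18,42,66,233,280,1057],[1,2,10,16,42,64,136,282,1090],[1,2,8,16,42,66,235,379,1059],[1,2,10,24,40,64,233,497,1024],[1,2,8,26,40,66,138,499,1121],[1,2,10,26,40,64,235,400,1026],[1,2,10,18,42,66,227,258,1121],[1,2,8,18,42,64,130,353,1026],[1,2,8,24,40,66,136,402,1121],[1,2,10,16,42,66,225,355,1123],[1,2,10,24,40,66,130,384,1057],[1,2,8,26,40,64,227,386,1090],[1,2,10,26,40,66,128,483,1059],[1,2,10,18,42,64,138,377,1090],[1,2,8,18,42,66,233,280,1059],[1,2,8,24,40,64,225,481,1090],[1,2,10,16,42,64,136,282,1088],[1,2,10,24,40,64,233,497,1026],[1,2,8,26,40,66,138,499,1123],[1,2,10,18,42,66,227,258,1123],[1,2,8,24,40,66,136,402,1123],[1,2,10,24,40,66,130,384,1059],[1,2,8,26,40,64,227,386,1088],[1,2,10,18,42,64,138,377,1088],[1,2,8,24,40,64,225,481,1088]] [(0,0),(0,1),(0,2),(0,3),(0,4),(1,1),(1,2),(1,3),(1,4),(2,2),(2,3),(2,4),(3,3),(3,4),(4,1),(4,4),(6,2),(6,3),(6,4),(7,3),(7,4),(8,1),(8,4),(10,4),(11,4),(13,4),(15,4),(17,4),(18,4),(20,4),(22,4)]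 5 64 = true := by decide +kernel
theorem c20006056 : chkRb M20110 [1,2,4,8,16,32,64,128,256,512,1026] D20110 = true := by decide +kernel
theorem c20006025 : chkStab M20110 [1,2,4,32,64,512,1024] [1] [1] [2,4,33] [([1,2,4,32,66,518,1057],[1,2,4,8,18,38,73]),([1,2,6,32,64,609,1024],[1,2,6,8,16,57,64]),([1,2,4,32,64,512,1026],[1,2,4,8,16,32,66]),([1,2,6,32,64,609,1030],[1,2,6,8,16,57,70])] [[1,2,4,32,64,512,1024],[1,2,4,32,66,518,1057],[1,2,6,32,64,609,1024],[1,2,4,32,64,512,1026],[1,2,6,32,64,609,1030],[1,2,6,32,66,613,1057],[1,2,4,32,66,518,1059],[1,2,6,32,66,613,1063],[1,2,6,32,64,609,1026],[1,2,4,32,64,512,1028],[1,2,6,32,64,609,1028],[1,2,4,32,64,512,1030],[1,2,6,32,66,613,1059],[1,2,4,32,66,518,1061],[1,2,6,32,66,613,1061],[1,2,4,32,66,518,1063]] [(0,0),(0,1),(0,2),(0,3),(1,1),(1,2),(1,3),(2,2),(2,3),(3,3),(4,1),(5,2),(5,3),(6,3),(7,1)] 4 64 = true := by decide +kernel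
theorem c20006030 : chkStab M20110 [1,2,4,32,64,512,1024] [1] [1] [2,4,33] [([1,2,4,32,66,518,1057],[1,2,4,8,18,38,73]),([1,2,6,32,64,609,1024],[1,2,6,8,16,57,64]),([1,2,4,32,64,512,1026],[1,2,4,8,16,32,66]),([1,2,6,32,64,609,1030],[1,2,6,8,16,57,70])] [[1,2,4,32,64,512,1024],[1,2,4,32,66,518,1057],[1,2,6,32,64,609,1024],[1,2,4,32,64,512,1026],[1,2,6,32,64,609,1030],[1,2,6,32,66,613,1057],[1,2,4,32,66,518,1059],[1,2,6,32,66,613,1063],[1,2,6,32,64,609,1026],[1,2,4,32,64,512,1028],[1,2,6,32,64,609,1028],[1,2,4,32,64,512,1030],[1,2,6,32,66,613,1059],[1,2,4,32,66,518,1061],[1,2,6,32,66,613,1061],[1,2,4,32,66,518,1063]] [(0,0),(0,1),(0,2),(0,3),(1,1),(1,2),(1,3),(2,2),(2,3),(3,3),(4,1),(5,2),(5,3),(6,3),(7,1)] 4 64 = true := by decide +kernel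
theorem c20006055 : chkStab M20110 [1,2,4,32,64,512,1024] [1] [1] [2,4,33] [([1,2,4,32,66,518,1057],[1,2,4,8,18,38,73]),([1,2,6,32,64,609,1024],[1,2,6,8,16,57,64]),([1,2,4,32,64,512,1057],[1,2,4,8,16,32,73]),([1,2,4,32,64,512,1059],[1,2,4,8,16,32,75])] [[1,2,4,32,64,512,1024],[1,2,4,32,66,518,1057],[1,2,6,32,64,609,1024],[1,2,4,32,64,512,1057],[1,2,4,32,64,512,1059],[1,2,6,32,66,613,1057],[1,2,4,32,66,518,1024],[1,2,4,32,66,518,1026],[1,2,6,32,64,609,1057],[1,2,6,32,64,609,1059],[1,2,4,32,64,512,1026],[1,2,6,32,66,613,1024],[1,2,6,32,66,613,1026],[1,2,4,32,66,518,1059],[1,2,6,32,64,609,1026],[1,2,6,32,66,613,1059]] [(0,0),(0,1),(0,2),(0,3),(1,1),(1,2),(1,3),(2,2),(2,3),(3,3),(5,2),(5,3),(6,3),(8,3),(11,3)] 4 64 = true := by decide +kernel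
theorem c20005899 : chkBig M20110 6 33 [1,2,4,8,32,64,144] = true := by decide +kernel
theorem c20006075 : chkDer M20110 [([1,2,8,16,42,64,128,256,1024],[1,2,16,24,42,88,458,169,1315])] [(1,0,[1,2,4,8,16,32,64,128,256]),(1,0,[1,2,8,12,16,44,230,83,407]),(1,0,[1,2,12,4,16,42,145,245,477])] ([1,2,8,16,42,64,128,256,1024],[1,2,8,16,42,64,128,256,1026]) = true := by decide +kernel
theorem c20006048 : chkDer M20110 [([1,2,4,32,64,512,1024],[1,4,6,32,611,68,1061])] [(1,0,[1,2,4,8,16,32,64]),(0,8,[]),(2,0,[1,4,2,8,59,38,70]),(0,8,[]),(1,0,[1,6,2,8,34,61,68])] ([1,2,4,32,64,512,1024],[1,2,4,32,64,512,1059]) = true := by decide +kernel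
theorem c20006053 : chkDer M20110 [([1,2,4,32,64,512,1024],[1,4,6,32,611,68,1059])] [(1,0,[1,2,4,8,16,32,64]),(0,8,[]),(2,0,[1,4,2,8,59,38,64]),(0,8,[]),(1,0,[1,6,2,8,34,61,64])] ([1,2,4,32,64,512,1024],[1,2,4,32,64,512,1059]) = true := by decide +kernel
theorem c20006051 : chkDer M20110 [([1,2,4,32,64,512,1024],[1,4,6,32,611,68,1059])] [(1,0,[1,2,4,8,16,32,64]),(1,0,[1,4,6,8,59,20,75]),(1,0,[1,6,2,8,34,61,70])] ([1,2,4,32,64,512,1024],[1,2,4,32,64,512,1057]) = true := by decide +kernel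
theorem c20006044 : chkDer M20110 [([1,2,4,32,64,512,1024],[1,4,6,32,611,68,1063])] [(2,0,[1,6,2,8,34,61,77]),(2,0,[1,4,6,8,59,20,70])] ([1,2,4,32,64,512,1024],[1,4,6,32,611,68,1030]) = true := by decide +kernel
theorem c20006023 : chkDer M20110 [([1,2,4,32,64,512,1024],[1,4,6,32,611,68,1028])] [(1,0,[1,2,4,8,16,32,64]),(0,8,[]),(1,0,[1,6,4,8,34,22,70])] ([1,2,4,32,64,512,1024],[1,2,6,32,64,609,1030]) = true := by decide +kernel
theorem c20006033 : chkTr M20110 [1,2,4,8,16,32,64,128,256,512,1026] ([1,2,4,32],[1,4,6,32]) ([1,2,4,32],[1,4,6,32]) = true := by decide +kernel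
theorem c20006035 : chkTr M20110 [1,2,4,8,16,32,64,128,256,512,1026] ([1,2,8,16,42,64],[1,2,16,24,42,88]) ([1,2,8,16,42,64],[1,2,16,24,42,88]) = true := by decide +kernel
theorem c20006037 : chkTr M20110 [1,2,4,8,16,32,64,128,256,512,1026] ([1,2,4,32,64,512],[1,4,6,32,611,68]) ([1,2,4,32,64,512],[1,4,6,32,611,68]) = true := by decide +kernel
theorem c20006043 : chkTr M20110 [1,2,4,8,16,32,64,128,256,512,1026] ([1,2,4,32,64,512,1024],[1,4,6,32,611,68,1030]) ([1,2,4,32,64,512,1026],[1,4,6,32,611,68,1028]) = true := by decide +kernel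
theorem c20006059 : chkTr M20110 [1,2,4,8,16,32,64,128,256,512,1026] ([1,2,8,16,42],[1,2,16,24,42]) ([1,2,8,16,42],[1,2,16,24,42]) = true := by decide +kernel
theorem c20006061 : chkTr M20110 [1,2,4,8,16,32,64,128,256,512,1026] ([1,2,8,16,42,64,128,256],[1,2,16,24,42,88,458,169]) ([1,2,8,16,42,64,128,256],[1,2,16,24,42,88,458,169]) = true := by decide +kernel
theorem c20006063 : chkTr M20110 [1,2,4,8,16,32,64,128,256,512,1026] ([1,2,8,16,42,64,128,256,1024],[1,2,16,24,42,88,458,169,1313]) ([1,2,8,16,42,64,128,256,1026],[1,2,16,24,42,88,458,169,1315]) = true := by decide +kernel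
theorem c20005935 : chkDer M20110 [([1,2,8,16,42,64,128,256,1024],[1,2,16,24,42,88,458,169,1313])] [(0,16,[]),(1,0,[311]),(0,512,[]),(1,0,[477])] ([1026],[1024]) = true := by decide +kernel
theorem c20005884 : chkScM M20110 [1,2,4,32] [1,2,4,32,64,512] [1,2,4,32,64,512,1024] [1,2,4,8] [1,2,4,8] = true := by decide +kernel
theorem c20006038 : chkDer M20110 [([1,2,8,16,42,64,128,256,1024],[1,2,16,24,42,88,458,169,1313])] [(1,0,[1,2,4,8,16,32,64,128,258])] ([1,2,8,16,42,64,128,256,1026],[1,2,16,24,42,88,458,169,1315]) = true := by decide +kernel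
theorem c20006041 : chkDer M20110 [([1,2,4,32,64,512,1024],[1,4,6,32,611,68,1024])] [(1,0,[1,2,4,8,16,32,66])] ([1,2,4,32,64,512,1026],[1,4,6,32,611,68,1028]) = true := by decide +kernel
theorem c20006067 : chkDer M20110 [] [(0,1,[])] ([1,2,8,16,42,64,128,256,1024],[1,2,8,16,42,66,235,379,1057]) = true := by decide +kernel
theorem c20006071 : chkDer M20110 [] [(0,8,[])] ([1,2,8,16,42,64,128,256,1024],[1,2,8,18,42,64,130,353,1024]) = true := by decide +kernel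
theorem c20005955 : chkDer M20110 [([1,2,4,32,64,512,1024],[1,4,6,32,611,68,1030])] [(0,1,[]),(1,0,[107]),(0,144,[]),(2,0,[64])] ([1540],[1024]) = true := by decide +kernel
theorem c20006017 : chkDer M20110 [] [(0,1,[])] ([1,2,4,32,64,512,1024],[1,2,4,32,66,518,1057]) = true := by decide +kernel
theorem c20005923 : chkDer M20110 [([1,2,4,32,64,512],[1,4,6,32,611,68]),([1,2,4,32],[1,4,6,32])] [(1,0,[32]),(0,144,[]),(2,1,[11]),(0,16,[])] ([512],[33]) = true := by decide +kernel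
theorem c20005911 : chkDer M20110 [([1,2,8,16,42],[1,2,16,24,42])] [(0,8,[]),(1,0,[29])] ([49],[33]) = true := by decide +kernel
theorem c20005927 : chkDer M20110 [([1,2,4,32,64,512],[1,4,6,32,611,68])] [(1,0,[34]),(0,256,[])] ([514],[33]) = true := by decide +kernel
theorem c20005943 : chkDer M20110 [([1,2,8,16,42,64,128,256,1024],[1,2,16,24,42,88,458,169,1313])] [(0,1,[]),(2,0,[256])] ([1304],[1024]) = true := by decide +kernel
theorem c20005974 : chkDer M20110 [] [(0,516,[])] ([1304],[1505]) = true := by decide +kernel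
theorem c20005985 : chkDer M20110 [] [(0,16,[])] ([545],[691]) = true := by decide +kernel
theorem c20006002 : chkDer M20110 [] [(0,1,[])] ([1540],[1571]) = true := by decide +kernel

end Cfsg.Lib.L33E
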