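import Cfsg.Agent.L33E.R1C21

set_option autoImplicit false
set_option maxRecDepth 100000
set_option linter.all false
set_option Elab.async false

namespace Cfsg.Lib.L33E

theorem c20006008 : chkFrat M20110 E20006006 [33,35,64] [64,35,66] [33,35,64,1505,691,1538,576,80,88,1205] [33,35,64,1505,691,1538,576,80,88,1205] [(0,[1,2,4]),(0,[1,2,4]),(0,[1,2,4]),(256,[7,4,2]),(0,[1,2,4]),(0,[1,2,4]),(0,[1,2,4]),(272,[2,1,7]),(272,[2,1,7]),(0,[1,2,4])] [⟨0,0,[],0,0,false⟩,⟨0,0,[],0,2,false⟩,⟨2,0,[⟨4,0,0,0⟩,⟨4,3,0,1⟩,⟨0,1,7,0⟩],2,0,false⟩,⟨4,0,[⟨4,0,0,2⟩,⟨4,1,0,3⟩,⟨0,8,11,0⟩],2,3,false⟩,⟨4,0,[⟨4,0,0,4⟩,⟨4,1,0,5⟩,⟨0,8,13,0⟩,⟨0,16,21,0⟩],0,3,false⟩] [] = true := by decide +kernel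
theorem c20006016 : chkFrat M20110 E20006014 [33,35,64] [64,35,66] [33,35,64,1505,691,1538,576,80,88,1205] [33,35,64,1505,691,1538,576,80,88,1205] [(0,[1,2,4]),(0,[1,2,4]),(0,[1,2,4]),(256,[7,4,2]),(0,[1,2,4]),(0,[1,2,4]),(0,[1,2,4]),(272,[2,1,7]),(272,[2,1,7]),(0,[1,2,4])] [⟨0,0,[],0,0,false⟩,⟨0,0,[],0,2,false⟩,⟨2,0,[⟨6,0,0,1⟩,⟨4,0,0,0⟩,⟨0,1,7,0⟩],2,0,false⟩,⟨4,0,[⟨6,0,0,0⟩,⟨4,0,0,1⟩,⟨4,1,0,2⟩,⟨0,8,11,0⟩],2,3,false⟩,⟨4,0,[⟨6,0,0,1⟩,⟨4,0,0,3⟩,⟨0,8,13,0⟩,⟨0,16,21,0⟩],0,3,false⟩] [] = true := by decide +kernel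
theorem c20005879 : chkFrat M20110 E20000005 [1,2,8,16,42,64,128,256] [1,2,16,24,42,88,458,169] [1,2,8,16,42,64,128,256,1024] [1,2,8,16,42,64,128,256,1024] [(1,[1,2,4,8,16,34,113,187]),(0,[1,2,4,8,16,32,64,128]),(16,[1,2,4,10,16,32,66,181]),(24,[1,2,6,8,16,34,117,183]),(1,[1,2,4,8,16,34,113,187]),(88,[3,2,4,10,18,32,66,181]),(456,[48,2,6,63,35,34,64,130]),(128,[58,2,51,61,41,21,66,128]),(1288,[20,2,4,63,7,32,117,181])] [⟨0,0,[],0,0,false⟩,⟨0,0,[],0,0,false⟩,⟨0,0,[],0,0,false⟩,⟨0,0,[],0,0,false⟩,⟨0,0,[],0,0,false⟩,⟨0,0,[],0,0,false⟩,⟨0,0,[],0,0,false⟩,⟨2,0,[⟨0,1,20,0⟩,⟨0,4,4,0⟩,⟨0,8,63,0⟩,⟨0,32,32,0⟩,⟨1,0,0,0⟩],0,0,false⟩] [([1,2,8,16,42,64,128,256,1024],[1,2,16,24,42,88,458,169,1315]),([1,2,8,16,42,64,128,256,1024],[1,2,16,24,42,88,458,169,1313])] = true := by decide +kernel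
theorem c20005972 : chkCF M20110 (1304,Z20005970) [1] = true := by decide +kernel
theorem c20005990 : chkCF M20110 (514,Z20005970) [1] = true := by decide +kernel
theorem c20006000 : chkCF M20110 (1540,Z20005970) [1] = true := by decide +kernel
theorem c20005964 : chkX M20110 [([1,2,4],[1,4,6]),([1,2,8,16],[1,2,16,24]),([1,2,8,16,42,64,128,256],[1,2,16,24,42,88,458,169]),([1,2,4,32,64,512],[1,4,6,32,611,68])] [(2,0,2),(2,0,4),(2,1,4),(2,1,8),(2,2,64),(2,2,128),(2,3,16),(2,3,32),(1,1024,1)] [0,33,1057] = true := by decide +kernel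
theorem c20006031 : chkRb M20110 [1,2,4,8,16,32,64,128,256,512,1026] D20110 = true := by decide +kernel
theorem c20005887 : chkFrat M20110 E20000005 [1,2,4,32,64,512] [1,4,6,32,611,68] [1,2,4,32,64,512,1024] [1,2,4,32,64,512,1024] [(1,[1,2,4,8,18,38]),(0,[1,2,4,8,16,32]),(0,[1,2,4,8,16,32]),(1,[1,2,4,8,18,38]),(576,[3,2,4,10,16,32]),(64,[7,2,4,14,16,32]),(1024,[8,2,4,1,16,32])] [⟨0,0,[],0,0,false⟩,⟨0,0,[],0,0,false⟩,⟨0,0,[],0,0,false⟩,⟨0,0,[],0,0,false⟩,⟨0,0,[],0,0,false⟩,⟨2,0,[⟨0,1,8,0⟩,⟨0,16,16,0⟩],0,0,false⟩] [([1,2,4,32,64,512,1024],[1,4,6,32,611,68,1063]),([1,2,4,32,64,512,1024],[1,4,6,32,611,68,1061]),([1,2,4,32,64,512,1024],[1,4,6,32,611,68,1059]),([1,2,4,32,64,512,1024],[1,4,6,32,611,68,1057]),([1,2,4,32,64,512,1024],[1,4,6,32,611,68,1030]),([1,2,4,32,64,512,1024],[1,4,6,32,611,68,1028]),([1,2,4,32,64,512,1024],[1,4,6,32,611,68,1026]),([1,2,4,32,64,512,1024],[1,4,6,32,611,68,1024])]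 = true := by decide +kernel
theorem c20006050 : chkStab M20110 [1,2,4,32,64,512,1024] [1] [1] [2,4,33] [([1,2,4,32,66,518,1057],[1,2,4,8,18,38,73]),([1,2,6,32,64,609,1024],[1,2,6,8,16,57,64]),([1,2,4,32,64,512,1057],[1,2,4,8,16,32,73]),([1,2,4,32,64,512,1059],[1,2,4,8,16,32,75])] [[1,2,4,32,64,512,1024],[1,2,4,32,66,518,1057],[1,2,6,32,64,609,1024],[1,2,4,32,64,512,1057],[1,2,4,32,64,512,1059],[1,2,6,32,66,613,1057],[1,2,4,32,66,518,1024],[1,2,4,32,66,518,1026],[1,2,6,32,64,609,1057],[1,2,6,32,64,609,1059],[1,2,4,32,64,512,1026],[1,2,6,32,66,613,1024],[1,2,6,32,66,613,1026],[1,2,4,32,66,518,1059],[1,2,6,32,64,609,1026],[1,2,6,32,66,613,1059]] [(0,0),(0,1),(0,2),(0,3),(1,1),(1,2),(1,3),(2,2),(2,3),(3,3),(5,2),(5,3),(6,3),(8,3),(11,3)] 4 64 = true := by decide +kernel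
theorem c20006032 : chkStK M20110 6 [1,2,4,8,16,32,64,128,256,512,1026] 0x21020000000000000000000000000000000000000000000000000000000000000000000000000000000000000000000001000 ([1,2,4],[1,4,6]) ([1,2,8,16],[1,2,16,24]) = true := by decide +kernel
theorem c20006057 : chkStK M20110 6 [1,2,4,8,16,32,64,128,256,512,1026] 0x21020000000000000000000000000000000000000000000000000000000000000000000000000000000000000000000001000 ([1,2,4],[1,4,6]) ([1,2,8,16],[1,2,16,24]) = true := by decide +kernel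
theorem c20005897 : chkBig M20110 6 2 [1,2,4,8,16,32,64] = true := by decide +kernel
theorem c20005901 : chkBig M20110 6 1024 [2,4,8,33,64,144,272] = true := by decide +kernel
theorem c20006021 : chkDer M20110 [([1,2,4,32,64,512,1024],[1,4,6,32,611,68,1028])] [(1,0,[1,2,4,8,16,32,64]),(0,8,[]),(2,0,[1,4,2,8,59,38,70]),(0,8,[]),(1,0,[1,6,2,8,34,61,68])] ([1,2,4,32,64,512,1024],[1,2,4,32,64,512,1026]) = true := by decide +kernel
theorem c20006026 : chkDer M20110 [([1,2,4,32,64,512,1024],[1,4,6,32,611,68,1026])] [(1,0,[1,2,4,8,16,32,64]),(0,8,[]),(2,0,[1,4,2,8,59,38,64]),(0,8,[]),(1,0,[1,6,2,8,34,61,64])] ([1,2,4,32,64,512,1024],[1,2,4,32,64,512,1026]) = true := by decide +kernel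
theorem c20005968 : chkDer M20110 [([1,2,4,32,64,512],[1,4,6,32,611,68])] [(0,1,[]),(1,0,[9,11,18]),(0,144,[]),(1,0,[9,20,63]),(0,256,[]),(1,0,[16,38,63]),(0,144,[]),(1,0,[34,15,36])] ([33,35,64],[64,35,66]) = true := by decide +kernel
theorem c20006046 : chkDer M20110 [([1,2,4,32,64,512,1024],[1,4,6,32,611,68,1061])] [(1,0,[1,2,4,8,16,32,64]),(1,0,[1,4,6,8,59,20,77]),(1,0,[1,6,2,8,34,61,66])] ([1,2,4,32,64,512,1024],[1,2,4,32,64,512,1057]) = true := by decide +kernel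
theorem c20006064 : chkDer M20110 [([1,2,4,32,64,512,1024],[1,4,6,32,611,68,1057])] [(2,0,[1,6,2,8,34,61,79]),(2,0,[1,4,6,8,59,20,68])] ([1,2,4,32,64,512,1026],[1,4,6,32,611,68,1028]) = true := by decide +kernel
theorem c20006028 : chkDer M20110 [([1,2,4,32,64,512,1024],[1,4,6,32,611,68,1026])] [(1,0,[1,2,4,8,16,32,64]),(0,8,[]),(1,0,[1,6,4,8,34,22,66])] ([1,2,4,32,64,512,1024],[1,2,6,32,64,609,1030]) = true := by decide +kernel
theorem c20006034 : chkTr M20110 [1,2,4,8,16,32,64,128,256,512,1026] ([1,2,8,16,42],[1,2,16,24,42]) ([1,2,8,16,42],[1,2,16,24,42]) = true := by decide +kernel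
theorem c20006036 : chkTr M20110 [1,2,4,8,16,32,64,128,256,512,1026] ([1,2,8,16,42,64,128,256],[1,2,16,24,42,88,458,169]) ([1,2,8,16,42,64,128,256],[1,2,16,24,42,88,458,169]) = true := by decide +kernel
theorem c20006040 : chkTr M20110 [1,2,4,8,16,32,64,128,256,512,1026] ([1,2,8,16,42,64,128,256,1024],[1,2,16,24,42,88,458,169,1313]) ([1,2,8,16,42,64,128,256,1026],[1,2,16,24,42,88,458,169,1315]) = true := by decide +kernel
theorem c20006058 : chkTr M20110 [1,2,4,8,16,32,64,128,256,512,1026] ([1,2,4,32],[1,4,6,32]) ([1,2,4,32],[1,4,6,32]) = true := by decide +kernel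
theorem c20006060 : chkTr M20110 [1,2,4,8,16,32,64,128,256,512,1026] ([1,2,8,16,42,64],[1,2,16,24,42,88]) ([1,2,8,16,42,64],[1,2,16,24,42,88]) = true := by decide +kernel
theorem c20006062 : chkTr M20110 [1,2,4,8,16,32,64,128,256,512,1026] ([1,2,4,32,64,512],[1,4,6,32,611,68]) ([1,2,4,32,64,512],[1,4,6,32,611,68]) = true := by decide +kernel
theorem c20006066 : chkTr M20110 [1,2,4,8,16,32,64,128,256,512,1026] ([1,2,4,32,64,512,1024],[1,4,6,32,611,68,1030]) ([1,2,4,32,64,512,1026],[1,4,6,32,611,68,1028]) = true := by decide +kernel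
theorem c20005876 : chkScM M20110 [1,2,8,16,42] [1,2,8,16,42,64,128,256] [1,2,8,16,42,64,128,256,1024] [1,2,4,8,16] [1,2,4,8,16] = true := by decide +kernel
theorem c20005915 : chkDer M20110 [([1,2,4,32,64,512],[1,4,6,32,611,68]),([1,2,4],[1,4,6])] [(0,1,[]),(1,0,[27]),(0,256,[]),(2,0,[29]),(0,144,[]),(2,1,[2])] ([97],[2]) = true := by decide +kernel
theorem c20005919 : chkDer M20110 [([1,2,8,16,42,64,128,256],[1,2,16,24,42,88,458,169]),([1,2,8,16,42],[1,2,16,24,42])] [(0,16,[]),(1,0,[183]),(0,512,[]),(2,1,[21])] ([256],[33]) = true := by decide +kernel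
theorem c20005951 : chkDer M20110 [([1,2,4,32,64,512,1024],[1,4,6,32,611,68,1030])] [(0,1,[]),(1,0,[109]),(0,144,[]),(1,0,[68])] ([1538],[1024]) = true := by decide +kernel
theorem c20006069 : chkDer M20110 [] [(0,4,[])] ([1,2,8,16,42,64,128,256,1024],[1,2,10,26,40,64,235,400,1024]) = true := by decide +kernel
theorem c20006073 : chkDer M20110 [] [(0,16,[])] ([1,2,8,16,42,64,128,256,1024],[1,2,10,16,42,66,225,355,1121]) = true := by decide +kernel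
theorem c20005947 : chkDer M20110 [([1,2,4,32,64,512,1024],[1,4,6,32,611,68,1030])] [(0,1,[]),(1,0,[111]),(0,16,[])] ([1536],[1024]) = true := by decide +kernel
theorem c20006019 : chkDer M20110 [] [(0,8,[])] ([1,2,4,32,64,512,1024],[1,2,6,32,64,609,1024]) = true := by decide +kernel
theorem c20005931 : chkDer M20110 [([1,2,4,32,64,512],[1,4,6,32,611,68]),([1,2,4],[1,4,6])] [(1,0,[41]),(0,144,[]),(2,1,[2])] ([545],[2]) = true := by decide +kernel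
theorem c20005907 : chkDer M20110 [([1,2,4,32],[1,4,6,32])] [(2,0,[11]),(0,16,[])] ([37],[33]) = true := by decide +kernel
theorem c20005939 : chkDer M20110 [([1,2,4,32,64,512,1024],[1,4,6,32,611,68,1030])] [(1,0,[68])] ([1028],[1024]) = true := by decide +kernel
theorem c20005903 : chkDer M20110 [([1,2,4],[1,4,6])] [(2,0,[2])] ([4],[2]) = true := by decide +kernel
theorem c20005978 : chkDer M20110 [] [(0,12,[])] ([1304],[1507]) = true := by decide +kernel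
theorem c20005992 : chkDer M20110 [] [(0,16,[])] ([514],[656]) = true := by decide +kernel

end Cfsg.Lib.L33E
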