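import Cfsg.Agent.L33E.R1D

set_option autoImplicit false
set_option maxRecDepth 100000
set_option linter.all false
set_option Elab.async false

namespace Cfsg.Lib.L33E

noncomputable def M20001 : Md := ⟨6, 64, 3, 7,
(.n (.n (.n (.l 0x3f03e03d03c03b03a03903803703603503403303203103002f02e02d02c02b02a02902802702602502402302202102001f01e01d01c01b01a01901801701601501401301201101000f00e00d00c00b00a009008007006005004003002001000) (.l 0x3103003303203503403703603903803b03a03d03c03f03e02902802b02a02d02c02f02e02302202102002702602502401101001301201501401701601901801b01a01d01c01f01e00900800b00a00d00c00f00e003002001000007006005004)) (.n (.l 0x3d03c03f03e03903803b03a03503403703603103003303202d02c02f02e02902802b02a02502402702602102002302201d01c01f01e01901801b01a01501401701601101001301200d00c00f00e00900800b00a005004007006001000003002) (.l 0x3303203103003703603503403b03a03903803f03e03d03c02b02a02902802f02e02d02c02102002302202502402702601301201101001701601501401b01a01901801f01e01d01c00b00a00900800f00e00d00c001000003002005004007006)))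 (.n (.n (.l 0x3e03f03c03d03a03b03803903603703403503203303003102e02f02c02d02a02b02802902602702402502202302002101e01f01c01d01a01b01801901601701401501201301001100e00f00c00d00a00b008009006007004005002003000001) (.l 0x3003103203303403503603703803903a03b03c03d03e03f02802902a02b02c02d02e02f02202302002102602702402501001101201301401501601701801901a01b01c01d01e01f00800900a00b00c00d00e00f002003000001006007004005)) (.n (.l 0x3c03d03e03f03803903a03b03403503603703003103203302c02d02e02f02802902a02b02402502602702002102202301c01d01e01f01801901a01b01401501601701001101201300c00d00e00f00800900a00b004005006007000001002003) (.l 0x3203303003103603703403503a03b03803903e03f03c03d02a02b02802902e02f02c02d02002102202302402502602701201301001101601701401501a01b01801901e01f01c01d00a00b00800900e00f00c00d000001002003004005006007)))),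
(.n (.n (.n (.l 0x3f03e03d03c03b03a03903803703603503403303203103002f02e02d02c02b02a02902802702602502402302202102001f01e01d01c01b01a01901801701601501401301201101000f00e00d00c00b00a009008007006005004003002001000) (.l 0x1f01e01d01c01b01a01901801701601501401301201101000f00e00d00c00b00a00900800700600500400300200100003f03e03d03c03b03a03903803703603503403303203103002f02e02d02c02b02a029028027026025024023022021020)) (.n (.l 0x2f02e02d02c02b02a02902802702602502402302202102003d03c03f03e03903803b03a03503403703603103003303200d00c00f00e00900800b00a00500400700600100000300201f01e01d01c01b01a019018017016015014013012011010) (.l 0xf00e00d00c00b00a00900800700600500400300200100001d01c01f01e01901801b01a01501401701601101001301202d02c02f02e02902802b02a02502402702602102002302203f03e03d03c03b03a039038037036035034033032031030))) (.n (.n (.l 0x3703603503403303203103003d03c03f03e03903803b03a02502402702602102002302202f02e02d02c02b02a02902801701601501401301201101001d01c01f01e01901801b01a00500400700600100000300200f00e00d00c00b00a009008)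 (.l 0x1701601501401301201101001d01c01f01e01901801b01a00500400700600100000300200f00e00d00c00b00a00900803703603503403303203103003d03c03f03e03903803b03a02502402702602102002302202f02e02d02c02b02a029028)) (.n (.l 0x2702602502402302202102002d02c02f02e02902802b02a03703603503403303203103003d03c03f03e03903803b03a00500400700600100000300200f00e00d00c00b00a00900801501401701601101001301201f01e01d01c01b01a019018) (.l 0x700600500400300200100000d00c00f00e00900800b00a01701601501401301201101001d01c01f01e01901801b01a02502402702602102002302202f02e02d02c02b02a02902803503403703603103003303203f03e03d03c03b03a039038)))),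
0x3503403703603b03a03903803d03c03f03e03303203103002f02e02d02c02902802b02a02702602502402302202102001701601501401901801b01a01f01e01d01c01101001301200f00e00d00c00900800b00a007006005004003002001000,
0xb00a00b00a00000000000000b00a00b00a009008009008000000000000009008009008007006007006000000000000000000000000000000000000000000000000005004005004000000000000005004005004003002001000,
0x400400c00c00000000000000a00a00000001a01a01201200000000000000a00a00000001201200000000000000000000000000000000000000000000000000000001201201a01a00000000000000a00a000000000000000000⟩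
theorem ok20001 : chkMd M20001 D20001 = true := by decide +kernel

theorem c20000021 : chkScM M20001 [1,2,8,16,42] [1,2,8,16,42] (gens M20001.n) [1,2,4,8,16] [1,2,8,16,42] = true := by decide +kernel
theorem c20000023 : chkDer M20001 [([3,1,4,12,32,48],[1,3,37,45,34,56])] [(1,0,[2,3,12,51,31])] ([1,2,8,16,42],[3,2,8,26,40]) = true := by decide +kernel
theorem c20000026 : chkLift M20001 D20001 E20000005 [1,2,8,16,42] [3,2,8,26,40] [1,2,8,16,42,4] [(0,[1,2,4,8,16]),(0,[1,2,4,8,16]),(12,[1,2,6,14,18]),(8,[1,2,4,10,16]),(24,[1,2,6,8,16]),(8,[1,2,4,10,16])] 8 [3,2,4,14,18] [⟨0,0,[],0,0,false⟩,⟨0,0,[],0,0,false⟩,⟨0,0,[],0,0,false⟩,⟨0,0,[],0,0,false⟩,⟨3,0,[⟨0,4,6,0⟩,⟨0,8,14,0⟩],1,0,false⟩] [] [1,2,32,4,8,20] [([3,2,8,26,40,12],[(10,0,0),(8,1,0)]),([3,2,8,26,40,13],[(33,0,1),(35,1,1)]),([3,2,8,26,40,36],[(10,0,2),(8,1,2)]),([3,2,8,26,40,37],[(33,0,3),(35,1,3)])] [([1,2,4,8,16,32],[3,2,12,8,26,34],10),([1,2,4,8,16,32],[3,2,13,8,26,34],33),([1,2,4,8,16,32],[3,2,36,8,26,34],10),([1,2,4,8,16,32],[3,2,37,8,26,34],33)]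 = true := by decide +kernel
theorem c20000036 : chkStK M20001 6 [1,2,4,8,16,32] 0x21020000000000000000000000000000000000000000000000000000000000000000000000000000000000000000000001000 ([1,2,4],[1,4,6]) ([1,2,8,16],[1,2,16,24]) = true := by decide +kernel
theorem c20000037 : chkTr M20001 [1,2,4,8,16,32] ([1,2,4,32],[1,4,6,32]) ([1,2,4,32],[1,4,6,32]) = true := by decide +kernel
theorem c20000038 : chkTr M20001 [1,2,4,8,16,32] ([1,2,8,16,42],[1,2,16,24,42]) ([1,2,8,16,42],[1,2,16,24,42]) = true := by decide +kernel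
theorem c20000039 : chkTr M20001 [1,2,4,8,16,32] ([3,1,4,12,32,48],[1,3,37,45,34,56]) ([3,1,4,12,32,48],[1,3,37,45,34,56]) = true := by decide +kernel
theorem c20000048 : chkStK M20001 6 [1,2,4,8,16,32] 0x21020000000000000000000000000000000000000000000000000000000000000000000000000000000000000000000001000 ([1,2,4],[1,4,6]) ([1,2,8,16],[1,2,16,24]) = true := by decide +kernel
theorem c20000049 : chkTr M20001 [1,2,4,8,16,32] ([1,2,4,32],[1,4,6,32]) ([1,2,4,32],[1,4,6,32]) = true := by decide +kernel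
theorem c20000050 : chkTr M20001 [1,2,4,8,16,32] ([1,2,8,16,42],[1,2,16,24,42]) ([1,2,8,16,42],[1,2,16,24,42]) = true := by decide +kernel
theorem c20000051 : chkTr M20001 [1,2,4,8,16,32] ([3,1,4,12,32,48],[1,3,37,45,34,56]) ([3,1,4,12,32,48],[1,3,37,45,34,56]) = true := by decide +kernel
theorem c20000060 : chkStK M20001 6 [1,2,4,8,16,32] 0x21020000000000000000000000000000000000000000000000000000000000000000000000000000000000000000000001000 ([1,2,4],[1,4,6]) ([1,2,8,16],[1,2,16,24]) = true := by decide +kernel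
theorem c20000061 : chkTr M20001 [1,2,4,8,16,32] ([1,2,4,32],[1,4,6,32]) ([1,2,4,32],[1,4,6,32]) = true := by decide +kernel
theorem c20000062 : chkTr M20001 [1,2,4,8,16,32] ([1,2,8,16,42],[1,2,16,24,42]) ([1,2,8,16,42],[1,2,16,24,42]) = true := by decide +kernel
theorem c20000063 : chkTr M20001 [1,2,4,8,16,32] ([3,1,4,12,32,48],[1,3,37,45,34,56]) ([3,1,4,12,32,48],[1,3,37,45,34,56]) = true := by decide +kernel
theorem c20000177 : chkStK M20001 6 [1,2,4,8,16,32] 0x21020000000000000000000000000000000000000000000000000000000000000000000000000000000000000000000001000 ([1,2,4],[1,4,6]) ([1,2,8,16],[1,2,16,24]) = true := by decide +kernel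
theorem c20000178 : chkTr M20001 [1,2,4,8,16,32] ([1,2,4,32],[1,4,6,32]) ([1,2,4,32],[1,4,6,32]) = true := by decide +kernel
theorem c20000179 : chkTr M20001 [1,2,4,8,16,32] ([1,2,8,16,42],[1,2,16,24,42]) ([1,2,8,16,42],[1,2,16,24,42]) = true := by decide +kernel
theorem c20000290 : chkScM M20001 [1,2,8,16,42] [1,2,8,16,42] (gens M20001.n) [1,2,4,8,16] [1,2,8,16,42] = true := by decide +kernel
theorem c20000292 : chkDer M20001 [([3,1,4,12,32,48],[1,3,4,12,34,48])] [(1,0,[2,3,12,51,31])] ([1,2,8,16,42],[3,2,8,18,40]) = true := by decide +kernel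
theorem c20000295 : chkLift M20001 D20001 E20000005 [1,2,8,16,42] [3,2,8,18,40] [1,2,8,16,42,4] [(0,[1,2,4,8,16]),(0,[1,2,4,8,16]),(4,[1,2,6,14,18]),(8,[1,2,4,10,16]),(16,[1,2,6,8,16]),(8,[1,2,4,10,16])] 0 [3,2,4,10,18] [⟨0,0,[],0,0,false⟩,⟨0,0,[],0,0,false⟩,⟨0,0,[],0,0,false⟩,⟨0,0,[],0,0,false⟩,⟨3,0,[⟨0,4,6,0⟩,⟨0,8,14,0⟩],1,0,false⟩] [] [1,2,32,4,8,20] [([3,2,8,18,40,4],[(0,0,0),(2,1,0)]),([3,2,8,18,40,5],[(43,0,1),(41,1,1)]),([3,2,8,18,40,44],[(0,0,2),(2,1,2)]),([3,2,8,18,40,45],[(43,0,3),(41,1,3)])] [([1,2,4,8,16,32],[3,2,4,8,18,34],0),([1,2,4,8,16,32],[3,2,5,8,18,34],43),([1,2,4,8,16,32],[3,2,44,8,18,34],0),([1,2,4,8,16,32],[3,2,45,8,18,34],43)] = true := by decide +kernel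
theorem c20008251 : chkStK M20001 6 [1,2,4,8,16,32] 0x21020000000000000000000000000000000000000000000000000000000000000000000000000000000000000000000001000 ([1,2,4],[1,4,6]) ([1,2,8,16],[1,2,16,24]) = true := by decide +kernel
theorem c20008252 : chkTr M20001 [1,2,4,8,16,32] ([1,2,4,32],[1,4,6,32]) ([1,2,4,32],[1,4,6,32]) = true := by decide +kernel
theorem c20008253 : chkTr M20001 [1,2,4,8,16,32] ([1,2,8,16,42],[1,2,16,24,42]) ([1,2,8,16,42],[1,2,16,24,42]) = true := by decide +kernel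
theorem c20008262 : chkStK M20001 6 [1,2,4,8,16,32] 0x21020000000000000000000000000000000000000000000000000000000000000000000000000000000000000000000001000 ([1,2,4],[1,4,6]) ([1,2,8,16],[1,2,16,24]) = true := by decide +kernel
theorem c20008263 : chkTr M20001 [1,2,4,8,16,32] ([1,2,4,32],[1,4,6,32]) ([1,2,4,32],[1,4,6,32]) = true := by decide +kernel
theorem c20008264 : chkTr M20001 [1,2,4,8,16,32] ([1,2,8,16,42],[1,2,16,24,42]) ([1,2,8,16,42],[1,2,16,24,42]) = true := by decide +kernel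
theorem c20008265 : chkTr M20001 [1,2,4,8,16,32] ([3,1,4,12,32,48],[1,3,4,12,34,48]) ([3,1,4,12,32,48],[1,3,4,12,34,48]) = true := by decide +kernel
theorem c20008277 : chkStK M20001 6 [1,2,4,8,16,32] 0x21020000000000000000000000000000000000000000000000000000000000000000000000000000000000000000000001000 ([1,2,4],[1,4,6]) ([1,2,8,16],[1,2,16,24]) = true := by decide +kernel
theorem c20008278 : chkTr M20001 [1,2,4,8,16,32] ([1,2,4,32],[1,4,6,32]) ([1,2,4,32],[1,4,6,32]) = true := by decide +kernel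
theorem c20008279 : chkTr M20001 [1,2,4,8,16,32] ([1,2,8,16,42],[1,2,16,24,42]) ([1,2,8,16,42],[1,2,16,24,42]) = true := by decide +kernel
theorem c20008280 : chkTr M20001 [1,2,4,8,16,32] ([3,1,4,12,32,48],[1,3,4,12,34,48]) ([3,1,4,12,32,48],[1,3,4,12,34,48]) = true := by decide +kernel
theorem c20008290 : chkStK M20001 6 [1,2,4,8,16,32] 0x21020000000000000000000000000000000000000000000000000000000000000000000000000000000000000000000001000 ([1,2,4],[1,4,6]) ([1,2,8,16],[1,2,16,24]) = true := by decide +kernel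
theorem c20008291 : chkTr M20001 [1,2,4,8,16,32] ([1,2,4,32],[1,4,6,32]) ([1,2,4,32],[1,4,6,32]) = true := by decide +kernel
theorem c20008292 : chkTr M20001 [1,2,4,8,16,32] ([1,2,8,16,42],[1,2,16,24,42]) ([1,2,8,16,42],[1,2,16,24,42]) = true := by decide +kernel
theorem c20008293 : chkTr M20001 [1,2,4,8,16,32] ([3,1,4,12,32,48],[1,3,4,12,34,48]) ([3,1,4,12,32,48],[1,3,4,12,34,48]) = true := by decide +kernel
theorem c20000007 : chkExtr M20001 E20000005 [3,1,4,12,32,48] [⟨3,0,[⟨1,0,0,0⟩,⟨2,0,0,0⟩,⟨2,1,0,0⟩],0,0,false⟩,⟨3,0,[⟨0,2,2,0⟩,⟨1,0,0,0⟩,⟨2,0,0,0⟩,⟨2,1,0,0⟩,⟨2,2,0,0⟩,⟨2,3,0,0⟩],1,2,false⟩,⟨3,0,[⟨0,2,2,0⟩,⟨0,4,7,0⟩,⟨1,0,0,0⟩],2,3,false⟩,⟨5,0,[⟨1,0,0,0⟩,⟨2,0,0,0⟩,⟨2,1,0,0⟩,⟨2,2,0,0⟩,⟨2,3,0,0⟩],0,0,false⟩,⟨3,0,[⟨0,4,11,0⟩,⟨0,8,7,0⟩,⟨1,0,0,0⟩],3,0,false⟩] [([3,1,4,12,32,48],[1,3,37,45,35,56]),([3,1,4,12,32,48],[1,3,37,45,35,57]),([3,1,4,12,32,48],[1,3,37,45,34,56]),([3,1,4,12,32,48]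,[1,3,37,45,34,57]),([3,1,4,12,32,48],[1,3,37,45,33,56]),([3,1,4,12,32,48],[1,3,37,45,33,57]),([3,1,4,12,32,48],[1,3,37,45,32,56]),([3,1,4,12,32,48],[1,3,37,45,32,57]),([3,1,4,12,32,48],[1,3,36,44,35,56]),([3,1,4,12,32,48],[1,3,36,44,35,57]),([3,1,4,12,32,48],[1,3,36,44,34,56]),([3,1,4,12,32,48],[1,3,36,44,34,57]),([3,1,4,12,32,48],[1,3,36,44,33,56]),([3,1,4,12,32,48],[1,3,36,44,33,57]),([3,1,4,12,32,48],[1,3,36,44,32,56]),([3,1,4,12,32,48],[1,3,36,44,32,57]),([3,1,4,12,32,48],[1,3,5,13,35,48]),([3,1,4,12,32,48],[1,3,5,13,35,49]),([3,1,4,12,32,48],[1,3,5,13,34,48]),([3,1,4,12,32,48],[1,3,5,13,34,49]),([3,1,4,12,32,48],[1,3,5,13,33,48]),([3,1,4,12,32,48],[1,3,5,13,33,49]),([3,1,4,12,32,48],[1,3,5,13,32,48]),([3,1,4,12,32,48],[1,3,5,13,32,49]),([3,1,4,12,32,48],[1,3,4,12,35,48]),([3,1,4,12,32,48],[1,3,4,12,35,49]),([3,1,4,12,32,48],[1,3,4,12,34,48]),([3,1,4,12,32,48],[1,3,4,12,34,49]),([3,1,4,12,32,48],[1,3,4,12,33,48]),([3,1,4,12,32,48],[1,3,4,12,33,49]),([3,1,4,12,32,48],[1,3,4,12,32,48]),([3,1,4,12,32,48],[1,3,4,12,32,49])]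 = true := by decide +kernel
theorem c20000009 : chkDer M20001 [] [(0,8,[])] ([1,2,4,32],[1,2,6,32]) = true := by decide +kernel
theorem c20000011 : chkDer M20001 [([3,1,4,12,32,48],[1,3,37,45,35,56])] [(1,0,[2,3,4,16]),(1,0,[1,3,22,17])] ([1,2,4,32],[1,2,5,34]) = true := by decide +kernel
theorem c20000013 : chkStab M20001 [1,2,4,32] [1] [1] [1,2,4,32] [([1,2,6,32],[1,2,6,8]),([1,2,5,34],[1,2,5,10])] [[1,2,4,32],[1,2,6,32],[1,2,5,34],[1,2,7,34]] [(0,0),(0,1),(1,1)] 2 32 = true := by decide +kernel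
theorem c20000015 : chkDer M20001 [([3,1,4,12,32,48],[1,3,37,45,35,57])] [(1,0,[2,3,4,16]),(1,0,[1,3,22,17])] ([1,2,4,32],[1,2,5,34]) = true := by decide +kernel
theorem c20000017 : chkStab M20001 [1,2,4,32] [1] [1] [1,2,4,32] [([1,2,6,32],[1,2,6,8]),([1,2,5,34],[1,2,5,10])] [[1,2,4,32],[1,2,6,32],[1,2,5,34],[1,2,7,34]] [(0,0),(0,1),(1,1)] 2 32 = true := by decide +kernel
theorem c20000181 : chkDer M20001 [] [(0,4,[])] ([1,2,8,16,42],[1,2,10,26,40]) = true := by decide +kernel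
theorem c20000183 : chkDer M20001 [] [(0,8,[])] ([1,2,8,16,42],[1,2,8,18,42]) = true := by decide +kernel
theorem c20000185 : chkDer M20001 [] [(0,16,[])] ([1,2,8,16,42],[1,2,10,16,42]) = true := by decide +kernel
theorem c20000187 : chkDer M20001 [([1,2,8,16,42],[1,2,16,24,42]),([3,1,4,12,32,48],[1,3,37,45,34,57])] [(1,0,[1,2,4,8,16]),(1,1,[2,3,51,63,31]),(2,0,[3,2,11,5,18]),(1,1,[1,3,50,14,28]),(1,0,[1,2,14,7,16])] ([1,2,8,16,42],[1,2,10,19,42]) = true := by decide +kernel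
theorem c20000189 : chkStab M20001 [1,2,8,16,42] [1] [1] [1,2,40] [([1,2,10,26,40],[1,2,6,14,18]),([1,2,8,18,42],[1,2,4,10,16]),([1,2,10,16,42],[1,2,6,8,16]),([1,2,10,19,42],[1,2,6,11,16])] [[1,2,8,16,42],[1,2,10,26,40],[1,2,8,18,42],[1,2,10,16,42],[1,2,10,19,42],[1,2,10,24,40],[1,2,8,26,40],[1,2,8,25,40],[1,2,10,18,42],[1,2,10,17,42],[1,2,8,24,40],[1,2,8,19,42],[1,2,8,27,40],[1,2,10,25,40],[1,2,8,17,42],[1,2,10,27,40]] [(0,0),(0,1),(0,2),(0,3),(1,1),(1,2),(1,3),(2,2),(2,3),(3,0),(3,3),(4,0),(6,3),(8,3),(10,3)] 4 64 = true := by decide +kernel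
theorem c20000191 : chkDer M20001 [([3,1,4,12,32,48],[1,3,37,45,33,56])] [(1,0,[2,3,4,16]),(1,0,[1,3,22,18])] ([1,2,4,32],[1,2,7,34]) = true := by decide +kernel
theorem c20000193 : chkStab M20001 [1,2,4,32] [1] [1] [1,2,4,32] [([1,2,6,32],[1,2,6,8]),([1,2,7,34],[1,2,7,10])] [[1,2,4,32],[1,2,6,32],[1,2,7,34],[1,2,5,34]] [(0,0),(0,1),(1,1)] 2 32 = true := by decide +kernel
theorem c20000195 : chkDer M20001 [([3,1,4,12,32,48],[1,3,37,45,33,57])] [(1,0,[2,3,4,16]),(1,0,[1,3,22,18])] ([1,2,4,32],[1,2,7,34]) = true := by decide +kernel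
theorem c20000197 : chkStab M20001 [1,2,4,32] [1] [1] [1,2,4,32] [([1,2,6,32],[1,2,6,8]),([1,2,7,34],[1,2,7,10])] [[1,2,4,32],[1,2,6,32],[1,2,7,34],[1,2,5,34]] [(0,0),(0,1),(1,1)] 2 32 = true := by decide +kernel
theorem c20000199 : chkDer M20001 [([1,2,4,32],[1,4,6,32]),([3,1,4,12,32,48],[1,3,37,45,32,56])] [(1,0,[1,2,4,8]),(1,1,[2,4,7,16]),(2,0,[7,11,13,8]),(1,1,[5,17,22,16]),(1,0,[12,9,6,8]),(1,1,[23,18,3,16]),(1,0,[7,11,2,8]),(1,1,[1,22,4,16]),(1,0,[1,6,13,8])] ([1,2,4,32],[1,2,39,32]) = true := by decide +kernel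
theorem c20000201 : chkStab M20001 [1,2,4,32] [1] [1] [1,2,4,32] [([1,2,6,32],[1,2,6,8]),([1,2,39,32],[1,2,15,8])] [[1,2,4,32],[1,2,6,32],[1,2,39,32],[1,2,37,32]] [(0,0),(0,1),(1,1)] 2 32 = true := by decide +kernel
theorem c20000203 : chkDer M20001 [([1,2,4,32],[1,4,6,32]),([3,1,4,12,32,48],[1,3,37,45,32,57])] [(1,0,[1,2,4,8]),(1,1,[2,4,7,16]),(2,0,[7,11,13,8]),(1,1,[5,17,22,16]),(1,0,[12,9,6,8]),(1,1,[23,18,3,16]),(1,0,[7,11,2,8]),(1,1,[1,22,4,16]),(1,0,[1,6,13,8])] ([1,2,4,32],[1,2,39,32]) = true := by decide +kernel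
theorem c20000205 : chkStab M20001 [1,2,4,32] [1] [1] [1,2,4,32] [([1,2,6,32],[1,2,6,8]),([1,2,39,32],[1,2,15,8])] [[1,2,4,32],[1,2,6,32],[1,2,39,32],[1,2,37,32]] [(0,0),(0,1),(1,1)] 2 32 = true := by decide +kernel
theorem c20000207 : chkDer M20001 [([3,1,4,12,32,48],[1,3,36,44,35,56])] [(1,0,[2,3,4,16]),(1,0,[1,3,20,17])] ([1,2,4,32],[1,2,7,34]) = true := by decide +kernel
theorem c20000209 : chkStab M20001 [1,2,4,32] [1] [1] [1,2,4,32] [([1,2,6,32],[1,2,6,8]),([1,2,7,34],[1,2,7,10])] [[1,2,4,32],[1,2,6,32],[1,2,7,34],[1,2,5,34]] [(0,0),(0,1),(1,1)] 2 32 = true := by decide +kernel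
theorem c20000211 : chkDer M20001 [([3,1,4,12,32,48],[1,3,36,44,35,57])] [(1,0,[2,3,4,16]),(1,0,[1,3,20,17])] ([1,2,4,32],[1,2,7,34]) = true := by decide +kernel
theorem c20000213 : chkStab M20001 [1,2,4,32] [1] [1] [1,2,4,32] [([1,2,6,32],[1,2,6,8]),([1,2,7,34],[1,2,7,10])] [[1,2,4,32],[1,2,6,32],[1,2,7,34],[1,2,5,34]] [(0,0),(0,1),(1,1)] 2 32 = true := by decide +kernel
theorem c20000215 : chkDer M20001 [([1,2,4,32],[1,4,6,32]),([3,1,4,12,32,48],[1,3,36,44,34,56])] [(1,0,[1,2,4,8]),(1,1,[2,4,7,16]),(2,0,[7,10,12,14]),(1,1,[5,19,20,23]),(1,0,[13,8,6,4]),(1,1,[21,16,3,7]),(1,0,[7,10,2,14]),(1,1,[1,20,4,19]),(1,0,[1,6,12,8])] ([1,2,4,32],[1,2,38,32]) = true := by decide +kernel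
theorem c20000217 : chkStab M20001 [1,2,4,32] [1] [1] [1,2,4,32] [([1,2,6,32],[1,2,6,8]),([1,2,38,32],[1,2,14,8])] [[1,2,4,32],[1,2,6,32],[1,2,38,32],[1,2,36,32]] [(0,0),(0,1),(1,1)] 2 32 = true := by decide +kernel
theorem c20000219 : chkDer M20001 [([1,2,4,32],[1,4,6,32]),([3,1,4,12,32,48],[1,3,36,44,34,57])] [(1,0,[1,2,4,8]),(1,1,[2,4,7,16]),(2,0,[7,10,12,14]),(1,1,[5,19,20,23]),(1,0,[13,8,6,4]),(1,1,[21,16,3,7]),(1,0,[7,10,2,14]),(1,1,[1,20,4,19]),(1,0,[1,6,12,8])] ([1,2,4,32],[1,2,38,32]) = true := by decide +kernel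
theorem c20000221 : chkStab M20001 [1,2,4,32] [1] [1] [1,2,4,32] [([1,2,6,32],[1,2,6,8]),([1,2,38,32],[1,2,14,8])] [[1,2,4,32],[1,2,6,32],[1,2,38,32],[1,2,36,32]] [(0,0),(0,1),(1,1)] 2 32 = true := by decide +kernel
theorem c20000223 : chkDer M20001 [([3,1,4,12,32,48],[1,3,36,44,33,56])] [(1,0,[2,3,4,16]),(1,0,[1,3,20,18])] ([1,2,4,32],[1,2,5,34]) = true := by decide +kernel
theorem c20000225 : chkStab M20001 [1,2,4,32] [1] [1] [1,2,4,32] [([1,2,6,32],[1,2,6,8]),([1,2,5,34],[1,2,5,10])] [[1,2,4,32],[1,2,6,32],[1,2,5,34],[1,2,7,34]] [(0,0),(0,1),(1,1)] 2 32 = true := by decide +kernel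
theorem c20000227 : chkDer M20001 [([3,1,4,12,32,48],[1,3,36,44,33,57])] [(1,0,[2,3,4,16]),(1,0,[1,3,20,18])] ([1,2,4,32],[1,2,5,34]) = true := by decide +kernel
theorem c20000229 : chkStab M20001 [1,2,4,32] [1] [1] [1,2,4,32] [([1,2,6,32],[1,2,6,8]),([1,2,5,34],[1,2,5,10])] [[1,2,4,32],[1,2,6,32],[1,2,5,34],[1,2,7,34]] [(0,0),(0,1),(1,1)] 2 32 = true := by decide +kernel
theorem c20000231 : chkRb M20001 [1,2,4,8,16,33] D20001 = true := by decide +kernel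
theorem c20000232 : chkStK M20001 6 [1,2,4,8,16,33] 0x20021000000000000000000000000000000000000000000000000000000000000000000000000000000000000000000001000 ([1,2,4],[1,4,6]) ([1,2,8,16],[1,2,16,24]) = true := by decide +kernel
theorem c20000233 : chkDer M20001 [([1,2,4,32],[1,4,6,32])] [(1,0,[1,2,4,9])] ([1,2,4,33],[1,4,6,33]) = true := by decide +kernel
theorem c20000235 : chkTr M20001 [1,2,4,8,16,33] ([1,2,4,32],[1,4,6,32]) ([1,2,4,33],[1,4,6,33]) = true := by decide +kernel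
theorem c20000236 : chkDer M20001 [([1,2,8,16,42],[1,2,16,24,42])] [(1,0,[1,2,4,8,17])] ([1,2,8,16,43],[1,2,16,24,43]) = true := by decide +kernel
theorem c20000238 : chkTr M20001 [1,2,4,8,16,33] ([1,2,8,16,42],[1,2,16,24,42]) ([1,2,8,16,43],[1,2,16,24,43]) = true := by decide +kernel
theorem c20000239 : chkTr M20001 [1,2,4,8,16,33] ([3],[1]) ([3],[1]) = true := by decide +kernel
theorem c20000240 : chkDer M20001 [([3,1,4,12,32,48],[1,3,36,44,32,56])] [(2,0,[2,1,20,24,17,46])] ([3,1,4,12,33,49],[1,3,36,44,35,57]) = true := by decide +kernel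
theorem c20000242 : chkTr M20001 [1,2,4,8,16,33] ([3,1,4,12,32,48],[1,3,37,45,34,56]) ([3,1,4,12,33,49],[1,3,36,44,35,57]) = true := by decide +kernel
theorem c20000244 : chkDer M20001 [([1,2,8,16,42],[1,2,16,24,42]),([3,1,4,12,32,48],[1,3,36,44,32,57])] [(1,0,[1,2,4,8,16]),(1,1,[2,3,51,63,31]),(2,0,[3,2,9,7,16]),(1,1,[1,3,49,13,31]),(1,0,[1,2,14,5,16])] ([1,2,8,16,42],[1,2,10,17,42]) = true := by decide +kernel
theorem c20000246 : chkStab M20001 [1,2,8,16,42] [1] [1] [1,2,40] [([1,2,10,26,40],[1,2,6,14,18]),([1,2,8,18,42],[1,2,4,10,16]),([1,2,10,16,42],[1,2,6,8,16]),([1,2,10,17,42],[1,2,6,9,16])] [[1,2,8,16,42],[1,2,10,26,40],[1,2,8,18,42],[1,2,10,16,42],[1,2,10,17,42],[1,2,10,24,40],[1,2,8,26,40],[1,2,8,27,40],[1,2,10,18,42],[1,2,10,19,42],[1,2,8,24,40],[1,2,8,17,42],[1,2,8,25,40],[1,2,10,27,40],[1,2,8,19,42],[1,2,10,25,40]] [(0,0),(0,1),(0,2),(0,3),(1,1),(1,2),(1,3),(2,2),(2,3),(3,0),(3,3),(4,0),(6,3),(8,3),(10,3)]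 4 64 = true := by decide +kernel
theorem c20000248 : chkDer M20001 [([3,1,4,12,32,48],[1,3,5,13,35,48])] [(1,0,[2,3,4,16]),(1,0,[1,3,6,17])] ([1,2,4,32],[1,2,6,34]) = true := by decide +kernel
theorem c20000250 : chkStab M20001 [1,2,4,32] [1] [1] [1,2,4,32] [([1,2,6,32],[1,2,6,8]),([1,2,6,34],[1,2,6,10])] [[1,2,4,32],[1,2,6,32],[1,2,6,34],[1,2,4,34]] [(0,0),(0,1),(1,1)] 2 32 = true := by decide +kernel
theorem c20000252 : chkDer M20001 [([3,1,4,12,32,48],[1,3,5,13,35,49])] [(1,0,[2,3,4,16]),(1,0,[1,3,6,17])] ([1,2,4,32],[1,2,6,34]) = true := by decide +kernel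
theorem c20000254 : chkStab M20001 [1,2,4,32] [1] [1] [1,2,4,32] [([1,2,6,32],[1,2,6,8]),([1,2,6,34],[1,2,6,10])] [[1,2,4,32],[1,2,6,32],[1,2,6,34],[1,2,4,34]] [(0,0),(0,1),(1,1)] 2 32 = true := by decide +kernel
theorem c20000256 : chkDer M20001 [([1,2,4,32],[1,4,6,32]),([3,1,4,12,32,48],[1,3,5,13,34,48])] [(1,0,[1,2,4,8]),(1,1,[2,4,7,16]),(2,0,[7,3,5,14]),(1,1,[5,1,6,23]),(1,0,[4,1,6,13]),(1,1,[7,2,3,21]),(1,0,[7,3,2,14]),(1,1,[1,6,4,19]),(1,0,[1,6,5,8])] ([1,2,4,32],[1,2,7,32]) = true := by decide +kernel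
theorem c20000258 : chkStab M20001 [1,2,4,32] [1] [1] [1,2,4,32] [([1,2,6,32],[1,2,6,8]),([1,2,7,32],[1,2,7,8])] [[1,2,4,32],[1,2,6,32],[1,2,7,32],[1,2,5,32]] [(0,0),(0,1),(1,1)] 2 32 = true := by decide +kernel
theorem c20000260 : chkDer M20001 [([1,2,4,32],[1,4,6,32]),([3,1,4,12,32,48],[1,3,5,13,34,49])] [(1,0,[1,2,4,8]),(1,1,[2,4,7,16]),(2,0,[7,3,5,14]),(1,1,[5,1,6,23]),(1,0,[4,1,6,13]),(1,1,[7,2,3,21]),(1,0,[7,3,2,14]),(1,1,[1,6,4,19]),(1,0,[1,6,5,8])] ([1,2,4,32],[1,2,7,32]) = true := by decide +kernel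
theorem c20000262 : chkStab M20001 [1,2,4,32] [1] [1] [1,2,4,32] [([1,2,6,32],[1,2,6,8]),([1,2,7,32],[1,2,7,8])] [[1,2,4,32],[1,2,6,32],[1,2,7,32],[1,2,5,32]] [(0,0),(0,1),(1,1)] 2 32 = true := by decide +kernel
theorem c20000264 : chkDer M20001 [([3,1,4,12,32,48],[1,3,5,13,33,48])] [(1,0,[2,3,4,16]),(1,0,[1,3,6,18])] ([1,2,4,32],[1,2,6,34]) = true := by decide +kernel
theorem c20000266 : chkStab M20001 [1,2,4,32] [1] [1] [1,2,4,32] [([1,2,6,32],[1,2,6,8]),([1,2,6,34],[1,2,6,10])] [[1,2,4,32],[1,2,6,32],[1,2,6,34],[1,2,4,34]] [(0,0),(0,1),(1,1)] 2 32 = true := by decide +kernel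
theorem c20000268 : chkDer M20001 [([3,1,4,12,32,48],[1,3,5,13,33,49])] [(1,0,[2,3,4,16]),(1,0,[1,3,6,18])] ([1,2,4,32],[1,2,6,34]) = true := by decide +kernel
theorem c20000270 : chkStab M20001 [1,2,4,32] [1] [1] [1,2,4,32] [([1,2,6,32],[1,2,6,8]),([1,2,6,34],[1,2,6,10])] [[1,2,4,32],[1,2,6,32],[1,2,6,34],[1,2,4,34]] [(0,0),(0,1),(1,1)] 2 32 = true := by decide +kernel
theorem c20000272 : chkDer M20001 [([1,2,4,32],[1,4,6,32]),([3,1,4,12,32,48],[1,3,5,13,32,48])] [(1,0,[1,2,4,8]),(1,1,[2,4,7,16]),(2,0,[7,3,5,8]),(1,1,[5,1,6,16]),(1,0,[4,1,6,8]),(1,1,[7,2,3,16]),(1,0,[7,3,2,8]),(1,1,[1,6,4,16]),(1,0,[1,6,5,8])] ([1,2,4,32],[1,2,7,32]) = true := by decide +kernel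
theorem c20000274 : chkStab M20001 [1,2,4,32] [1] [1] [1,2,4,32] [([1,2,6,32],[1,2,6,8]),([1,2,7,32],[1,2,7,8])] [[1,2,4,32],[1,2,6,32],[1,2,7,32],[1,2,5,32]] [(0,0),(0,1),(1,1)] 2 32 = true := by decide +kernel
theorem c20000276 : chkDer M20001 [([1,2,4,32],[1,4,6,32]),([3,1,4,12,32,48],[1,3,5,13,32,49])] [(1,0,[1,2,4,8]),(1,1,[2,4,7,16]),(2,0,[7,3,5,8]),(1,1,[5,1,6,16]),(1,0,[4,1,6,8]),(1,1,[7,2,3,16]),(1,0,[7,3,2,8]),(1,1,[1,6,4,16]),(1,0,[1,6,5,8])] ([1,2,4,32],[1,2,7,32]) = true := by decide +kernel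
theorem c20000278 : chkStab M20001 [1,2,4,32] [1] [1] [1,2,4,32] [([1,2,6,32],[1,2,6,8]),([1,2,7,32],[1,2,7,8])] [[1,2,4,32],[1,2,6,32],[1,2,7,32],[1,2,5,32]] [(0,0),(0,1),(1,1)] 2 32 = true := by decide +kernel
theorem c20000280 : chkDer M20001 [([3,1,4,12,32,48],[1,3,4,12,35,48])] [(1,0,[2,3,4,16]),(1,0,[1,3,4,17])] ([1,2,4,32],[1,2,4,34]) = true := by decide +kernel
theorem c20000282 : chkStab M20001 [1,2,4,32] [1] [1] [1,2,4,32] [([1,2,6,32],[1,2,6,8]),([1,2,4,34],[1,2,4,10])] [[1,2,4,32],[1,2,6,32],[1,2,4,34],[1,2,6,34]] [(0,0),(0,1),(1,1)] 2 32 = true := by decide +kernel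
theorem c20000284 : chkDer M20001 [([3,1,4,12,32,48],[1,3,4,12,35,49])] [(1,0,[2,3,4,16]),(1,0,[1,3,4,17])] ([1,2,4,32],[1,2,4,34]) = true := by decide +kernel
theorem c20000286 : chkStab M20001 [1,2,4,32] [1] [1] [1,2,4,32] [([1,2,6,32],[1,2,6,8]),([1,2,4,34],[1,2,4,10])] [[1,2,4,32],[1,2,6,32],[1,2,4,34],[1,2,6,34]] [(0,0),(0,1),(1,1)] 2 32 = true := by decide +kernel
theorem c20008295 : chkDer M20001 [([1,2,8,16,42],[1,2,16,24,42]),([3,1,4,12,32,48],[1,3,4,12,34,49])] [(1,0,[1,2,4,8,16]),(1,1,[2,3,51,63,31]),(1,0,[3,2,11,15,18]),(1,1,[1,3,62,13,28]),(1,0,[1,2,14,5,16])] ([1,2,8,16,42],[1,2,10,17,42]) = true := by decide +kernel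
theorem c20008297 : chkStab M20001 [1,2,8,16,42] [1] [1] [1,2,40] [([1,2,10,26,40],[1,2,6,14,18]),([1,2,8,18,42],[1,2,4,10,16]),([1,2,10,16,42],[1,2,6,8,16]),([1,2,10,17,42],[1,2,6,9,16])] [[1,2,8,16,42],[1,2,10,26,40],[1,2,8,18,42],[1,2,10,16,42],[1,2,10,17,42],[1,2,10,24,40],[1,2,8,26,40],[1,2,8,27,40],[1,2,10,18,42],[1,2,10,19,42],[1,2,8,24,40],[1,2,8,17,42],[1,2,8,25,40],[1,2,10,27,40],[1,2,8,19,42],[1,2,10,25,40]] [(0,0),(0,1),(0,2),(0,3),(1,1),(1,2),(1,3),(2,2),(2,3),(3,0),(3,3),(4,0),(6,3),(8,3),(10,3)] 4 64 = true := by decide +kernel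
theorem c20008299 : chkDer M20001 [([3,1,4,12,32,48],[1,3,4,12,33,48])] [(1,0,[2,3,4,16]),(1,0,[1,3,4,18])] ([1,2,4,32],[1,2,4,34]) = true := by decide +kernel
theorem c20008301 : chkStab M20001 [1,2,4,32] [1] [1] [1,2,4,32] [([1,2,6,32],[1,2,6,8]),([1,2,4,34],[1,2,4,10])] [[1,2,4,32],[1,2,6,32],[1,2,4,34],[1,2,6,34]] [(0,0),(0,1),(1,1)] 2 32 = true := by decide +kernel
theorem c20008303 : chkDer M20001 [([3,1,4,12,32,48],[1,3,4,12,33,49])] [(1,0,[2,3,4,16]),(1,0,[1,3,4,18])] ([1,2,4,32],[1,2,4,34]) = true := by decide +kernel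
theorem c20008305 : chkStab M20001 [1,2,4,32] [1] [1] [1,2,4,32] [([1,2,6,32],[1,2,6,8]),([1,2,4,34],[1,2,4,10])] [[1,2,4,32],[1,2,6,32],[1,2,4,34],[1,2,6,34]] [(0,0),(0,1),(1,1)] 2 32 = true := by decide +kernel
theorem c20008307 : chkRb M20001 [1,2,4,8,16,33] D20001 = true := by decide +kernel
theorem c20008308 : chkStK M20001 6 [1,2,4,8,16,33] 0x20021000000000000000000000000000000000000000000000000000000000000000000000000000000000000000000001000 ([1,2,4],[1,4,6]) ([1,2,8,16],[1,2,16,24]) = true := by decide +kernel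
theorem c20008309 : chkTr M20001 [1,2,4,8,16,33] ([1,2,4,32],[1,4,6,32]) ([1,2,4,33],[1,4,6,33]) = true := by decide +kernel
theorem c20008310 : chkTr M20001 [1,2,4,8,16,33] ([1,2,8,16,42],[1,2,16,24,42]) ([1,2,8,16,43],[1,2,16,24,43]) = true := by decide +kernel
theorem c20008311 : chkTr M20001 [1,2,4,8,16,33] ([3],[1]) ([3],[1]) = true := by decide +kernel
theorem c20008312 : chkDer M20001 [([3,1,4,12,32,48],[1,3,4,12,32,48])] [(0,32,[]),(1,0,[1,2,4,8,18,33])] ([3,1,4,12,33,49],[1,3,4,12,35,49]) = true := by decide +kernel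
theorem c20008314 : chkTr M20001 [1,2,4,8,16,33] ([3,1,4,12,32,48],[1,3,4,12,34,48]) ([3,1,4,12,33,49],[1,3,4,12,35,49]) = true := by decide +kernel
theorem c20008316 : chkDer M20001 [([1,2,8,16,42],[1,2,16,24,42]),([3,1,4,12,32,48],[1,3,4,12,32,49])] [(1,0,[1,2,4,8,16]),(1,1,[2,3,51,63,31]),(1,0,[3,2,9,13,16]),(1,1,[1,3,61,14,31]),(1,0,[1,2,14,7,16])] ([1,2,8,16,42],[1,2,10,19,42]) = true := by decide +kernel
theorem c20008318 : chkStab M20001 [1,2,8,16,42] [1] [1] [1,2,40] [([1,2,10,26,40],[1,2,6,14,18]),([1,2,8,18,42],[1,2,4,10,16]),([1,2,10,16,42],[1,2,6,8,16]),([1,2,10,19,42],[1,2,6,11,16])] [[1,2,8,16,42],[1,2,10,26,40],[1,2,8,18,42],[1,2,10,16,42],[1,2,10,19,42],[1,2,10,24,40],[1,2,8,26,40],[1,2,8,25,40],[1,2,10,18,42],[1,2,10,17,42],[1,2,8,24,40],[1,2,8,19,42],[1,2,8,27,40],[1,2,10,25,40],[1,2,8,17,42],[1,2,10,27,40]] [(0,0),(0,1),(0,2),(0,3),(1,1),(1,2),(1,3),(2,2),(2,3),(3,0),(3,3),(4,0),(6,3),(8,3),(10,3)]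 4 64 = true := by decide +kernel
theorem loc1_0 : chkLoc M20001 ⟨6,0,[],[]⟩ [1,2,4,32] [⟨3,0,[⟨1,0,0,0⟩,⟨2,0,0,0⟩,⟨2,1,0,0⟩,⟨5,0,1,0⟩],0,0,false⟩,⟨3,0,[⟨0,2,2,0⟩,⟨1,0,0,0⟩,⟨2,0,0,0⟩,⟨2,1,0,0⟩,⟨2,2,0,0⟩,⟨2,3,0,0⟩,⟨5,0,1,0⟩],1,2,false⟩,⟨4,0,[⟨0,2,2,0⟩,⟨2,0,0,0⟩,⟨2,1,0,0⟩,⟨2,2,0,0⟩,⟨2,3,0,0⟩,⟨2,4,0,0⟩,⟨2,5,0,0⟩,⟨2,6,0,0⟩,⟨2,7,0,0⟩,⟨5,0,1,32⟩],0,0,false⟩] [[1,2,4,38],[1,2,4,36],[1,2,4,34],[1,2,4,32],[1,4,6,38],[1,4,6,36],[1,4,6,34],[1,4,6,32],[1,4,2,38],[1,4,2,36],[1,4,2,34],[1,4,2,32],[1,6,4,38],[1,6,4,36],[1,6,4,34],[1,6,4,32],[1,6,2,38],[1,6,2,36],[1,6,2,34],[1,6,2,32],[1,12,14,46],[1,12,14,44],[1,12,14,34],[1,12,14,32],[1,12,2,46],[1,12,2,44],[1,12,2,34],[1,12,2,32],[1,14,12,46],[1,14,12,44],[1,14,12,34],[1,14,12,32],[1,14,2,46],[1,14,2,44],[1,14,2,34],[1,14,2,32]] 32 = true := by decide +kernel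
theorem loc1_1 : chkLoc M20001 ⟨6,0,[],[]⟩ [1,2,8,16,42] [⟨3,0,[⟨1,0,0,0⟩,⟨2,0,0,0⟩,⟨2,1,0,0⟩,⟨5,0,1,0⟩],0,0,false⟩,⟨3,0,[⟨0,2,2,0⟩,⟨1,0,2,0⟩,⟨5,0,1,0⟩],1,2,false⟩,⟨3,0,[⟨0,4,6,0⟩,⟨1,0,2,0⟩,⟨5,0,1,0⟩],2,3,false⟩,⟨5,0,[⟨1,0,2,0⟩,⟨5,0,1,32⟩],0,0,false⟩] [[1,2,16,8,42],[1,2,16,8,40],[1,2,16,24,42],[1,2,16,24,40],[1,2,8,16,42],[1,2,8,16,40]] 64 = true := by decide +kernel

end Cfsg.Lib.L33E
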