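import Cfsg.Agent.L33E.Ext5
import Cfsg.Agent.L33E.R1C1

set_option autoImplicit false
set_option maxRecDepth 100000
set_option linter.all false
set_option Elab.async false

namespace Cfsg.Lib.L33E

theorem c20003378 : chkExt4 M20072 E20003376 [98,2,249,186] [2,4,8,16,33,65,129,257,513] [⟨0,0,[],0,0,false⟩,⟨3,0,[⟨6,0,0,0⟩,⟨4,0,0,0⟩,⟨4,2,0,1⟩],1,0,false⟩,⟨3,0,[⟨6,0,0,0⟩,⟨4,0,0,2⟩,⟨4,2,0,3⟩,⟨4,5,0,4⟩],1,2,false⟩] [8,16,69,100,133,164,166,180,261,263,269,300,512,528,773,793,896,937,41] [100,2,4,78] [] [⟨0,0,[],0,0,false⟩,⟨3,0,[⟨6,0,0,0⟩,⟨4,0,0,5⟩,⟨4,2,0,6⟩],1,2,false⟩,⟨3,0,[⟨6,0,0,1⟩,⟨4,0,0,7⟩],2,0,false⟩] [96] = true := by decide +kernel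
theorem c20003652 : chkStab M20072 [1,2,8,16,42,64,132,260,512] [1] [1] [2] [([1,2,8,16,42,66,199,351,569],[1,2,4,8,16,34,99,169,281]),([1,2,10,26,40,64,142,440,702],[1,2,6,14,18,32,68,222,350]),([1,2,8,18,42,64,132,335,587],[1,2,4,10,16,32,64,165,295]),([1,2,10,16,42,66,207,335,512],[1,2,6,8,16,34,101,165,256]),([1,2,8,18,42,66,199,276,626],[1,2,4,10,16,34,99,142,316]),([1,2,8,16,42,64,132,260,555],[1,2,4,8,16,32,64,128,273])] [[1,2,8,16,42,64,132,260,512],[1,2,8,16,42,66,199,351,569],[1,2,10,26,40,64,142,440,702],[1,2,8,18,42,64,132,335,587],[1,2,10,16,42,66,207,335,512],[1,2,8,18,42,66,199,276,626],[1,2,8,16,42,64,132,260,555],[1,2,10,26,40,66,205,481,647],[1,2,8,18,42,66,199,276,624],[1,2,10,16,42,64,140,276,569],[1,2,8,18,42,64,132,335,585],[1,2,8,16,42,66,199,351,530],[1,2,10,24,40,64,142,497,759],[1,2,8,26,40,66,197,497,702],[1,2,10,24,40,66,205,424,718],[1,2,10,26,40,64,142,440,661],[1,2,10,18,42,66,207,260,587],[1,2,8,16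,42,66,199,351,571],[1,2,8,18,42,64,132,335,610],[1,2,8,24,40,66,197,440,759],[1,2,10,18,42,64,140,351,626],[1,2,10,16,42,66,207,335,555],[1,2,8,18,42,66,199,276,603],[1,2,10,26,40,64,142,440,663],[1,2,8,16,42,64,132,260,514],[1,2,10,24,40,66,205,424,716],[1,2,8,26,40,64,134,424,647],[1,2,10,24,40,64,142,497,757],[1,2,10,26,40,66,205,481,684],[1,2,10,18,42,64,140,351,624],[1,2,8,18,42,66,199,276,601],[1,2,8,24,40,64,134,481,716],[1,2,10,18,42,66,207,260,585],[1,2,10,16,42,64,140,276,530],[1,2,8,18,42,64,132,335,608],[1,2,10,26,40,66,205,481,686],[1,2,10,26,40,66,205,481,645],[1,2,10,24,40,64,142,497,734],[1,2,8,24,40,64,134,481,718],[1,2,8,26,40,66,197,497,661],[1,2,10,24,40,66,205,424,743],[1,2,8,16,42,64,132,260,553],[1,2,10,26,40,64,142,440,700],[1,2,10,16,42,64,140,276,571],[1,2,10,18,42,66,207,260,610],[1,2,8,16,42,66,199,351,528],[1,2,10,24,40,64,142,497,732],[1,2,8,26,40,64,134,424,645],[1,2,8,24,40,66,197,440,734],[1,2,10,18,42,64,140,351,603],[1,2,8,24,40,66,197,440,732],[1,2,10,16,42,66,207,335,514],[1,2,10,24,40,66,205,424,741],[1,2,8,26,40,66,197,497,663],[1,2,8,24,40,66,197,440,757],[1,2,8,26,40,64,134,424,684],[1,2,10,18,42,64,140,351,601],[1,2,8,26,40,66,197,497,700],[1,2,8,24,40,64,134,481,741],[1,2,10,18,42,66,207,260,608],[1,2,8,24,40,64,134,481,743],[1,2,8,26,40,64,134,424,686],[1,2,10,16,42,66,207,335,553],[1,2,10,16,42,64,140,276,528]]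 [(0,0),(0,1),(0,2),(0,3),(0,4),(0,5),(1,1),(1,2),(1,3),(1,4),(1,5),(2,2),(2,3),(2,4),(2,5),(3,3),(3,4),(3,5),(4,1),(4,4),(4,5),(5,5),(6,1),(6,5),(7,2),(7,3),(7,4),(7,5),(8,3),(8,5),(9,1),(9,4),(9,5),(10,5),(11,1),(12,4),(12,5),(13,4),(13,5),(14,5),(15,1),(15,5),(16,4),(16,5),(17,5),(18,1),(19,4),(19,5),(20,5),(21,1),(21,5),(22,1),(23,3),(26,4),(26,5),(29,5),(31,4),(31,5),(32,5),(33,1),(35,3),(41,3),(43,5)] 6 64 = true := by decide +kernel
theorem c20002903 : chkFrat M20072 E20000005 [70,2,75,103,5,128] [13,75,73,44,128,138] [70,2,75,103,5,128,16,256,512] [70,2,75,103,5,128,16,256,512] [(13,[1,2,4,8,18,36]),(0,[1,2,4,8,16,32]),(0,[1,2,4,8,16,32]),(13,[1,2,4,8,18,36]),(128,[3,2,4,10,16,38]),(136,[5,2,4,12,22,32]),(669,[20,2,4,31,5,49]),(272,[41,2,4,36,60,8]),(24,[55,2,4,56,34,18])] [⟨0,0,[],0,0,false⟩,⟨0,0,[],0,0,false⟩,⟨0,0,[],0,0,false⟩,⟨0,0,[],0,0,false⟩,⟨0,0,[],0,0,false⟩,⟨2,0,[⟨0,1,20,0⟩,⟨0,16,5,0⟩,⟨1,0,2,0⟩],1,0,false⟩,⟨2,0,[⟨0,1,45,0⟩,⟨0,16,56,0⟩,⟨0,64,83,0⟩],0,0,false⟩,⟨2,0,[⟨0,1,55,0⟩,⟨0,16,34,0⟩,⟨0,64,64,0⟩],0,0,false⟩]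 [([70,2,75,103,5,128,16,256,512],[13,75,73,44,128,138,702,305,83]),([70,2,75,103,5,128,16,256,512],[13,75,73,44,128,138,702,305,81]),([70,2,75,103,5,128,16,256,512],[13,75,73,44,128,138,702,305,26]),([70,2,75,103,5,128,16,256,512],[13,75,73,44,128,138,702,305,24]),([70,2,75,103,5,128,16,256,512],[13,75,73,44,128,138,702,307,83]),([70,2,75,103,5,128,16,256,512],[13,75,73,44,128,138,702,307,81]),([70,2,75,103,5,128,16,256,512],[13,75,73,44,128,138,702,307,26]),([70,2,75,103,5,128,16,256,512],[13,75,73,44,128,138,702,307,24]),([70,2,75,103,5,128,16,256,512],[13,75,73,44,128,138,702,376,83]),([70,2,75,103,5,128,16,256,512],[13,75,73,44,128,138,702,376,81]),([70,2,75,103,5,128,16,256,512],[13,75,73,44,128,138,702,376,26]),([70,2,75,103,5,128,16,256,512],[13,75,73,44,128,138,702,376,24]),([70,2,75,103,5,128,16,256,512],[13,75,73,44,128,138,702,378,83]),([70,2,75,103,5,128,16,256,512],[13,75,73,44,128,138,702,378,81]),([70,2,75,103,5,12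8,16,256,512],[13,75,73,44,128,138,702,378,26]),([70,2,75,103,5,128,16,256,512],[13,75,73,44,128,138,702,378,24]),([70,2,75,103,5,128,16,256,512],[13,75,73,44,128,138,700,305,83]),([70,2,75,103,5,128,16,256,512],[13,75,73,44,128,138,700,305,81]),([70,2,75,103,5,128,16,256,512],[13,75,73,44,128,138,700,305,26]),([70,2,75,103,5,128,16,256,512],[13,75,73,44,128,138,700,305,24]),([70,2,75,103,5,128,16,256,512],[13,75,73,44,128,138,700,307,83]),([70,2,75,103,5,128,16,256,512],[13,75,73,44,128,138,700,307,81]),([70,2,75,103,5,128,16,256,512],[13,75,73,44,128,138,700,307,26]),([70,2,75,103,5,128,16,256,512],[13,75,73,44,128,138,700,307,24]),([70,2,75,103,5,128,16,256,512],[13,75,73,44,128,138,700,376,83]),([70,2,75,103,5,128,16,256,512],[13,75,73,44,128,138,700,376,81]),([70,2,75,103,5,128,16,256,512],[13,75,73,44,128,138,700,376,26]),([70,2,75,103,5,128,16,256,512],[13,75,73,44,128,138,700,376,24]),([70,2,75,103,5,128,16,256,512],[13,75,73,44,128,138,700,378,83]),([70,2,75,103,5,128,16,256,512],[13,75,73,44,128,138,700,378,81]),([70,2,75,103,5,128,16,256,512],[13,75,73,44,128,138,700,378,26]),([70,2,75,103,5,128,16,256,512],[13,75,73,44,128,138,700,378,24])]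 = true := by decide +kernel
theorem c20003419 : chkP7 M20072 481 73 2 496 350 334 480 992 896 4 68 98 182 247 69 251 64 Z20003404 Z20003308 = true := by decide +kernel
theorem c20003268 : chkSyM M20072 [797,830,799,854,8,16,133,261] (gens M20072.n) = true := by decide +kernel
theorem c20003254 : chkFrat M20072 E20003252 [33,35,106] [73,75,33] [33,35,106,1,4,8,16,128,768] [33,35,106,1,4,8,16,128,768] [(0,[1,2,4]),(0,[1,2,4]),(0,[1,2,4]),(16,[1,2,7]),(16,[1,2,7]),(0,[1,2,4]),(17,[2,1,7]),(0,[1,2,4]),(17,[2,1,7])] [⟨0,0,[],0,0,false⟩,⟨0,0,[],0,2,false⟩,⟨3,0,[⟨6,0,0,1⟩,⟨4,0,0,0⟩,⟨0,4,7,0⟩],2,3,false⟩] [] = true := by decide +kernel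
theorem c20003263 : chkFrat M20072 E20003252 [33,35,106] [73,75,33] [33,35,106,1,4,8,16,128,768] [33,35,106,1,4,8,16,128,768] [(0,[1,2,4]),(0,[1,2,4]),(0,[1,2,4]),(16,[1,2,7]),(16,[1,2,7]),(0,[1,2,4]),(17,[2,1,7]),(0,[1,2,4]),(17,[2,1,7])] [⟨0,0,[],0,0,false⟩,⟨0,0,[],0,2,false⟩,⟨3,0,[⟨6,0,0,1⟩,⟨4,0,0,0⟩,⟨0,4,7,0⟩],2,3,false⟩] [] = true := by decide +kernel
theorem c20003428 : chkFrat M20072 E20003252 [33,35,106] [73,75,33] [33,35,106,1,4,8,16,128,768] [33,35,106,1,4,8,16,128,768] [(0,[1,2,4]),(0,[1,2,4]),(0,[1,2,4]),(16,[1,2,7]),(16,[1,2,7]),(0,[1,2,4]),(17,[2,1,7]),(0,[1,2,4]),(17,[2,1,7])] [⟨0,0,[],0,0,false⟩,⟨0,0,[],0,2,false⟩,⟨3,0,[⟨6,0,0,1⟩,⟨4,0,0,0⟩,⟨0,4,7,0⟩],2,3,false⟩] [] = true := by decide +kernel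
theorem c20003437 : chkFrat M20072 E20003252 [33,35,106] [75,73,33] [33,35,106,1,4,8,16,128,768] [33,35,106,1,4,8,16,128,768] [(0,[1,2,4]),(0,[1,2,4]),(0,[1,2,4]),(16,[1,2,7]),(16,[1,2,7]),(0,[1,2,4]),(17,[2,1,7]),(0,[1,2,4]),(17,[2,1,7])] [⟨0,0,[],0,0,false⟩,⟨0,0,[],0,2,false⟩,⟨3,0,[⟨6,0,0,1⟩,⟨4,0,0,0⟩,⟨0,4,7,0⟩],2,3,false⟩] [] = true := by decide +kernel
theorem c20002890 : chkFrat M20072 E20000005 [1,2,8,16,42,64,132,260] [1,2,16,24,42,88,387,173] [1,2,8,16,42,64,132,260,512] [1,2,8,16,42,64,132,260,512] [(1,[1,2,4,8,16,34,99,169]),(0,[1,2,4,8,16,32,64,128]),(16,[1,2,4,10,16,32,64,165]),(24,[1,2,6,8,16,34,101,165]),(1,[1,2,4,8,16,34,99,169]),(88,[3,2,4,10,18,32,97,140]),(385,[34,2,4,45,51,3,64,136]),(132,[40,2,33,45,57,44,74,128]),(645,[26,2,33,8,11,28,126,188])] [⟨0,0,[],0,0,false⟩,⟨0,0,[],0,0,false⟩,⟨0,0,[],0,0,false⟩,⟨0,0,[],0,0,false⟩,⟨0,0,[],0,0,false⟩,⟨0,0,[],0,0,false⟩,⟨0,0,[],0,0,false⟩,⟨2,0,[⟨0,1,24,0⟩,⟨0,4,33,0⟩,⟨0,8,8,0⟩,⟨0,32,30,0⟩],1,0,false⟩]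 [([1,2,8,16,42,64,132,260,512],[1,2,16,24,42,88,387,173,684]),([1,2,8,16,42,64,132,260,512],[1,2,16,24,42,88,387,173,645])] = true := by decide +kernel
theorem c20003147 : chkSyM M20072 [797,830,799,854,8,16,133,261] [797,830,799,854,8,16,133,261,4] = true := by decide +kernel
theorem c20003002 : chkSyM M20072 [797,830,799,854,8,16,133,261] [797,830,799,854,8,16,133,261,4] = true := by decide +kernel
theorem c20003277 : chkLift M20072 D20072 E20003270 [797,830,799,854,8,16,133,261] [797,830,799,854,8,16,133,263] [797,830,799,854,8,16,133,261,1,4] [(1,[2,1,7,14,16,32,89,185]),(0,[1,2,4,8,16,32,64,128]),(4,[4,7,1,8,21,53,80,250]),(8,[4,7,1,13,16,37,64,137]),(16,[8,14,13,1,21,32,73,137]),(32,[2,1,7,14,16,37,89,181]),(9,[7,4,2,11,16,37,89,181]),(128,[11,8,14,2,21,60,76,223]),(256,[14,4,11,7,28,53,69,223]),(512,[8,7,13,1,25,32,76,137])] 0 [1,2,4,8,16,32,64,133] [⟨0,0,[],0,0,false⟩,⟨0,0,[],0,0,false⟩,⟨0,0,[],0,0,false⟩,⟨0,0,[],0,0,false⟩,⟨0,0,[],0,0,false⟩,⟨0,0,[],0,0,false⟩,⟨0,0,[],0,0,false⟩,⟨1,2,[⟨4,0,0,0⟩,⟨0,8,14,0⟩,⟨0,32,32,0⟩],1,0,false⟩,⟨1,4,[⟨4,0,0,1⟩,⟨4,3,0,2⟩,⟨0,8,8,0⟩,⟨0,16,21,0⟩,⟨0,32,53,0⟩],0,0,false⟩]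 [] [256,5,512,16,32,259,284,844,982,168] [([797,830,799,854,8,16,133,263,1,4],[]),([797,830,799,854,8,16,133,263,1,6],[])] [] = true := by decide +kernel
theorem c20003082 : chkStab M20072 [70,2,75,103,5,128,16,256,512] [70] [1] [2,73] [([70,2,73,103,5,138,26,444,702],[1,2,6,8,16,55,87,253,383]),([70,2,73,103,7,193,18,274,624],[1,2,6,8,18,49,66,194,344]),([70,2,75,103,5,128,18,331,585],[1,2,4,8,16,32,66,132,262]),([70,2,75,103,5,128,16,258,512],[1,2,4,8,16,32,64,130,256]),([70,2,73,103,5,138,26,501,702],[1,2,6,8,16,55,87,251,383])] [[70,2,75,103,5,128,16,256,512],[70,2,73,103,5,138,26,444,702],[70,2,73,103,7,193,18,274,624],[70,2,75,103,5,128,18,331,585],[70,2,75,103,5,128,16,258,512],[70,2,73,103,5,138,26,501,702],[70,2,75,103,7,203,24,430,716],[70,2,73,103,5,138,24,501,757],[70,2,73,103,5,138,26,446,702],[70,2,75,103,5,128,16,331,512],[70,2,73,103,7,193,16,345,571],[70,2,73,103,7,193,18,272,624],[70,2,75,103,7,203,24,487,716],[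70,2,75,103,5,128,18,329,585],[70,2,73,103,5,138,24,444,757],[70,2,73,103,5,138,26,503,702],[70,2,75,103,5,128,16,329,512],[70,2,75,103,7,203,24,485,716],[70,2,75,103,7,203,26,487,645],[70,2,75,103,7,203,24,428,716],[70,2,73,103,7,193,18,345,624],[70,2,73,103,5,138,24,503,757],[70,2,75,103,5,128,18,256,585],[70,2,73,103,7,193,18,347,624],[70,2,73,103,7,193,16,347,571],[70,2,75,103,7,203,26,430,645],[70,2,73,103,5,138,24,446,757],[70,2,75,103,5,128,18,258,585],[70,2,75,103,7,203,26,428,645],[70,2,75,103,7,203,26,485,645],[70,2,73,103,7,193,16,274,571],[70,2,73,103,7,193,16,272,571]] [(0,0),(0,1),(0,2),(0,3),(0,4),(1,1),(1,2),(1,3),(1,4),(2,2),(2,3),(2,4),(3,3),(3,4),(4,4),(5,0),(5,1),(6,2),(6,3),(6,4),(7,3),(7,4),(9,1),(10,3),(10,4),(13,4),(14,0),(14,1),(18,3),(18,4),(22,1)] 5 64 = true := by decide +kernel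
theorem c20003493 : chkStab M20072 [70,2,75,103,5,128,16,256,512] [70] [1] [2,73] [([70,2,73,103,5,138,26,444,702],[1,2,6,8,16,55,87,253,383]),([70,2,73,103,7,193,18,274,624],[1,2,6,8,18,49,66,194,344]),([70,2,75,103,5,128,18,331,585],[1,2,4,8,16,32,66,132,262]),([70,2,75,103,5,128,89,329,514],[1,2,4,8,16,32,68,134,258]),([70,2,75,103,5,128,89,331,512],[1,2,4,8,16,32,68,132,256])] [[70,2,75,103,5,128,16,256,512],[70,2,73,103,5,138,26,444,702],[70,2,73,103,7,193,18,274,624],[70,2,75,103,5,128,18,331,585],[70,2,75,103,5,128,89,329,514],[70,2,75,103,5,128,89,331,512],[70,2,75,103,7,203,24,430,716],[70,2,73,103,5,138,24,501,757],[70,2,73,103,5,138,83,503,700],[70,2,73,103,5,138,83,501,702],[70,2,73,103,7,193,16,345,571],[70,2,73,103,7,193,89,347,626],[70,2,73,103,7,193,89,345,624],[70,2,75,103,5,128,91,258,587],[70,2,75,103,5,128,91,256,585],[70,2,73,103,5,138,81,446,759],[70,2,73,103,7,193,91,272,569],[70,2,75,103,5,128,16,258,514],[70,2,73,103,5,138,81,444,757],[70,2,73,103,7,193,91,274,571],[70,2,75,103,7,203,26,487,645],[70,2,75,103,7,203,83,485,718],[70,2,75,103,7,203,83,487,716],[70,2,75,103,7,203,81,428,647],[70,2,73,103,5,138,26,446,700],[70,2,75,103,7,203,81,430,645],[70,2,73,103,7,193,18,272,626],[70,2,75,103,5,128,18,329,587],[70,2,73,103,5,138,24,503,759],[70,2,73,103,7,193,16,347,569],[70,2,75,103,7,203,24,428,718],[70,2,75,103,7,203,26,485,647]]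 [(0,0),(0,1),(0,2),(0,3),(0,4),(1,1),(1,2),(1,3),(1,4),(2,2),(2,3),(2,4),(3,3),(3,4),(4,0),(4,1),(4,4),(5,0),(5,1),(6,2),(6,3),(6,4),(8,1),(8,4),(9,1),(11,4),(13,4),(15,4),(16,4),(21,4),(23,4)] 5 64 = true := by decide +kernel
theorem c20003511 : chkStab M20072 [70,2,75,103,5,128,16,256,512] [70] [1] [2,73] [([70,2,73,103,5,138,26,444,702],[1,2,6,8,16,55,87,253,383]),([70,2,73,103,7,193,18,274,624],[1,2,6,8,18,49,66,194,344]),([70,2,75,103,5,128,18,331,585],[1,2,4,8,16,32,66,132,262]),([70,2,75,103,5,128,89,329,514],[1,2,4,8,16,32,68,134,258]),([70,2,75,103,5,128,89,329,512],[1,2,4,8,16,32,68,134,256])] [[70,2,75,103,5,128,16,256,512],[70,2,73,103,5,138,26,444,702],[70,2,73,103,7,193,18,274,624],[70,2,75,103,5,128,18,331,585],[70,2,75,103,5,128,89,329,514],[70,2,75,103,5,128,89,329,512],[70,2,75,103,7,203,24,430,716],[70,2,73,103,5,138,24,501,757],[70,2,73,103,5,138,83,503,700],[70,2,73,103,5,138,83,503,702],[70,2,73,103,7,193,16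,345,571],[70,2,73,103,7,193,89,347,626],[70,2,73,103,7,193,89,347,624],[70,2,75,103,5,128,91,258,587],[70,2,75,103,5,128,91,258,585],[70,2,73,103,5,138,81,446,759],[70,2,73,103,7,193,91,272,569],[70,2,75,103,5,128,16,256,514],[70,2,73,103,5,138,81,446,757],[70,2,73,103,7,193,91,272,571],[70,2,75,103,7,203,26,487,645],[70,2,75,103,7,203,83,485,718],[70,2,75,103,7,203,83,485,716],[70,2,75,103,7,203,81,428,647],[70,2,73,103,5,138,26,444,700],[70,2,75,103,7,203,81,428,645],[70,2,73,103,7,193,18,274,626],[70,2,75,103,5,128,18,331,587],[70,2,73,103,5,138,24,501,759],[70,2,73,103,7,193,16,345,569],[70,2,75,103,7,203,24,430,718],[70,2,75,103,7,203,26,487,647]] [(0,0),(0,1),(0,2),(0,3),(0,4),(1,1),(1,2),(1,3),(1,4),(2,2),(2,3),(2,4),(3,3),(3,4),(4,0),(4,1),(4,4),(5,0),(5,1),(6,2),(6,3),(6,4),(8,1),(8,4),(9,1),(11,4),(13,4),(15,4),(16,4),(21,4),(23,4)] 5 64 = true := by decide +kernel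
theorem c20003543 : chkStab M20072 [70,2,75,103,5,128,16,256,512] [70] [1] [2,73] [([70,2,73,103,5,138,26,444,702],[1,2,6,8,16,55,87,253,383]),([70,2,73,103,7,193,18,274,624],[1,2,6,8,18,49,66,194,344]),([70,2,75,103,5,128,18,331,585],[1,2,4,8,16,32,66,132,262]),([70,2,75,103,5,128,16,258,514],[1,2,4,8,16,32,64,130,258]),([70,2,73,103,5,138,81,501,700],[1,2,6,8,16,55,83,251,381])] [[70,2,75,103,5,128,16,256,512],[70,2,73,103,5,138,26,444,702],[70,2,73,103,7,193,18,274,624],[70,2,75,103,5,128,18,331,585],[70,2,75,103,5,128,16,258,514],[70,2,73,103,5,138,81,501,700],[70,2,75,103,7,203,24,430,716],[70,2,73,103,5,138,24,501,757],[70,2,73,103,5,138,26,446,700],[70,2,75,103,5,128,91,331,514],[70,2,73,103,7,193,16,345,571],[70,2,73,103,7,193,18,272,626],[70,2,75,103,7,203,81,487,718],[70,2,75,103,5,128,18,329,587],[70,2,73,103,5,138,83,444,759],[70,2,73,103,5,138,81,503,702],[70,2,75,103,5,128,89,258,585],[70,2,75,103,7,203,83,428,645],[70,2,75,103,7,203,26,487,645],[70,2,75,103,7,203,24,428,718],[70,2,73,103,7,193,91,345,626],[70,2,73,103,5,138,24,503,759],[70,2,75,103,5,128,89,256,587],[70,2,75,103,5,128,91,329,512],[70,2,73,103,5,138,83,446,757],[70,2,73,103,7,193,89,272,571],[70,2,73,103,7,193,16,347,569],[70,2,75,103,7,203,83,430,647],[70,2,75,103,7,203,81,485,716],[70,2,75,103,7,203,26,485,647],[70,2,73,103,7,193,89,274,569],[70,2,73,103,7,193,91,347,624]]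 [(0,0),(0,1),(0,2),(0,3),(0,4),(1,1),(1,2),(1,3),(1,4),(2,2),(2,3),(2,4),(3,3),(3,4),(4,4),(5,0),(5,1),(6,2),(6,3),(6,4),(7,3),(7,4),(8,4),(9,0),(9,1),(10,3),(10,4),(11,4),(18,3),(18,4),(19,4)] 5 64 = true := by decide +kernel
theorem c20003575 : chkStab M20072 [70,2,75,103,5,128,16,256,512] [70] [1] [2,73] [([70,2,73,103,5,138,26,444,702],[1,2,6,8,16,55,87,253,383]),([70,2,73,103,7,193,18,274,624],[1,2,6,8,18,49,66,194,344]),([70,2,75,103,5,128,18,331,585],[1,2,4,8,16,32,66,132,262]),([70,2,75,103,5,128,91,258,587],[1,2,4,8,16,32,70,130,260]),([70,2,75,103,5,128,89,331,514],[1,2,4,8,16,32,68,132,258])] [[70,2,75,103,5,128,16,256,512],[70,2,73,103,5,138,26,444,702],[70,2,73,103,7,193,18,274,624],[70,2,75,103,5,128,18,331,585],[70,2,75,103,5,128,91,258,587],[70,2,75,103,5,128,89,331,514],[70,2,75,103,7,203,24,430,716],[70,2,73,103,5,138,24,501,757],[70,2,73,103,5,138,81,446,759],[70,2,73,103,5,138,83,501,700],[70,2,73,103,7,193,16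,345,571],[70,2,73,103,7,193,91,272,569],[70,2,73,103,7,193,89,345,626],[70,2,75,103,5,128,89,329,514],[70,2,75,103,5,128,91,256,587],[70,2,73,103,5,138,83,503,700],[70,2,73,103,7,193,89,347,626],[70,2,75,103,5,128,18,329,585],[70,2,73,103,5,138,81,444,759],[70,2,73,103,7,193,91,274,569],[70,2,75,103,7,203,26,487,645],[70,2,75,103,7,203,81,428,647],[70,2,75,103,7,203,83,487,718],[70,2,75,103,7,203,83,485,718],[70,2,73,103,5,138,24,503,757],[70,2,75,103,7,203,81,430,647],[70,2,73,103,7,193,16,347,571],[70,2,75,103,5,128,16,258,512],[70,2,73,103,5,138,26,446,702],[70,2,73,103,7,193,18,272,624],[70,2,75,103,7,203,26,485,645],[70,2,75,103,7,203,24,428,716]] [(0,0),(0,1),(0,2),(0,3),(0,4),(1,1),(1,2),(1,3),(1,4),(2,2),(2,3),(2,4),(3,3),(3,4),(4,0),(4,1),(4,4),(5,0),(5,1),(6,2),(6,3),(6,4),(8,1),(8,4),(9,1),(11,4),(13,4),(15,4),(16,4),(21,4),(23,4)] 5 64 = true := by decide +kernel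
theorem c20003593 : chkStab M20072 [70,2,75,103,5,128,16,256,512] [70] [1] [2,73] [([70,2,73,103,5,138,26,444,702],[1,2,6,8,16,55,87,253,383]),([70,2,73,103,7,193,18,274,624],[1,2,6,8,18,49,66,194,344]),([70,2,75,103,5,128,18,331,585],[1,2,4,8,16,32,66,132,262]),([70,2,75,103,5,128,89,329,514],[1,2,4,8,16,32,68,134,258]),([70,2,75,103,5,128,89,331,512],[1,2,4,8,16,32,68,132,256])] [[70,2,75,103,5,128,16,256,512],[70,2,73,103,5,138,26,444,702],[70,2,73,103,7,193,18,274,624],[70,2,75,103,5,128,18,331,585],[70,2,75,103,5,128,89,329,514],[70,2,75,103,5,128,89,331,512],[70,2,75,103,7,203,24,430,716],[70,2,73,103,5,138,24,501,757],[70,2,73,103,5,138,83,503,700],[70,2,73,103,5,138,83,501,702],[70,2,73,103,7,193,16,345,571],[70,2,73,103,7,193,89,347,626],[70,2,73,103,7,193,89,345,624],[70,2,75,103,5,128,91,258,587],[70,2,75,103,5,128,91,256,585],[70,2,73,103,5,138,81,446,759],[70,2,73,103,7,193,91,272,569],[70,2,75,103,5,128,16,258,514],[70,2,73,103,5,138,81,444,757],[70,2,73,103,7,193,91,274,571],[70,2,75,103,7,203,26,487,645],[70,2,75,103,7,203,83,485,718],[70,2,75,103,7,203,83,487,716],[70,2,75,103,7,203,81,428,647],[70,2,73,103,5,138,26,446,700],[70,2,75,103,7,203,81,430,645],[70,2,73,103,7,193,18,272,626],[70,2,75,103,5,128,18,329,587],[70,2,73,103,5,138,24,503,759],[70,2,73,103,7,193,16,347,569],[70,2,75,103,7,203,24,428,718],[70,2,75,103,7,203,26,485,647]]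 [(0,0),(0,1),(0,2),(0,3),(0,4),(1,1),(1,2),(1,3),(1,4),(2,2),(2,3),(2,4),(3,3),(3,4),(4,0),(4,1),(4,4),(5,0),(5,1),(6,2),(6,3),(6,4),(8,1),(8,4),(9,1),(11,4),(13,4),(15,4),(16,4),(21,4),(23,4)] 5 64 = true := by decide +kernel
theorem c20003615 : chkStab M20072 [70,2,75,103,5,128,16,256,512] [70] [1] [2,73] [([70,2,73,103,5,138,26,444,702],[1,2,6,8,16,55,87,253,383]),([70,2,73,103,7,193,18,274,624],[1,2,6,8,18,49,66,194,344]),([70,2,75,103,5,128,18,331,585],[1,2,4,8,16,32,66,132,262]),([70,2,75,103,5,128,16,258,514],[1,2,4,8,16,32,64,130,258]),([70,2,73,103,5,138,81,501,700],[1,2,6,8,16,55,83,251,381])] [[70,2,75,103,5,128,16,256,512],[70,2,73,103,5,138,26,444,702],[70,2,73,103,7,193,18,274,624],[70,2,75,103,5,128,18,331,585],[70,2,75,103,5,128,16,258,514],[70,2,73,103,5,138,81,501,700],[70,2,75,103,7,203,24,430,716],[70,2,73,103,5,138,24,501,757],[70,2,73,103,5,138,26,446,700],[70,2,75,103,5,128,91,331,514],[70,2,73,103,7,193,16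,345,571],[70,2,73,103,7,193,18,272,626],[70,2,75,103,7,203,81,487,718],[70,2,75,103,5,128,18,329,587],[70,2,73,103,5,138,83,444,759],[70,2,73,103,5,138,81,503,702],[70,2,75,103,5,128,89,258,585],[70,2,75,103,7,203,83,428,645],[70,2,75,103,7,203,26,487,645],[70,2,75,103,7,203,24,428,718],[70,2,73,103,7,193,91,345,626],[70,2,73,103,5,138,24,503,759],[70,2,75,103,5,128,89,256,587],[70,2,75,103,5,128,91,329,512],[70,2,73,103,5,138,83,446,757],[70,2,73,103,7,193,89,272,571],[70,2,73,103,7,193,16,347,569],[70,2,75,103,7,203,83,430,647],[70,2,75,103,7,203,81,485,716],[70,2,75,103,7,203,26,485,647],[70,2,73,103,7,193,89,274,569],[70,2,73,103,7,193,91,347,624]] [(0,0),(0,1),(0,2),(0,3),(0,4),(1,1),(1,2),(1,3),(1,4),(2,2),(2,3),(2,4),(3,3),(3,4),(4,4),(5,0),(5,1),(6,2),(6,3),(6,4),(7,3),(7,4),(8,4),(9,0),(9,1),(10,3),(10,4),(11,4),(18,3),(18,4),(19,4)] 5 64 = true := by decide +kernel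
theorem c20003633 : chkStab M20072 [70,2,75,103,5,128,16,256,512] [70] [1] [2,73] [([70,2,73,103,5,138,26,444,702],[1,2,6,8,16,55,87,253,383]),([70,2,73,103,7,193,18,274,624],[1,2,6,8,18,49,66,194,344]),([70,2,75,103,5,128,18,331,585],[1,2,4,8,16,32,66,132,262]),([70,2,75,103,5,128,16,256,514],[1,2,4,8,16,32,64,128,258]),([70,2,73,103,5,138,81,444,700],[1,2,6,8,16,55,83,253,381])] [[70,2,75,103,5,128,16,256,512],[70,2,73,103,5,138,26,444,702],[70,2,73,103,7,193,18,274,624],[70,2,75,103,5,128,18,331,585],[70,2,75,103,5,128,16,256,514],[70,2,73,103,5,138,81,444,700],[70,2,75,103,7,203,24,430,716],[70,2,73,103,5,138,24,501,757],[70,2,73,103,5,138,26,444,700],[70,2,75,103,5,128,91,256,514],[70,2,73,103,7,193,16,345,571],[70,2,73,103,7,193,18,274,626],[70,2,75,103,7,203,81,430,718],[70,2,75,103,5,128,18,331,587],[70,2,73,103,5,138,83,501,759],[70,2,73,103,5,138,81,444,702],[70,2,75,103,5,128,89,331,585],[70,2,75,103,7,203,83,487,645],[70,2,75,103,7,203,26,487,645],[70,2,75,103,7,203,24,430,718],[70,2,73,103,7,193,91,274,626],[70,2,73,103,5,138,24,501,759],[70,2,75,103,5,128,89,331,587],[70,2,75,103,5,128,91,256,512],[70,2,73,103,5,138,83,501,757],[70,2,73,103,7,193,89,345,571],[70,2,73,103,7,193,16,345,569],[70,2,75,103,7,203,83,487,647],[70,2,75,103,7,203,81,430,716],[70,2,75,103,7,203,26,487,647],[70,2,73,103,7,193,89,345,569],[70,2,73,103,7,193,91,274,624]]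 [(0,0),(0,1),(0,2),(0,3),(0,4),(1,1),(1,2),(1,3),(1,4),(2,2),(2,3),(2,4),(3,3),(3,4),(4,4),(5,0),(5,1),(6,2),(6,3),(6,4),(7,3),(7,4),(8,4),(9,0),(9,1),(10,3),(10,4),(11,4),(18,3),(18,4),(19,4)] 5 64 = true := by decide +kernel
theorem c20003140 : chkCF M20072 (1,Z20002941) [2,4,33,37,49,73,149,292,520,536,785,789,797,904,912] = true := by decide +kernel
theorem c20003156 : chkCF M20072 (4,Z20003006) [1,5] = true := by decide +kernel
theorem c20003183 : chkCF M20072 (797,Z20003006) [1,5] = true := by decide +kernel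
theorem c20003215 : chkCF M20072 (536,Z20003006) [1,5] = true := by decide +kernel
theorem c20003301 : chkCF M20072 (2,Z20003006) [1,5] = true := by decide +kernel
theorem c20003405 : chkCF M20072 (98,Z20003404) [8,16,41,69,100,180,269,793,937] = true := by decide +kernel
theorem c20003016 : chkCF M20072 (37,Z20003006) [1,5] = true := by decide +kernel
theorem c20003444 : chkRb M20072 [1,2,4,8,16,32,64,128,256,514] D20072 = true := by decide +kernel
theorem c20003544 : chkRb M20072 [1,2,4,8,16,32,64,128,256,514] D20072 = true := by decide +kernel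
theorem c20003004 : chkDer M20072 [([1,2,8,16,42,64,132,260,512],[1,2,16,24,42,88,387,173,684]),([70,2,75,103,5,128,16,256,512],[13,75,73,44,128,138,702,305,26])] [(1,0,[395,414,393,428,4,8,65,129]),(1,1,[339,271,337,343,64,85,162,46]),(2,0,[443,23,414,412,266,406,90,143]),(2,1,[458,15,456,462,110,250,300,184])] ([797,830,799,854,8,16,133,261],[885,104,887,830,255,433,686,480]) = true := by decide +kernel
theorem c20003475 : chkStK M20072 6 [1,2,4,8,16,32,64,128,256,514] 0x21020000000000000000000000000000000000000000000000000000000000000000000000000000000000000000000001000 ([1,2,4],[1,4,6]) ([1,2,8,16],[1,2,16,24]) = true := by decide +kernel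
theorem c20003273 : chkDer M20072 [([789,822,791,862,4,8,16,129,257],[822,104,820,893,249,245,488,690,22]),([1,2,8,16,42,64,132,260,512],[1,2,16,24,42,88,387,173,684])] [(0,4,[]),(1,0,[36,39,33,45,37,101,181,458]),(0,64,[]),(1,1,[467,106,465,500,88,133,356,80]),(1,0,[158,389,155,146,495,211,78,394])] ([797,830,799,854,8,16,133,261],[618,538,616,545,89,10,459,263]) = true := by decide +kernel
theorem c20003538 : chkDer M20072 [([70,2,75,103,5,128,16,256,512],[13,75,73,44,128,138,702,376,81])] [(1,0,[1,2,4,8,16,32,64,128,256]),(0,4,[]),(2,0,[7,4,2,14,32,16,350,410,310]),(0,4,[]),(1,0,[5,6,2,12,55,16,306,399,344])] ([70,2,75,103,5,128,16,256,512],[70,2,75,103,5,128,16,258,514]) = true := by decide +kernel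
theorem c20003490 : chkDer M20072 [([70,2,75,103,5,128,16,256,512],[13,75,73,44,128,138,702,305,83])] [(1,0,[1,2,4,8,16,32,64,128,256]),(0,4,[]),(2,0,[7,4,2,14,32,16,344,410,310]),(0,4,[]),(1,0,[5,6,2,12,55,16,310,399,344])] ([70,2,75,103,5,128,16,256,512],[70,2,75,103,5,128,89,331,512]) = true := by decide +kernel
theorem c20003512 : chkDer M20072 [([70,2,75,103,5,128,16,256,512],[13,75,73,44,128,138,702,307,81])] [(1,0,[1,2,4,8,16,32,64,128,256]),(0,4,[]),(2,0,[7,4,2,14,32,16,350,412,310]),(0,4,[]),(1,0,[5,6,2,12,55,16,306,395,344])] ([70,2,75,103,5,128,16,256,512],[70,2,75,103,5,128,16,258,514]) = true := by decide +kernel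
theorem c20003560 : chkDer M20072 [([70,2,75,103,5,128,16,256,512],[13,75,73,44,128,138,702,378,83])] [(1,0,[1,2,4,8,16,32,64,128,256]),(0,4,[]),(2,0,[7,4,2,14,32,16,344,412,310]),(0,4,[]),(1,0,[5,6,2,12,55,16,310,395,344])] ([70,2,75,103,5,128,16,256,512],[70,2,75,103,5,128,89,331,512]) = true := by decide +kernel
theorem c20003618 : chkDer M20072 [([70,2,75,103,5,128,16,256,512],[13,75,73,44,128,138,700,376,24])] [(1,0,[1,2,4,8,16,32,64,128,256]),(0,4,[]),(2,0,[7,4,2,14,32,16,346,414,304]),(0,4,[]),(1,0,[5,6,2,12,55,16,308,393,348])] ([70,2,75,103,5,128,16,256,512],[70,2,75,103,5,128,89,329,512]) = true := by decide +kernel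
theorem c20003502 : chkDer M20072 [([70,2,75,103,5,128,16,256,512],[13,75,73,44,128,138,702,305,24])] [(1,0,[1,2,4,8,16,32,64,128,256]),(0,4,[]),(2,0,[7,4,2,14,32,16,346,408,304]),(0,4,[]),(1,0,[5,6,2,12,55,16,308,397,348])] ([70,2,75,103,5,128,16,256,512],[70,2,75,103,5,128,89,331,514]) = true := by decide +kernel
theorem c20003596 : chkDer M20072 [([70,2,75,103,5,128,16,256,512],[13,75,73,44,128,138,700,307,26])] [(1,0,[1,2,4,8,16,32,64,128,256]),(0,4,[]),(2,0,[7,4,2,14,32,16,348,414,304]),(0,4,[]),(1,0,[5,6,2,12,55,16,304,393,348])] ([70,2,75,103,5,128,16,256,512],[70,2,75,103,5,128,16,258,514]) = true := by decide +kernel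
theorem c20003610 : chkDer M20072 [([70,2,75,103,5,128,16,256,512],[13,75,73,44,128,138,700,376,26])] [(1,0,[1,2,4,8,16,32,64,128,256]),(0,4,[]),(2,0,[7,4,2,14,32,16,348,408,304]),(0,4,[]),(1,0,[5,6,2,12,55,16,304,397,348])] ([70,2,75,103,5,128,16,256,512],[70,2,75,103,5,128,16,258,514]) = true := by decide +kernel
theorem c20003506 : chkDer M20072 [([70,2,75,103,5,128,16,256,512],[13,75,73,44,128,138,702,307,83])] [(1,0,[1,2,4,8,16,32,64,128,256]),(1,0,[7,4,6,14,32,55,383,201,81]),(1,0,[5,6,2,12,55,16,310,399,350])] ([70,2,75,103,5,128,16,256,512],[70,2,75,103,5,128,89,329,514]) = true := by decide +kernel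
theorem c20003634 : chkDer M20072 [([70,2,75,103,5,128,16,256,512],[13,75,73,44,128,138,700,378,24])] [(1,0,[1,2,4,8,16,32,64,128,256]),(1,0,[7,4,6,14,32,55,381,205,85]),(1,0,[5,6,2,12,55,16,308,399,346])] ([70,2,75,103,5,128,16,256,512],[70,2,75,103,5,128,89,329,514]) = true := by decide +kernel
theorem c20003616 : chkDer M20072 [([70,2,75,103,5,128,16,256,512],[13,75,73,44,128,138,700,376,24])] [(1,0,[1,2,4,8,16,32,64,128,256]),(1,0,[7,4,6,14,32,55,381,207,85]),(1,0,[5,6,2,12,55,16,308,393,346])] ([70,2,75,103,5,128,16,256,512],[70,2,75,103,5,128,89,329,514]) = true := by decide +kernel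
theorem c20003622 : chkDer M20072 [([70,2,75,103,5,128,16,256,512],[13,75,73,44,128,138,700,378,83])] [(1,0,[1,2,4,8,16,32,64,128,256]),(1,0,[7,4,6,14,32,55,381,205,81]),(1,0,[5,6,2,12,55,16,304,399,348])] ([70,2,75,103,5,128,16,256,512],[70,2,75,103,5,128,91,258,587]) = true := by decide +kernel
theorem c20002937 : chkBig M20072 6 2 [1,2,4,8,16,32,64] = true := by decide +kernel
theorem c20003280 : chkDer M20072 [([797,830,799,854,8,16,133,261],[616,593,618,547,16,8,457,261])] [(0,1,[]),(2,0,[145,171,148,157,32,16,224,188]),(0,1,[]),(1,0,[174,148,171,167,32,16,201,133])] ([797,830,799,854,8,16,133,261],[799,828,797,852,8,16,133,263]) = true := by decide +kernel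
theorem c20003608 : chkDer M20072 [([70,2,75,103,5,128,16,256,512],[13,75,73,44,128,138,700,376,83])] [(2,0,[5,6,2,12,55,16,308,399,350]),(2,0,[7,4,6,14,32,55,383,203,87])] ([70,2,75,103,5,128,16,256,512],[13,75,73,44,128,138,702,305,26]) = true := by decide +kernel
theorem c20003529 : chkDer M20072 [([70,2,75,103,5,128,16,256,512],[13,75,73,44,128,138,702,307,24])] [(2,0,[5,6,2,12,55,16,310,393,348]),(2,0,[7,4,6,14,32,55,381,205,87])] ([70,2,75,103,5,128,16,256,514],[13,75,73,44,128,138,700,378,26]) = true := by decide +kernel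
theorem c20003435 : chkDer M20072 [([797,830,799,854,8,16,133,261,4],[830,104,828,885,255,504,743,425,4]),([1,2,4,32,8,64,144,784],[70,2,75,103,77,5,144,784]),([789,822,791,862,4,8,16,129,257],[822,104,820,893,973,188,417,390,810])] [(0,256,[]),(1,0,[10,15,3]),(1,1,[151,149,166]),(1,2,[56,61,8]),(2,1,[51,49,175]),(1,0,[9,12,14])] ([33,35,106],[75,73,33]) = true := by decide +kernel
theorem c20003663 : chkDer M20072 [([1,2,4,32,8,64,144,784],[70,2,75,103,77,5,144,786])] [(1,0,[1,2,4,8,16,32,64,128]),(1,0,[38,2,51,47,53,5,64,130]),(1,0,[52,2,20,61,37,23,64,128])] ([1,2,4,32,8,64,144,784],[1,2,4,32,8,64,144,786]) = true := by decide +kernel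
theorem c20003175 : chkDer M20072 [([1,2,4,32,8,64,144,784],[70,2,75,103,77,5,144,784]),([797,830,799,854,8,16,133,261,4],[830,104,828,885,255,504,743,425,4])] [(2,0,[160,169,162,166]),(1,1,[264,267,269,13]),(1,0,[169,15,171,175])] ([789,822,791,862],[822,104,820,893]) = true := by decide +kernel
theorem c20003514 : chkDer M20072 [([70,2,75,103,5,128,16,256,512],[13,75,73,44,128,138,702,307,81])] [(1,0,[1,2,4,8,16,32,64,128,256]),(0,4,[]),(1,0,[5,6,4,12,55,32,256,167,70])] ([70,2,75,103,5,128,16,256,512],[70,2,73,103,5,138,81,501,700]) = true := by decide +kernel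
theorem c20003258 : chkDer M20072 [([1,2,4,32,8,64],[7,2,4,38,77,68]),([789,822,791,862,4,8,16,129,257],[822,104,820,893,145,188,488,657,124]),([1,2,4,32,8,64,144,784],[70,2,75,103,77,5,144,784]),([797,830,799,854,8,16,133,261,4],[830,104,828,885,255,504,743,425,4])] [(0,256,[]),(1,0,[58,56,9]),(2,1,[53,48,11]),(2,2,[49,51,175]),(1,3,[12,9,14])] ([33,35,106],[73,75,33]) = true := by decide +kernel
theorem c20003540 : chkDer M20072 [([70,2,75,103,5,128,16,256,512],[13,75,73,44,128,138,702,376,81])] [(1,0,[1,2,4,8,16,32,64,128,256]),(0,4,[]),(1,0,[5,6,4,12,55,32,256,163,70])] ([70,2,75,103,5,128,16,256,512],[70,2,73,103,5,138,81,501,700]) = true := by decide +kernel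
theorem c20003566 : chkDer M20072 [([70,2,75,103,5,128,16,256,512],[13,75,73,44,128,138,702,378,81])] [(1,0,[1,2,4,8,16,32,64,128,256]),(0,4,[]),(1,0,[5,6,4,12,55,32,256,161,70])] ([70,2,75,103,5,128,16,256,512],[70,2,73,103,5,138,81,444,700]) = true := by decide +kernel
theorem c20003420 : chkDer M20072 [([1,2,4,32,8,64],[7,2,4,38,77,68]),([789,822,791,862,4,8,16,129,257],[822,104,820,893,933,245,417,423,832]),([1,2,4,32,8,64,144,784],[70,2,75,103,77,5,144,784]),([797,830,799,854,8,16,133,261,4],[830,104,828,885,255,504,743,425,4])] [(0,256,[]),(1,0,[58,56,9]),(1,1,[54,51,3]),(2,2,[49,51,166]),(2,3,[12,9,3])] ([33,35,106],[73,75,33]) = true := by decide +kernel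
theorem c20003429 : chkDer M20072 [([1,2,4,32,8,64],[7,2,4,38,77,68]),([789,822,791,862,4,8,16,129,257],[822,104,820,893,933,245,417,421,779]),([1,2,4,32,8,64,144,784],[70,2,75,103,77,5,144,784]),([797,830,799,854,8,16,133,261,4],[830,104,828,885,255,504,743,425,4])] [(0,256,[]),(1,0,[58,56,9]),(1,1,[54,51,3]),(2,2,[49,51,166]),(2,3,[12,9,3])] ([33,35,106],[73,75,33]) = true := by decide +kernel
theorem c20003409 : chkDer M20072 [([70,2,75,103,5,128,16,256,512],[13,75,73,44,128,138,702,378,26])] [(2,0,[148,184,440,416,235,214,3])] ([496,350,334,480,992,896,68],[334,480,992,896,496,350,68]) = true := by decide +kernel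
theorem c20002986 : chkDer M20072 [([70,2,75,103,5,128,16,256,512],[13,75,73,44,128,138,702,305,26]),([1,2,8,16,42,64,132,260],[1,2,16,24,42,88,387,173]),([1,2,4,32,8,64,144],[70,2,75,103,77,5,144]),([1,2,4,32,8,64],[7,2,4,38,77,68])] [(1,0,[437]),(1,1,[179]),(2,2,[67]),(0,256,[]),(1,3,[31]),(0,256,[])] ([904],[33]) = true := by decide +kernel
theorem c20002978 : chkDer M20072 [([1,2,4,32,8,64,144,784],[70,2,75,103,77,5,144,784]),([1,2,8,16,42,64,132,260,512],[1,2,16,24,42,88,387,173,684]),([70,2,75,103,5,128,16,256,512],[13,75,73,44,128,138,702,305,26]),([1,2,8,16,42],[1,2,16,24,42])] [(0,16,[]),(2,0,[166]),(1,1,[430]),(2,2,[94]),(2,3,[21])] ([789],[33]) = true := by decide +kernel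
theorem c20003448 : chkTr M20072 [1,2,4,8,16,32,64,128,256,514] ([1,2,8,16,42,64],[1,2,16,24,42,88]) ([1,2,8,16,42,64],[1,2,16,24,42,88]) = true := by decide +kernel
theorem c20003451 : chkTr M20072 [1,2,4,8,16,32,64,128,256,514] ([70,2,75,103,5,128],[70,75,73,103,130,138]) ([70,2,75,103,5,128],[70,75,73,103,130,138]) = true := by decide +kernel
theorem c20003458 : chkTr M20072 [1,2,4,8,16,32,64,128,256,514] ([1,2,8,16,42,64,132,260,512],[1,2,16,24,42,88,387,173,684]) ([1,2,8,16,42,64,132,260,514],[1,2,16,24,42,88,387,173,686]) = true := by decide +kernel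
theorem c20003477 : chkTr M20072 [1,2,4,8,16,32,64,128,256,514] ([1,2,8,16,42],[1,2,16,24,42]) ([1,2,8,16,42],[1,2,16,24,42]) = true := by decide +kernel
theorem c20003480 : chkTr M20072 [1,2,4,8,16,32,64,128,256,514] ([1,2,4,32,8,64,144],[70,2,75,103,77,5,144]) ([1,2,4,32,8,64,144],[70,2,75,103,77,5,144]) = true := by decide +kernel
theorem c20003483 : chkTr M20072 [1,2,4,8,16,32,64,128,256,514] ([1,2,4,32,8,64,144,784],[70,2,75,103,77,5,144,784]) ([1,2,4,32,8,64,144,786],[70,2,75,103,77,5,144,786]) = true := by decide +kernel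
theorem c20003520 : chkTr M20072 [1,2,4,8,16,32,64,128,256,514] ([1,2,4,32],[1,4,6,32]) ([1,2,4,32],[1,4,6,32]) = true := by decide +kernel
theorem c20003523 : chkTr M20072 [1,2,4,8,16,32,64,128,256,514] ([1,2,4,32,8,64],[7,2,4,38,77,68]) ([1,2,4,32,8,64],[7,2,4,38,77,68]) = true := by decide +kernel
theorem c20003526 : chkTr M20072 [1,2,4,8,16,32,64,128,256,514] ([1,2,8,16,42,64,132,260],[1,2,16,24,42,88,387,173]) ([1,2,8,16,42,64,132,260],[1,2,16,24,42,88,387,173]) = true := by decide +kernel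
theorem c20003531 : chkTr M20072 [1,2,4,8,16,32,64,128,256,514] ([70,2,75,103,5,128,16,256,512],[13,75,73,44,128,138,702,378,26]) ([70,2,75,103,5,128,16,256,514],[13,75,73,44,128,138,700,378,26]) = true := by decide +kernel
theorem c20003548 : chkTr M20072 [1,2,4,8,16,32,64,128,256,514] ([1,2,8,16,42,64],[1,2,16,24,42,88]) ([1,2,8,16,42,64],[1,2,16,24,42,88]) = true := by decide +kernel
theorem c20003551 : chkTr M20072 [1,2,4,8,16,32,64,128,256,514] ([70,2,75,103,5,128],[70,75,73,103,130,138]) ([70,2,75,103,5,128],[70,75,73,103,130,138]) = true := by decide +kernel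
theorem c20003554 : chkTr M20072 [1,2,4,8,16,32,64,128,256,514] ([1,2,8,16,42,64,132,260,512],[1,2,16,24,42,88,387,173,684]) ([1,2,8,16,42,64,132,260,514],[1,2,16,24,42,88,387,173,686]) = true := by decide +kernel
theorem c20003120 : chkDer M20072 [([1,2,4,32,8,64,144,784],[70,2,75,103,77,5,144,784]),([1,2,8,16,42,64,132,260,512],[1,2,16,24,42,88,387,173,684]),([70,2,75,103,5,128,16,256,512],[13,75,73,44,128,138,702,378,26]),([1,2,8,16,42],[1,2,16,24,42])] [(1,0,[129]),(1,1,[430]),(2,2,[94]),(2,3,[21])] ([785],[33]) = true := by decide +kernel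
theorem c20002966 : chkDer M20072 [([70,2,75,103,5,128,16,256,512],[13,75,73,44,128,138,702,305,26]),([1,2,4,32,8,64,144],[70,2,75,103,77,5,144]),([1,2,4,32],[1,4,6,32])] [(1,0,[277]),(1,1,[87]),(0,256,[]),(2,2,[11]),(0,16,[])] ([520],[33]) = true := by decide +kernel
theorem c20003108 : chkDer M20072 [([1,2,8,16,42,64,132,260],[1,2,16,24,42,88,387,173]),([1,2,4,32,8,64,144],[70,2,75,103,77,5,144]),([1,2,4,32],[1,4,6,32])] [(1,0,[148]),(1,1,[85]),(0,256,[]),(1,2,[15]),(0,16,[])] ([292],[33]) = true := by decide +kernel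
theorem c20002877 : chkScM M20072 [1,2,4,32] [1,2,4,32,8,64] [1,2,4,32,8,64,144,784] [1,2,4,8] [1,2,4,8] = true := by decide +kernel
theorem c20003459 : chkDer M20072 [([70,2,75,103,5,128,16,256,512],[13,75,73,44,128,138,700,305,81])] [(1,0,[1,2,4,8,16,32,64,128,258])] ([70,2,75,103,5,128,16,256,514],[13,75,73,44,128,138,700,305,26]) = true := by decide +kernel
theorem c20003388 : chkDer M20072 [([1,2,8,16,42,64,132,260],[1,2,16,24,42,88,387,173]),([789,822,791,862,4,8,16,129,257],[822,104,820,893,249,245,488,688,95])] [(1,0,[90]),(1,1,[490])] ([180],[16]) = true := by decide +kernel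
theorem c20003640 : chkDer M20072 [] [(0,1,[])] ([1,2,8,16,42,64,132,260,512],[1,2,8,16,42,66,199,351,569]) = true := by decide +kernel
theorem c20003646 : chkDer M20072 [] [(0,16,[])] ([1,2,8,16,42,64,132,260,512],[1,2,10,16,42,66,207,335,512]) = true := by decide +kernel
theorem c20003065 : chkDer M20072 [] [(0,64,[])] ([70,2,75,103,5,128,16,256,512],[70,2,73,103,7,193,18,274,624]) = true := by decide +kernel
theorem c20003653 : chkDer M20072 [] [(0,1,[])] ([1,2,4,32,8,64,144,784],[1,2,4,32,8,66,211,819]) = true := by decide +kernel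
theorem c20003659 : chkDer M20072 [] [(0,16,[])] ([1,2,4,32,8,64,144,784],[1,2,14,34,10,66,209,849]) = true := by decide +kernel
theorem c20002958 : chkDer M20072 [([1,2,4,32,8,64,144],[70,2,75,103,77,5,144]),([1,2,4,32],[1,4,6,32])] [(2,0,[96]),(0,256,[]),(2,1,[11]),(0,16,[])] ([149],[33]) = true := by decide +kernel
theorem c20003096 : chkDer M20072 [([1,2,8,16,42],[1,2,16,24,42])] [(0,8,[]),(1,0,[29])] ([49],[33]) = true := by decide +kernel
theorem c20002895 : chkDer M20072 [([1,2,4,32,8,64,144],[70,2,75,103,77,5,144])] [(1,0,[1,2,4,8])] ([1,2,4,32],[70,2,75,103]) = true := by decide +kernel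
theorem c20003092 : chkDer M20072 [([1,2,4,32],[1,4,6,32])] [(2,0,[11]),(0,16,[])] ([37],[33]) = true := by decide +kernel
theorem c20003008 : chkDer M20072 [([1,2,4,32,8,64],[7,2,4,38,77,68])] [(0,8,[]),(1,0,[7])] ([5],[1]) = true := by decide +kernel
theorem c20003330 : chkDer M20072 [([1,2,4],[1,4,6])] [(2,0,[6]),(0,512,[])] ([2],[186]) = true := by decide +kernel
theorem c20003100 : chkDer M20072 [([70,2,75,103,5,128],[70,75,73,103,130,138])] [(1,0,[6])] ([73],[2]) = true := by decide +kernel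
theorem c20002954 : chkDer M20072 [([70,2,75,103,5,128],[70,75,73,103,130,138])] [(1,0,[6])] ([73],[2]) = true := by decide +kernel
theorem c20003088 : chkDer M20072 [([1,2,4],[1,4,6])] [(2,0,[2])] ([4],[2]) = true := by decide +kernel
theorem c20003364 : chkDer M20072 [([1,2,4],[1,4,6])] [(1,0,[2])] ([2],[4]) = true := by decide +kernel
theorem c20003185 : chkDer M20072 [] [(0,4,[])] ([797],[799]) = true := by decide +kernel
theorem c20003205 : chkDer M20072 [] [(0,8,[])] ([912],[914]) = true := by decide +kernel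
theorem c20003225 : chkDer M20072 [] [(0,12,[])] ([292],[467]) = true := by decide +kernel
theorem c20003295 : chkDer M20072 [] [(0,128,[])] ([37],[47]) = true := by decide +kernel
theorem c20003030 : chkDer M20072 [] [(0,967,[])] ([1],[99]) = true := by decide +kernel
theorem c20003046 : chkDer M20072 [] [(0,384,[])] ([1],[90]) = true := by decide +kernel

end Cfsg.Lib.L33E
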