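import Cfsg.Agent.L33E.R1C1

set_option autoImplicit false
set_option maxRecDepth 100000
set_option linter.all false
set_option Elab.async false

namespace Cfsg.Lib.L33E

theorem c20003358 : chkExt4 M20072 E20003356 [98,2,249,186] [2,4,8,16,33,65,129,257,513] [⟨0,0,[],0,0,false⟩,⟨3,0,[⟨6,0,0,0⟩,⟨4,0,0,0⟩,⟨4,2,0,1⟩],1,0,false⟩,⟨3,0,[⟨6,0,0,0⟩,⟨4,0,0,2⟩,⟨4,2,0,3⟩,⟨4,5,0,4⟩],1,2,false⟩] [8,16,69,100,133,164,166,180,261,263,269,300,512,528,773,793,896,937,41] [16,2,75,90] [] [⟨0,0,[],0,0,false⟩,⟨3,0,[⟨6,0,0,0⟩,⟨4,0,0,5⟩,⟨4,2,0,6⟩],1,2,false⟩,⟨3,0,[⟨6,0,0,1⟩,⟨4,0,0,7⟩],2,0,false⟩] [96] = true := by decide +kernel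
theorem c20003166 : chkTT M20072 E20002996 0 L20003165 0x22200002 M20072.W [1] [] [] 99 0 [] [] = true := by decide +kernel
theorem c20003665 : chkStab M20072 [1,2,4,32,8,64,144,784] [1] [1] [2] [([1,2,4,32,8,66,211,819],[1,2,4,8,16,34,97,137]),([1,2,4,32,10,64,144,784],[1,2,4,8,18,32,64,128]),([1,2,6,32,8,64,144,784],[1,2,6,8,16,32,64,128]),([1,2,14,34,10,66,209,849],[1,2,22,10,18,34,99,163]),([1,2,4,32,8,66,209,819],[1,2,4,8,16,34,99,137]),([1,2,4,32,8,64,144,786],[1,2,4,8,16,32,64,130])] [[1,2,4,32,8,64,144,784],[1,2,4,32,8,66,211,819],[1,2,4,32,10,64,144,784],[1,2,6,32,8,64,144,784],[1,2,14,34,10,66,209,849],[1,2,4,32,8,66,209,819],[1,2,4,32,8,64,144,786],[1,2,4,32,10,66,211,819],[1,2,6,32,8,66,211,819],[1,2,14,34,10,64,146,880],[1,2,4,32,8,64,146,784],[1,2,4,32,8,66,211,817],[1,2,6,32,10,64,144,784],[1,2,12,34,8,66,209,849],[1,2,4,32,10,66,209,819],[1,2,4,32,10,64,144,786],[1,2,12,34,10,66,209,849],[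1,2,6,32,8,66,209,819],[1,2,6,32,8,64,144,786],[1,2,14,34,8,66,209,849],[1,2,14,34,10,64,144,880],[1,2,14,34,10,66,209,851],[1,2,4,32,8,66,209,817],[1,2,6,32,10,66,211,819],[1,2,12,34,8,64,146,880],[1,2,4,32,10,64,146,784],[1,2,4,32,10,66,211,817],[1,2,12,34,10,64,146,880],[1,2,6,32,8,64,146,784],[1,2,6,32,8,66,211,817],[1,2,14,34,8,64,146,880],[1,2,14,34,10,66,211,849],[1,2,14,34,10,64,146,882],[1,2,4,32,8,64,146,786],[1,2,6,32,10,66,209,819],[1,2,6,32,10,64,144,786],[1,2,12,34,8,64,144,880],[1,2,12,34,8,66,209,851],[1,2,4,32,10,66,209,817],[1,2,12,34,10,64,144,880],[1,2,12,34,10,66,209,851],[1,2,6,32,8,66,209,817],[1,2,14,34,8,64,144,880],[1,2,14,34,8,66,209,851],[1,2,14,34,10,64,144,882],[1,2,6,32,10,64,146,784],[1,2,6,32,10,66,211,817],[1,2,12,34,8,66,211,849],[1,2,12,34,8,64,146,882],[1,2,4,32,10,64,146,786],[1,2,12,34,10,66,211,849],[1,2,12,34,10,64,146,882],[1,2,6,32,8,64,146,786],[1,2,14,34,8,66,211,849],[1,2,14,34,8,64,146,882],[1,2,14,34,10,66,211,851],[1,2,6,32,10,66,209,817],[1,2,12,34,8,64,144,882],[1,2,12,34,10,64,144,882],[1,2,14,34,8,64,144,882],[1,2,6,32,10,64,146,786],[1,2,12,34,8,66,211,851],[1,2,12,34,10,66,211,851],[1,2,14,34,8,66,211,851]]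 [(0,0),(0,1),(0,2),(0,3),(0,4),(0,5),(1,1),(1,2),(1,3),(1,4),(1,5),(2,2),(2,3),(2,4),(2,5),(3,3),(3,4),(3,5),(4,1),(4,4),(4,5),(5,5),(7,2),(7,3),(7,4),(7,5),(8,3),(8,4),(8,5),(9,1),(9,4),(9,5),(10,5),(12,4),(12,5),(13,4),(13,5),(14,5),(16,4),(16,5),(17,5),(19,4),(19,5),(20,5),(23,4),(23,5),(24,4),(24,5),(25,5),(27,4),(27,5),(28,5),(30,4),(30,5),(31,5),(34,5),(36,5),(39,5),(42,5),(45,5),(47,5),(50,5),(53,5)] 6 64 = true := by decide +kernel
theorem c20003062 : chkFrat M20072 E20003060 [33,35,106] [104,106,73] [33,35,106,1,4,8,16,128,768] [33,35,106,1,4,8,16,128,768] [(0,[1,2,4]),(0,[1,2,4]),(0,[1,2,4]),(17,[1,2,7]),(17,[1,2,7]),(0,[1,2,4]),(1,[2,1,7]),(0,[1,2,4]),(1,[2,1,7])] [⟨0,0,[],0,0,false⟩,⟨0,0,[],0,2,false⟩,⟨3,0,[⟨6,0,0,1⟩,⟨4,0,0,0⟩,⟨0,4,7,0⟩],2,3,false⟩,⟨3,0,[⟨6,0,0,0⟩,⟨4,0,0,1⟩,⟨4,1,0,2⟩,⟨4,8,0,3⟩,⟨0,4,7,0⟩,⟨5,0,8,0⟩],3,0,false⟩,⟨5,0,[⟨6,0,0,0⟩,⟨4,12,0,4⟩,⟨5,0,8,0⟩],3,0,false⟩,⟨2,0,[⟨6,0,0,0⟩,⟨4,1,0,5⟩,⟨4,2,0,6⟩,⟨4,9,0,7⟩,⟨4,13,0,8⟩,⟨0,1,2,0⟩],3,0,false⟩]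 [] = true := by decide +kernel
theorem c20003056 : chkFrat M20072 E20003054 [797,830,799,854,8,16,133,261] [885,104,887,830,255,433,686,480] [797,830,799,854,8,16,133,261,4] [797,830,799,854,8,16,133,261,4] [(828,[1,2,4,8,21,41,76,128]),(33,[1,2,4,8,21,44,76,137]),(828,[1,2,4,8,21,41,76,128]),(828,[1,2,4,8,21,41,76,128]),(180,[4,7,1,13,16,37,64,137]),(433,[8,14,13,1,21,32,73,137]),(684,[13,14,8,4,16,41,64,137]),(425,[1,11,4,8,25,41,73,128]),(816,[4,7,1,8,21,53,80,250])] [⟨0,0,[],0,0,false⟩,⟨0,0,[],0,0,false⟩,⟨0,0,[],0,0,false⟩,⟨0,0,[],0,0,false⟩,⟨0,0,[],0,0,false⟩,⟨0,0,[],0,0,false⟩,⟨0,0,[],0,0,false⟩,⟨2,0,[⟨4,0,0,0⟩,⟨4,3,0,1⟩,⟨0,1,4,0⟩,⟨0,8,8,0⟩,⟨0,16,21,0⟩,⟨0,32,53,0⟩],1,0,false⟩] [([797,830,799,854,8,16,133,261,4],[885,104,887,830,255,433,686,480,816])] = true := by decide +kernel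
theorem c20003020 : chkFrat M20072 E20003018 [797,830,799,854,8,16,133,261] [885,104,887,830,255,433,686,480] [797,830,799,854,8,16,133,261,4] [797,830,799,854,8,16,133,261,4] [(828,[1,2,4,8,21,41,76,128]),(33,[1,2,4,8,21,44,76,137]),(828,[1,2,4,8,21,41,76,128]),(828,[1,2,4,8,21,41,76,128]),(180,[4,7,1,13,16,37,64,137]),(433,[8,14,13,1,21,32,73,137]),(684,[13,14,8,4,16,41,64,137]),(425,[1,11,4,8,25,41,73,128]),(816,[4,7,1,8,21,53,80,250])] [⟨0,0,[],0,0,false⟩,⟨0,0,[],0,0,false⟩,⟨0,0,[],0,0,false⟩,⟨0,0,[],0,0,false⟩,⟨0,0,[],0,0,false⟩,⟨0,0,[],0,0,false⟩,⟨0,0,[],0,0,false⟩,⟨2,0,[⟨4,0,0,0⟩,⟨4,3,0,1⟩,⟨0,1,4,0⟩,⟨0,8,8,0⟩,⟨0,16,21,0⟩,⟨0,32,53,0⟩],1,0,false⟩] [([797,830,799,854,8,16,133,261,4],[885,104,887,830,255,433,686,480,816])] = true := by decide +kernel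
theorem c20003260 : chkFrat M20072 E20003252 [33,35,106] [73,75,33] [33,35,106,1,4,8,16,128,768] [33,35,106,1,4,8,16,128,768] [(0,[1,2,4]),(0,[1,2,4]),(0,[1,2,4]),(16,[1,2,7]),(16,[1,2,7]),(0,[1,2,4]),(17,[2,1,7]),(0,[1,2,4]),(17,[2,1,7])] [⟨0,0,[],0,0,false⟩,⟨0,0,[],0,2,false⟩,⟨3,0,[⟨6,0,0,1⟩,⟨4,0,0,0⟩,⟨0,4,7,0⟩],2,3,false⟩] [] = true := by decide +kernel
theorem c20003425 : chkFrat M20072 E20003252 [33,35,106] [73,75,33] [33,35,106,1,4,8,16,128,768] [33,35,106,1,4,8,16,128,768] [(0,[1,2,4]),(0,[1,2,4]),(0,[1,2,4]),(16,[1,2,7]),(16,[1,2,7]),(0,[1,2,4]),(17,[2,1,7]),(0,[1,2,4]),(17,[2,1,7])] [⟨0,0,[],0,0,false⟩,⟨0,0,[],0,2,false⟩,⟨3,0,[⟨6,0,0,1⟩,⟨4,0,0,0⟩,⟨0,4,7,0⟩],2,3,false⟩] [] = true := by decide +kernel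
theorem c20003434 : chkFrat M20072 E20003252 [33,35,106] [75,73,33] [33,35,106,1,4,8,16,128,768] [33,35,106,1,4,8,16,128,768] [(0,[1,2,4]),(0,[1,2,4]),(0,[1,2,4]),(16,[1,2,7]),(16,[1,2,7]),(0,[1,2,4]),(17,[2,1,7]),(0,[1,2,4]),(17,[2,1,7])] [⟨0,0,[],0,0,false⟩,⟨0,0,[],0,2,false⟩,⟨3,0,[⟨6,0,0,1⟩,⟨4,0,0,0⟩,⟨0,4,7,0⟩],2,3,false⟩] [] = true := by decide +kernel
theorem c20003443 : chkFrat M20072 E20003252 [33,35,106] [75,73,33] [33,35,106,1,4,8,16,128,768] [33,35,106,1,4,8,16,128,768] [(0,[1,2,4]),(0,[1,2,4]),(0,[1,2,4]),(16,[1,2,7]),(16,[1,2,7]),(0,[1,2,4]),(17,[2,1,7]),(0,[1,2,4]),(17,[2,1,7])] [⟨0,0,[],0,0,false⟩,⟨0,0,[],0,2,false⟩,⟨3,0,[⟨6,0,0,1⟩,⟨4,0,0,0⟩,⟨0,4,7,0⟩],2,3,false⟩] [] = true := by decide +kernel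
theorem c20002998 : chkSyl M20072 D20072 E20002996 [1,2,4,8,16,32,64,128,256,512] 0 [5] [⟨3,0,[],0,0,false⟩,⟨3,0,[],1,2,false⟩,⟨3,0,[],2,3,false⟩,⟨3,0,[],3,0,false⟩,⟨5,0,[],0,0,false⟩,⟨1,3,[],3,0,false⟩,⟨1,66,[],0,0,false⟩,⟨1,90,[],0,0,false⟩,⟨1,56,[],0,0,false⟩] [] [1,2,4,8,16,32,64,128,256,512] [] [] = true := by decide +kernel
theorem c20003248 : chkSyM M20072 [33,35,106] [33,35,106,1,4,8,16,128,768] = true := by decide +kernel
theorem c20003272 : chkLift M20072 D20072 E20003270 [797,830,799,854,8,16,133,261] [797,830,799,854,8,16,133,263] [797,830,799,854,8,16,133,261,1,4] [(1,[2,1,7,14,16,32,89,185]),(0,[1,2,4,8,16,32,64,128]),(4,[4,7,1,8,21,53,80,250]),(8,[4,7,1,13,16,37,64,137]),(16,[8,14,13,1,21,32,73,137]),(32,[2,1,7,14,16,37,89,181]),(9,[7,4,2,11,16,37,89,181]),(128,[11,8,14,2,21,60,76,223]),(256,[14,4,11,7,28,53,69,223]),(512,[8,7,13,1,25,32,76,137])] 0 [1,2,4,8,16,32,64,133] [⟨0,0,[],0,0,false⟩,⟨0,0,[],0,0,false⟩,⟨0,0,[],0,0,false⟩,⟨0,0,[],0,0,false⟩,⟨0,0,[],0,0,false⟩,⟨0,0,[],0,0,false⟩,⟨0,0,[],0,0,false⟩,⟨1,2,[⟨4,0,0,0⟩,⟨0,8,14,0⟩,⟨0,32,32,0⟩],1,0,false⟩,⟨1,4,[⟨4,0,0,1⟩,⟨4,3,0,2⟩,⟨0,8,8,0⟩,⟨0,16,21,0⟩,⟨0,32,53,0⟩],0,0,false⟩]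 [] [256,5,512,16,32,259,284,844,982,168] [([797,830,799,854,8,16,133,263,1,4],[]),([797,830,799,854,8,16,133,263,1,6],[])] [] = true := by decide +kernel
theorem c20003282 : chkLift M20072 D20072 E20003270 [797,830,799,854,8,16,133,261] [799,828,797,852,8,16,133,263] [797,830,799,854,8,16,133,261,1,4] [(1,[2,1,7,14,16,32,89,185]),(0,[1,2,4,8,16,32,64,128]),(4,[4,7,1,8,21,53,80,250]),(8,[4,7,1,13,16,37,64,137]),(16,[8,14,13,1,21,32,73,137]),(32,[2,1,7,14,16,37,89,181]),(9,[7,4,2,11,16,37,89,181]),(128,[11,8,14,2,21,60,76,223]),(256,[14,4,11,7,28,53,69,223]),(512,[8,7,13,1,25,32,76,137])] 0 [4,7,1,13,16,32,64,133] [⟨0,0,[],0,0,false⟩,⟨0,0,[],0,0,false⟩,⟨0,0,[],0,0,false⟩,⟨0,0,[],0,0,false⟩,⟨0,0,[],0,0,false⟩,⟨0,0,[],0,0,false⟩,⟨0,0,[],0,0,false⟩,⟨1,2,[⟨4,0,0,0⟩,⟨0,8,14,0⟩,⟨0,32,32,0⟩],1,0,false⟩,⟨1,4,[⟨4,0,0,1⟩,⟨4,3,0,2⟩,⟨0,8,8,0⟩,⟨0,16,21,0⟩,⟨0,32,53,0⟩],0,0,false⟩] [] [256,5,512,16,32,259,284,844,982,168]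 [([799,828,797,852,8,16,133,263,1,4],[]),([799,828,797,852,8,16,133,263,1,6],[])] [] = true := by decide +kernel
theorem c20003473 : chkStab M20072 [70,2,75,103,5,128,16,256,512] [70] [1] [2,73] [([70,2,73,103,5,138,26,444,702],[1,2,6,8,16,55,87,253,383]),([70,2,73,103,7,193,18,274,624],[1,2,6,8,18,49,66,194,344]),([70,2,75,103,5,128,18,331,585],[1,2,4,8,16,32,66,132,262]),([70,2,75,103,5,128,16,258,512],[1,2,4,8,16,32,64,130,256]),([70,2,73,103,5,138,26,501,702],[1,2,6,8,16,55,87,251,383])] [[70,2,75,103,5,128,16,256,512],[70,2,73,103,5,138,26,444,702],[70,2,73,103,7,193,18,274,624],[70,2,75,103,5,128,18,331,585],[70,2,75,103,5,128,16,258,512],[70,2,73,103,5,138,26,501,702],[70,2,75,103,7,203,24,430,716],[70,2,73,103,5,138,24,501,757],[70,2,73,103,5,138,26,446,702],[70,2,75,103,5,128,16,331,512],[70,2,73,103,7,193,16,345,571],[70,2,73,103,7,193,18,272,624],[70,2,75,103,7,203,24,487,716],[70,2,75,103,5,12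8,18,329,585],[70,2,73,103,5,138,24,444,757],[70,2,73,103,5,138,26,503,702],[70,2,75,103,5,128,16,329,512],[70,2,75,103,7,203,24,485,716],[70,2,75,103,7,203,26,487,645],[70,2,75,103,7,203,24,428,716],[70,2,73,103,7,193,18,345,624],[70,2,73,103,5,138,24,503,757],[70,2,75,103,5,128,18,256,585],[70,2,73,103,7,193,18,347,624],[70,2,73,103,7,193,16,347,571],[70,2,75,103,7,203,26,430,645],[70,2,73,103,5,138,24,446,757],[70,2,75,103,5,128,18,258,585],[70,2,75,103,7,203,26,428,645],[70,2,75,103,7,203,26,485,645],[70,2,73,103,7,193,16,274,571],[70,2,73,103,7,193,16,272,571]] [(0,0),(0,1),(0,2),(0,3),(0,4),(1,1),(1,2),(1,3),(1,4),(2,2),(2,3),(2,4),(3,3),(3,4),(4,4),(5,0),(5,1),(6,2),(6,3),(6,4),(7,3),(7,4),(9,1),(10,3),(10,4),(13,4),(14,0),(14,1),(18,3),(18,4),(22,1)] 5 64 = true := by decide +kernel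
theorem c20003505 : chkStab M20072 [70,2,75,103,5,128,16,256,512] [70] [1] [2,73] [([70,2,73,103,5,138,26,444,702],[1,2,6,8,16,55,87,253,383]),([70,2,73,103,7,193,18,274,624],[1,2,6,8,18,49,66,194,344]),([70,2,75,103,5,128,18,331,585],[1,2,4,8,16,32,66,132,262]),([70,2,75,103,5,128,91,258,587],[1,2,4,8,16,32,70,130,260]),([70,2,75,103,5,128,89,331,514],[1,2,4,8,16,32,68,132,258])] [[70,2,75,103,5,128,16,256,512],[70,2,73,103,5,138,26,444,702],[70,2,73,103,7,193,18,274,624],[70,2,75,103,5,128,18,331,585],[70,2,75,103,5,128,91,258,587],[70,2,75,103,5,128,89,331,514],[70,2,75,103,7,203,24,430,716],[70,2,73,103,5,138,24,501,757],[70,2,73,103,5,138,81,446,759],[70,2,73,103,5,138,83,501,700],[70,2,73,103,7,193,16,345,571],[70,2,73,103,7,193,91,272,569],[70,2,73,103,7,193,89,345,626],[70,2,75,103,5,128,89,329,514],[70,2,75,103,5,128,91,256,587],[70,2,73,103,5,138,83,503,700],[70,2,73,103,7,193,89,347,626],[70,2,75,103,5,128,18,329,585],[70,2,73,103,5,138,81,444,759],[70,2,73,103,7,193,91,274,569],[70,2,75,103,7,203,26,487,645],[70,2,75,103,7,203,81,428,647],[70,2,75,103,7,203,83,487,718],[70,2,75,103,7,203,83,485,718],[70,2,73,103,5,138,24,503,757],[70,2,75,103,7,203,81,430,647],[70,2,73,103,7,193,16,347,571],[70,2,75,103,5,128,16,258,512],[70,2,73,103,5,138,26,446,702],[70,2,73,103,7,193,18,272,624],[70,2,75,103,7,203,26,485,645],[70,2,75,103,7,203,24,428,716]]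 [(0,0),(0,1),(0,2),(0,3),(0,4),(1,1),(1,2),(1,3),(1,4),(2,2),(2,3),(2,4),(3,3),(3,4),(4,0),(4,1),(4,4),(5,0),(5,1),(6,2),(6,3),(6,4),(8,1),(8,4),(9,1),(11,4),(13,4),(15,4),(16,4),(21,4),(23,4)] 5 64 = true := by decide +kernel
theorem c20003537 : chkStab M20072 [70,2,75,103,5,128,16,256,512] [70] [1] [2,73] [([70,2,73,103,5,138,26,444,702],[1,2,6,8,16,55,87,253,383]),([70,2,73,103,7,193,18,274,624],[1,2,6,8,18,49,66,194,344]),([70,2,75,103,5,128,18,331,585],[1,2,4,8,16,32,66,132,262]),([70,2,75,103,5,128,89,329,514],[1,2,4,8,16,32,68,134,258]),([70,2,75,103,5,128,89,329,512],[1,2,4,8,16,32,68,134,256])] [[70,2,75,103,5,128,16,256,512],[70,2,73,103,5,138,26,444,702],[70,2,73,103,7,193,18,274,624],[70,2,75,103,5,128,18,331,585],[70,2,75,103,5,128,89,329,514],[70,2,75,103,5,128,89,329,512],[70,2,75,103,7,203,24,430,716],[70,2,73,103,5,138,24,501,757],[70,2,73,103,5,138,83,503,700],[70,2,73,103,5,138,83,503,7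02],[70,2,73,103,7,193,16,345,571],[70,2,73,103,7,193,89,347,626],[70,2,73,103,7,193,89,347,624],[70,2,75,103,5,128,91,258,587],[70,2,75,103,5,128,91,258,585],[70,2,73,103,5,138,81,446,759],[70,2,73,103,7,193,91,272,569],[70,2,75,103,5,128,16,256,514],[70,2,73,103,5,138,81,446,757],[70,2,73,103,7,193,91,272,571],[70,2,75,103,7,203,26,487,645],[70,2,75,103,7,203,83,485,718],[70,2,75,103,7,203,83,485,716],[70,2,75,103,7,203,81,428,647],[70,2,73,103,5,138,26,444,700],[70,2,75,103,7,203,81,428,645],[70,2,73,103,7,193,18,274,626],[70,2,75,103,5,128,18,331,587],[70,2,73,103,5,138,24,501,759],[70,2,73,103,7,193,16,345,569],[70,2,75,103,7,203,24,430,718],[70,2,75,103,7,203,26,487,647]] [(0,0),(0,1),(0,2),(0,3),(0,4),(1,1),(1,2),(1,3),(1,4),(2,2),(2,3),(2,4),(3,3),(3,4),(4,0),(4,1),(4,4),(5,0),(5,1),(6,2),(6,3),(6,4),(8,1),(8,4),(9,1),(11,4),(13,4),(15,4),(16,4),(21,4),(23,4)] 5 64 = true := by decide +kernel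
theorem c20003569 : chkStab M20072 [70,2,75,103,5,128,16,256,512] [70] [1] [2,73] [([70,2,73,103,5,138,26,444,702],[1,2,6,8,16,55,87,253,383]),([70,2,73,103,7,193,18,274,624],[1,2,6,8,18,49,66,194,344]),([70,2,75,103,5,128,18,331,585],[1,2,4,8,16,32,66,132,262]),([70,2,75,103,5,128,16,256,514],[1,2,4,8,16,32,64,128,258]),([70,2,73,103,5,138,81,444,700],[1,2,6,8,16,55,83,253,381])] [[70,2,75,103,5,128,16,256,512],[70,2,73,103,5,138,26,444,702],[70,2,73,103,7,193,18,274,624],[70,2,75,103,5,128,18,331,585],[70,2,75,103,5,128,16,256,514],[70,2,73,103,5,138,81,444,700],[70,2,75,103,7,203,24,430,716],[70,2,73,103,5,138,24,501,757],[70,2,73,103,5,138,26,444,700],[70,2,75,103,5,128,91,256,514],[70,2,73,103,7,193,16,345,571],[70,2,73,103,7,193,18,274,626],[70,2,75,103,7,203,81,430,718],[70,2,75,103,5,128,18,331,587],[70,2,73,103,5,138,83,501,759],[70,2,73,103,5,138,81,444,702],[70,2,75,103,5,128,89,331,585],[70,2,75,103,7,203,83,487,645],[70,2,75,103,7,203,26,487,645],[70,2,75,103,7,203,24,430,718],[70,2,73,103,7,193,91,274,626],[70,2,73,103,5,138,24,501,759],[70,2,75,103,5,128,89,331,587],[70,2,75,103,5,128,91,256,512],[70,2,73,103,5,138,83,501,757],[70,2,73,103,7,193,89,345,571],[70,2,73,103,7,193,16,345,569],[70,2,75,103,7,203,83,487,647],[70,2,75,103,7,203,81,430,716],[70,2,75,103,7,203,26,487,647],[70,2,73,103,7,193,89,345,569],[70,2,73,103,7,193,91,274,624]]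 [(0,0),(0,1),(0,2),(0,3),(0,4),(1,1),(1,2),(1,3),(1,4),(2,2),(2,3),(2,4),(3,3),(3,4),(4,4),(5,0),(5,1),(6,2),(6,3),(6,4),(7,3),(7,4),(8,4),(9,0),(9,1),(10,3),(10,4),(11,4),(18,3),(18,4),(19,4)] 5 64 = true := by decide +kernel
theorem c20003587 : chkStab M20072 [70,2,75,103,5,128,16,256,512] [70] [1] [2,73] [([70,2,73,103,5,138,26,444,702],[1,2,6,8,16,55,87,253,383]),([70,2,73,103,7,193,18,274,624],[1,2,6,8,18,49,66,194,344]),([70,2,75,103,5,128,18,331,585],[1,2,4,8,16,32,66,132,262]),([70,2,75,103,5,128,16,256,514],[1,2,4,8,16,32,64,128,258]),([70,2,73,103,5,138,81,444,700],[1,2,6,8,16,55,83,253,381])] [[70,2,75,103,5,128,16,256,512],[70,2,73,103,5,138,26,444,702],[70,2,73,103,7,193,18,274,624],[70,2,75,103,5,128,18,331,585],[70,2,75,103,5,128,16,256,514],[70,2,73,103,5,138,81,444,700],[70,2,75,103,7,203,24,430,716],[70,2,73,103,5,138,24,501,757],[70,2,73,103,5,138,26,444,700],[70,2,75,103,5,128,91,256,5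14],[70,2,73,103,7,193,16,345,571],[70,2,73,103,7,193,18,274,626],[70,2,75,103,7,203,81,430,718],[70,2,75,103,5,128,18,331,587],[70,2,73,103,5,138,83,501,759],[70,2,73,103,5,138,81,444,702],[70,2,75,103,5,128,89,331,585],[70,2,75,103,7,203,83,487,645],[70,2,75,103,7,203,26,487,645],[70,2,75,103,7,203,24,430,718],[70,2,73,103,7,193,91,274,626],[70,2,73,103,5,138,24,501,759],[70,2,75,103,5,128,89,331,587],[70,2,75,103,5,128,91,256,512],[70,2,73,103,5,138,83,501,757],[70,2,73,103,7,193,89,345,571],[70,2,73,103,7,193,16,345,569],[70,2,75,103,7,203,83,487,647],[70,2,75,103,7,203,81,430,716],[70,2,75,103,7,203,26,487,647],[70,2,73,103,7,193,89,345,569],[70,2,73,103,7,193,91,274,624]] [(0,0),(0,1),(0,2),(0,3),(0,4),(1,1),(1,2),(1,3),(1,4),(2,2),(2,3),(2,4),(3,3),(3,4),(4,4),(5,0),(5,1),(6,2),(6,3),(6,4),(7,3),(7,4),(8,4),(9,0),(9,1),(10,3),(10,4),(11,4),(18,3),(18,4),(19,4)] 5 64 = true := by decide +kernel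
theorem c20003607 : chkStab M20072 [70,2,75,103,5,128,16,256,512] [70] [1] [2,73] [([70,2,73,103,5,138,26,444,702],[1,2,6,8,16,55,87,253,383]),([70,2,73,103,7,193,18,274,624],[1,2,6,8,18,49,66,194,344]),([70,2,75,103,5,128,18,331,585],[1,2,4,8,16,32,66,132,262]),([70,2,75,103,5,128,89,329,514],[1,2,4,8,16,32,68,134,258]),([70,2,75,103,5,128,89,329,512],[1,2,4,8,16,32,68,134,256])] [[70,2,75,103,5,128,16,256,512],[70,2,73,103,5,138,26,444,702],[70,2,73,103,7,193,18,274,624],[70,2,75,103,5,128,18,331,585],[70,2,75,103,5,128,89,329,514],[70,2,75,103,5,128,89,329,512],[70,2,75,103,7,203,24,430,716],[70,2,73,103,5,138,24,501,757],[70,2,73,103,5,138,83,503,700],[70,2,73,103,5,138,83,503,702],[70,2,73,103,7,193,16,345,571],[70,2,73,103,7,193,89,347,626],[70,2,73,103,7,193,89,347,624],[70,2,75,103,5,128,91,258,587],[70,2,75,103,5,128,91,258,585],[70,2,73,103,5,138,81,446,759],[70,2,73,103,7,193,91,272,569],[70,2,75,103,5,128,16,256,514],[70,2,73,103,5,138,81,446,757],[70,2,73,103,7,193,91,272,571],[70,2,75,103,7,203,26,487,645],[70,2,75,103,7,203,83,485,718],[70,2,75,103,7,203,83,485,716],[70,2,75,103,7,203,81,428,647],[70,2,73,103,5,138,26,444,700],[70,2,75,103,7,203,81,428,645],[70,2,73,103,7,193,18,274,626],[70,2,75,103,5,128,18,331,587],[70,2,73,103,5,138,24,501,759],[70,2,73,103,7,193,16,345,569],[70,2,75,103,7,203,24,430,718],[70,2,75,103,7,203,26,487,647]]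 [(0,0),(0,1),(0,2),(0,3),(0,4),(1,1),(1,2),(1,3),(1,4),(2,2),(2,3),(2,4),(3,3),(3,4),(4,0),(4,1),(4,4),(5,0),(5,1),(6,2),(6,3),(6,4),(8,1),(8,4),(9,1),(11,4),(13,4),(15,4),(16,4),(21,4),(23,4)] 5 64 = true := by decide +kernel
theorem c20003627 : chkStab M20072 [70,2,75,103,5,128,16,256,512] [70] [1] [2,73] [([70,2,73,103,5,138,26,444,702],[1,2,6,8,16,55,87,253,383]),([70,2,73,103,7,193,18,274,624],[1,2,6,8,18,49,66,194,344]),([70,2,75,103,5,128,18,331,585],[1,2,4,8,16,32,66,132,262]),([70,2,75,103,5,128,91,258,587],[1,2,4,8,16,32,70,130,260]),([70,2,75,103,5,128,89,331,514],[1,2,4,8,16,32,68,132,258])] [[70,2,75,103,5,128,16,256,512],[70,2,73,103,5,138,26,444,702],[70,2,73,103,7,193,18,274,624],[70,2,75,103,5,128,18,331,585],[70,2,75,103,5,128,91,258,587],[70,2,75,103,5,128,89,331,514],[70,2,75,103,7,203,24,430,716],[70,2,73,103,5,138,24,501,757],[70,2,73,103,5,138,81,446,759],[70,2,73,103,5,138,83,501,7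00],[70,2,73,103,7,193,16,345,571],[70,2,73,103,7,193,91,272,569],[70,2,73,103,7,193,89,345,626],[70,2,75,103,5,128,89,329,514],[70,2,75,103,5,128,91,256,587],[70,2,73,103,5,138,83,503,700],[70,2,73,103,7,193,89,347,626],[70,2,75,103,5,128,18,329,585],[70,2,73,103,5,138,81,444,759],[70,2,73,103,7,193,91,274,569],[70,2,75,103,7,203,26,487,645],[70,2,75,103,7,203,81,428,647],[70,2,75,103,7,203,83,487,718],[70,2,75,103,7,203,83,485,718],[70,2,73,103,5,138,24,503,757],[70,2,75,103,7,203,81,430,647],[70,2,73,103,7,193,16,347,571],[70,2,75,103,5,128,16,258,512],[70,2,73,103,5,138,26,446,702],[70,2,73,103,7,193,18,272,624],[70,2,75,103,7,203,26,485,645],[70,2,75,103,7,203,24,428,716]] [(0,0),(0,1),(0,2),(0,3),(0,4),(1,1),(1,2),(1,3),(1,4),(2,2),(2,3),(2,4),(3,3),(3,4),(4,0),(4,1),(4,4),(5,0),(5,1),(6,2),(6,3),(6,4),(8,1),(8,4),(9,1),(11,4),(13,4),(15,4),(16,4),(21,4),(23,4)] 5 64 = true := by decide +kernel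
theorem c20002882 : chkFrat M20072 E20000005 [1,2,4,32,8,64] [70,2,75,103,77,5] [1,2,4,32,8,64,144,784] [1,2,4,32,8,64,144,784] [(68,[1,2,4,8,16,34]),(0,[1,2,4,8,16,32]),(73,[1,2,4,8,18,32]),(68,[1,2,4,8,16,34]),(77,[1,2,6,8,16,32]),(5,[3,2,4,10,16,32]),(144,[34,2,4,41,16,1]),(784,[8,2,4,1,16,41])] [⟨0,0,[],0,0,false⟩,⟨0,0,[],0,0,false⟩,⟨0,0,[],0,0,false⟩,⟨0,0,[],0,0,false⟩,⟨0,0,[],0,0,false⟩,⟨2,0,[⟨0,1,32,0⟩,⟨0,4,4,0⟩,⟨0,16,16,0⟩,⟨0,32,3,0⟩,⟨1,0,35,0⟩],1,0,false⟩,⟨2,0,[⟨0,1,8,0⟩,⟨0,4,4,0⟩,⟨0,16,16,0⟩,⟨0,32,41,0⟩,⟨0,64,106,0⟩],0,0,false⟩] [([1,2,4,32,8,64,144,784],[70,2,75,103,77,5,144,784]),([1,2,4,32,8,64,144,784],[70,2,75,103,77,5,144,786])] = true := by decide +kernel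
theorem c20003160 : chkCF M20072 (37,Z20003006) [1,5] = true := by decide +kernel
theorem c20003195 : chkCF M20072 (49,Z20003006) [1,5] = true := by decide +kernel
theorem c20003223 : chkCF M20072 (292,Z20003006) [1,5] = true := by decide +kernel
theorem c20003320 : chkCF M20072 (2,Z20003308) [33,37,49,149,292,520,536,785,789,797,904,912] = true := by decide +kernel
theorem c20002994 : chkCF M20072 (1,Z20002941) [2,4,33,37,49,73,149,292,520,536,785,789,797,904,912] = true := by decide +kernel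
theorem c20003036 : chkCF M20072 (49,Z20003006) [1,5] = true := by decide +kernel
theorem c20003474 : chkRb M20072 [1,2,4,8,16,32,64,128,256,514] D20072 = true := by decide +kernel
theorem c20003266 : chkDer M20072 [([797,830,799,854,8,16,133,261],[394,1008,392,451,435,271,871,263])] [(0,4,[]),(2,0,[93,138,88,81,169,198,132,181]),(0,355,[]),(1,0,[65,252,68,72,195,165,254,214]),(0,1,[]),(2,0,[249,68,252,245,195,160,49,176]),(0,404,[]),(1,0,[143,88,138,134,169,195,36,218]),(0,1,[]),(0,4,[]),(0,1,[]),(2,0,[138,93,143,134,172,99,136,74]),(0,355,[]),(1,0,[252,65,249,245,198,111,247,86]),(0,1,[]),(2,0,[68,249,65,72,198,106,61,250]),(0,404,[]),(1,0,[88,143,93,81,172,102,45,128])] ([797,830,799,854,8,16,133,261],[797,830,799,854,8,16,133,263]) = true := by decide +kernel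
theorem c20003275 : chkDer M20072 [([797,830,799,854,8,16,133,261],[618,538,616,545,89,10,459,263])] [(0,4,[]),(2,0,[167,157,162,171,32,60,236,70]),(0,1,[]),(1,0,[157,167,152,148,32,57,192,95]),(0,1,[]),(0,4,[]),(0,1,[]),(2,0,[152,162,157,148,37,28,224,185]),(0,1,[]),(1,0,[162,152,167,171,37,25,201,128])] ([797,830,799,854,8,16,133,261],[797,830,799,854,8,16,133,263]) = true := by decide +kernel
theorem c20003278 : chkDer M20072 [([789,822,791,862,4,8,16,129,257],[822,104,820,893,249,245,488,688,93]),([1,2,8,16,42,64,132,260,512],[1,2,16,24,42,88,387,173,684])] [(0,4,[]),(1,0,[36,39,33,45,37,101,181,458]),(0,64,[]),(1,1,[467,106,465,500,88,133,358,119]),(1,0,[158,389,155,146,495,211,75,387])] ([797,830,799,854,8,16,133,261],[616,593,618,547,16,8,457,261]) = true := by decide +kernel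
theorem c20003519 : chkStK M20072 6 [1,2,4,8,16,32,64,128,256,514] 0x21020000000000000000000000000000000000000000000000000000000000000000000000000000000000000000000001000 ([1,2,4],[1,4,6]) ([1,2,8,16],[1,2,16,24]) = true := by decide +kernel
theorem c20003264 : chkDer M20072 [([789,822,791,862,4,8,16,129,257],[822,104,820,893,249,245,488,690,20]),([1,2,8,16,42,64,132,260,512],[1,2,16,24,42,88,387,173,684])] [(0,375,[]),(1,0,[45,39,40,33,41,73,144,272]),(1,1,[448,75,450,487,92,211,293,82]),(1,0,[184,460,189,180,426,368,487,399])] ([797,830,799,854,8,16,133,261],[394,1008,392,451,435,271,871,263]) = true := by decide +kernel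
theorem c20003564 : chkDer M20072 [([70,2,75,103,5,128,16,256,512],[13,75,73,44,128,138,702,378,81])] [(1,0,[1,2,4,8,16,32,64,128,256]),(0,4,[]),(2,0,[7,4,2,14,32,16,350,410,310]),(0,4,[]),(1,0,[5,6,2,12,55,16,306,399,344])] ([70,2,75,103,5,128,16,256,512],[70,2,75,103,5,128,16,256,514]) = true := by decide +kernel
theorem c20003508 : chkDer M20072 [([70,2,75,103,5,128,16,256,512],[13,75,73,44,128,138,702,307,83])] [(1,0,[1,2,4,8,16,32,64,128,256]),(0,4,[]),(2,0,[7,4,2,14,32,16,344,410,310]),(0,4,[]),(1,0,[5,6,2,12,55,16,310,399,344])] ([70,2,75,103,5,128,16,256,512],[70,2,75,103,5,128,89,329,512]) = true := by decide +kernel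
theorem c20003534 : chkDer M20072 [([70,2,75,103,5,128,16,256,512],[13,75,73,44,128,138,702,376,83])] [(1,0,[1,2,4,8,16,32,64,128,256]),(0,4,[]),(2,0,[7,4,2,14,32,16,344,412,310]),(0,4,[]),(1,0,[5,6,2,12,55,16,310,395,344])] ([70,2,75,103,5,128,16,256,512],[70,2,75,103,5,128,89,329,512]) = true := by decide +kernel
theorem c20003624 : chkDer M20072 [([70,2,75,103,5,128,16,256,512],[13,75,73,44,128,138,700,378,83])] [(1,0,[1,2,4,8,16,32,64,128,256]),(0,4,[]),(2,0,[7,4,2,14,32,16,344,412,310]),(0,4,[]),(1,0,[5,6,2,12,55,16,310,395,344])] ([70,2,75,103,5,128,16,256,512],[70,2,75,103,5,128,89,331,514]) = true := by decide +kernel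
theorem c20003069 : chkDer M20072 [([70,2,75,103,5,128,16,256,512],[13,75,73,44,128,138,702,307,26])] [(1,0,[1,2,4,8,16,32,64,128,256]),(0,4,[]),(2,0,[7,4,2,14,32,16,348,414,304]),(0,4,[]),(1,0,[5,6,2,12,55,16,304,393,348])] ([70,2,75,103,5,128,16,256,512],[70,2,75,103,5,128,16,258,512]) = true := by decide +kernel
theorem c20003582 : chkDer M20072 [([70,2,75,103,5,128,16,256,512],[13,75,73,44,128,138,700,305,26])] [(1,0,[1,2,4,8,16,32,64,128,256]),(0,4,[]),(2,0,[7,4,2,14,32,16,348,414,304]),(0,4,[]),(1,0,[5,6,2,12,55,16,304,393,348])] ([70,2,75,103,5,128,16,256,512],[70,2,75,103,5,128,16,256,514]) = true := by decide +kernel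
theorem c20003604 : chkDer M20072 [([70,2,75,103,5,128,16,256,512],[13,75,73,44,128,138,700,307,24])] [(1,0,[1,2,4,8,16,32,64,128,256]),(0,4,[]),(2,0,[7,4,2,14,32,16,346,408,304]),(0,4,[]),(1,0,[5,6,2,12,55,16,308,397,348])] ([70,2,75,103,5,128,16,256,512],[70,2,75,103,5,128,89,329,512]) = true := by decide +kernel
theorem c20003532 : chkDer M20072 [([70,2,75,103,5,128,16,256,512],[13,75,73,44,128,138,702,376,83])] [(1,0,[1,2,4,8,16,32,64,128,256]),(1,0,[7,4,6,14,32,55,383,207,81]),(1,0,[5,6,2,12,55,16,310,395,350])] ([70,2,75,103,5,128,16,256,512],[70,2,75,103,5,128,89,329,514]) = true := by decide +kernel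
theorem c20003558 : chkDer M20072 [([70,2,75,103,5,128,16,256,512],[13,75,73,44,128,138,702,378,83])] [(1,0,[1,2,4,8,16,32,64,128,256]),(1,0,[7,4,6,14,32,55,383,205,81]),(1,0,[5,6,2,12,55,16,310,397,350])] ([70,2,75,103,5,128,16,256,512],[70,2,75,103,5,128,89,329,514]) = true := by decide +kernel
theorem c20003570 : chkDer M20072 [([70,2,75,103,5,128,16,256,512],[13,75,73,44,128,138,702,378,24])] [(1,0,[1,2,4,8,16,32,64,128,256]),(1,0,[7,4,6,14,32,55,383,205,85]),(1,0,[5,6,2,12,55,16,306,397,344])] ([70,2,75,103,5,128,16,256,512],[70,2,75,103,5,128,91,258,587]) = true := by decide +kernel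
theorem c20003500 : chkDer M20072 [([70,2,75,103,5,128,16,256,512],[13,75,73,44,128,138,702,305,24])] [(1,0,[1,2,4,8,16,32,64,128,256]),(1,0,[7,4,6,14,32,55,383,203,85]),(1,0,[5,6,2,12,55,16,306,393,344])] ([70,2,75,103,5,128,16,256,512],[70,2,75,103,5,128,91,258,587]) = true := by decide +kernel
theorem c20003084 : chkBig M20072 6 2 [1,2,4,8,16,32,64] = true := by decide +kernel
theorem c20002939 : chkBig M20072 6 33 [1,2,4,8,32,64,128] = true := by decide +kernel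
theorem c20003411 : chkDer M20072 [([1,2,4,32,8,64,144,784],[70,2,75,103,77,5,144,784])] [(0,901,[]),(1,0,[49,109,78,4,225,201]),(0,256,[]),(1,0,[88,109,127,51,203,227]),(0,512,[])] ([73,182,247,4,992,896],[4,182,69,251,992,896]) = true := by decide +kernel
theorem c20003555 : chkDer M20072 [([70,2,75,103,5,128,16,256,512],[13,75,73,44,128,138,702,376,24])] [(2,0,[5,6,2,12,55,16,310,397,348]),(2,0,[7,4,6,14,32,55,381,203,87])] ([70,2,75,103,5,128,16,256,514],[13,75,73,44,128,138,700,305,26]) = true := by decide +kernel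
theorem c20003650 : chkDer M20072 [([1,2,8,16,42,64,132,260,512],[1,2,16,24,42,88,387,173,645])] [(1,0,[1,2,4,8,16,32,64,128,256]),(1,0,[1,2,8,12,16,44,199,81,321]),(1,0,[1,2,12,4,16,42,147,214,422])] ([1,2,8,16,42,64,132,260,512],[1,2,8,16,42,64,132,260,555]) = true := by decide +kernel
theorem c20003441 : chkDer M20072 [([797,830,799,854,8,16,133,261,4],[830,104,828,885,255,504,743,425,4]),([1,2,4,32,8,64,144,784],[70,2,75,103,77,5,144,784]),([789,822,791,862,4,8,16,129,257],[822,104,820,893,973,188,417,388,867])] [(0,256,[]),(1,0,[10,15,3]),(1,1,[151,149,166]),(1,2,[56,61,8]),(2,1,[51,49,175]),(1,0,[9,12,14])] ([33,35,106],[75,73,33]) = true := by decide +kernel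
theorem c20003058 : chkDer M20072 [([1,2,4,32,8,64],[7,2,4,38,77,68]),([797,830,799,854,8,16,133,261,4],[885,104,887,830,255,433,686,480,816]),([1,2,4,32,8,64,144,784],[70,2,75,103,77,5,144,784]),([1,2,4,32,8,64,144],[70,2,75,103,77,5,144])] [(0,256,[]),(1,0,[58,56,9]),(2,1,[262,259,14]),(2,2,[31,29,136]),(2,1,[262,259,261]),(1,3,[15,13,6])] ([33,35,106],[104,106,73]) = true := by decide +kernel
theorem c20003470 : chkDer M20072 [([70,2,75,103,5,128,16,256,512],[13,75,73,44,128,138,700,376,81])] [(1,0,[1,2,4,8,16,32,64,128,256]),(0,4,[]),(1,0,[5,6,4,12,55,32,258,163,70])] ([70,2,75,103,5,128,16,256,512],[70,2,73,103,5,138,26,501,702]) = true := by decide +kernel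
theorem c20003255 : chkDer M20072 [([1,2,4,32,8,64],[7,2,4,38,77,68]),([789,822,791,862,4,8,16,129,257],[822,104,820,893,145,188,488,659,55]),([1,2,4,32,8,64,144,784],[70,2,75,103,77,5,144,784]),([797,830,799,854,8,16,133,261,4],[830,104,828,885,255,504,743,425,4])] [(0,256,[]),(1,0,[58,56,9]),(2,1,[53,48,11]),(2,2,[49,51,175]),(1,3,[12,9,14])] ([33,35,106],[73,75,33]) = true := by decide +kernel
theorem c20003496 : chkDer M20072 [([70,2,75,103,5,128,16,256,512],[13,75,73,44,128,138,702,305,81])] [(1,0,[1,2,4,8,16,32,64,128,256]),(0,4,[]),(1,0,[5,6,4,12,55,32,256,165,70])] ([70,2,75,103,5,128,16,256,512],[70,2,73,103,5,138,81,444,700]) = true := by decide +kernel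
theorem c20003071 : chkDer M20072 [([70,2,75,103,5,128,16,256,512],[13,75,73,44,128,138,702,307,26])] [(1,0,[1,2,4,8,16,32,64,128,256]),(0,4,[]),(1,0,[5,6,4,12,55,32,256,167,64])] ([70,2,75,103,5,128,16,256,512],[70,2,73,103,5,138,26,501,702]) = true := by decide +kernel
theorem c20003612 : chkDer M20072 [([70,2,75,103,5,128,16,256,512],[13,75,73,44,128,138,700,376,26])] [(1,0,[1,2,4,8,16,32,64,128,256]),(0,4,[]),(1,0,[5,6,4,12,55,32,258,163,64])] ([70,2,75,103,5,128,16,256,512],[70,2,73,103,5,138,81,501,700]) = true := by decide +kernel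
theorem c20003426 : chkDer M20072 [([1,2,4,32,8,64],[7,2,4,38,77,68]),([789,822,791,862,4,8,16,129,257],[822,104,820,893,933,245,417,421,777]),([1,2,4,32,8,64,144,784],[70,2,75,103,77,5,144,784]),([797,830,799,854,8,16,133,261,4],[830,104,828,885,255,504,743,425,4])] [(0,256,[]),(1,0,[58,56,9]),(1,1,[54,51,3]),(2,2,[49,51,166]),(2,3,[12,9,3])] ([33,35,106],[73,75,33]) = true := by decide +kernel
theorem c20003630 : chkDer M20072 [([70,2,75,103,5,128,16,256,512],[13,75,73,44,128,138,700,378,26])] [(1,0,[1,2,4,8,16,32,64,128,256]),(0,4,[]),(1,0,[5,6,4,12,55,32,258,161,64])] ([70,2,75,103,5,128,16,256,512],[70,2,73,103,5,138,81,444,700]) = true := by decide +kernel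
theorem c20003136 : chkDer M20072 [([70,2,75,103,5,128,16,256,512],[13,75,73,44,128,138,702,378,26]),([1,2,4,32,8,64,144,784],[70,2,75,103,77,5,144,784]),([1,2,8,16,42,64,132,260,512],[1,2,16,24,42,88,387,173,684]),([1,2,8,16,42],[1,2,16,24,42])] [(0,4,[]),(2,0,[470]),(2,1,[166]),(1,2,[430]),(2,0,[94]),(2,3,[21])] ([912],[33]) = true := by decide +kernel
theorem c20003132 : chkDer M20072 [([70,2,75,103,5,128,16,256,512],[13,75,73,44,128,138,702,378,26]),([1,2,8,16,42,64,132,260],[1,2,16,24,42,88,387,173]),([1,2,4,32,8,64,144],[70,2,75,103,77,5,144]),([1,2,4,32],[1,4,6,32])] [(1,0,[437]),(1,1,[150]),(1,2,[87]),(0,256,[]),(2,3,[11]),(0,16,[])] ([904],[33]) = true := by decide +kernel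
theorem c20003446 : chkTr M20072 [1,2,4,8,16,32,64,128,256,514] ([1,2,4,32],[1,4,6,32]) ([1,2,4,32],[1,4,6,32]) = true := by decide +kernel
theorem c20003449 : chkTr M20072 [1,2,4,8,16,32,64,128,256,514] ([1,2,4,32,8,64],[7,2,4,38,77,68]) ([1,2,4,32,8,64],[7,2,4,38,77,68]) = true := by decide +kernel
theorem c20003452 : chkTr M20072 [1,2,4,8,16,32,64,128,256,514] ([1,2,8,16,42,64,132,260],[1,2,16,24,42,88,387,173]) ([1,2,8,16,42,64,132,260],[1,2,16,24,42,88,387,173]) = true := by decide +kernel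
theorem c20003461 : chkTr M20072 [1,2,4,8,16,32,64,128,256,514] ([70,2,75,103,5,128,16,256,512],[13,75,73,44,128,138,702,305,26]) ([70,2,75,103,5,128,16,256,514],[13,75,73,44,128,138,700,305,26]) = true := by decide +kernel
theorem c20003478 : chkTr M20072 [1,2,4,8,16,32,64,128,256,514] ([1,2,8,16,42,64],[1,2,16,24,42,88]) ([1,2,8,16,42,64],[1,2,16,24,42,88]) = true := by decide +kernel
theorem c20003481 : chkTr M20072 [1,2,4,8,16,32,64,128,256,514] ([70,2,75,103,5,128],[70,75,73,103,130,138]) ([70,2,75,103,5,128],[70,75,73,103,130,138]) = true := by decide +kernel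
theorem c20003484 : chkTr M20072 [1,2,4,8,16,32,64,128,256,514] ([1,2,8,16,42,64,132,260,512],[1,2,16,24,42,88,387,173,684]) ([1,2,8,16,42,64,132,260,514],[1,2,16,24,42,88,387,173,686]) = true := by decide +kernel
theorem c20003521 : chkTr M20072 [1,2,4,8,16,32,64,128,256,514] ([1,2,8,16,42],[1,2,16,24,42]) ([1,2,8,16,42],[1,2,16,24,42]) = true := by decide +kernel
theorem c20003524 : chkTr M20072 [1,2,4,8,16,32,64,128,256,514] ([1,2,4,32,8,64,144],[70,2,75,103,77,5,144]) ([1,2,4,32,8,64,144],[70,2,75,103,77,5,144]) = true := by decide +kernel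
theorem c20003527 : chkTr M20072 [1,2,4,8,16,32,64,128,256,514] ([1,2,4,32,8,64,144,784],[70,2,75,103,77,5,144,784]) ([1,2,4,32,8,64,144,786],[70,2,75,103,77,5,144,786]) = true := by decide +kernel
theorem c20003546 : chkTr M20072 [1,2,4,8,16,32,64,128,256,514] ([1,2,4,32],[1,4,6,32]) ([1,2,4,32],[1,4,6,32]) = true := by decide +kernel
theorem c20003549 : chkTr M20072 [1,2,4,8,16,32,64,128,256,514] ([1,2,4,32,8,64],[7,2,4,38,77,68]) ([1,2,4,32,8,64],[7,2,4,38,77,68]) = true := by decide +kernel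
theorem c20003552 : chkTr M20072 [1,2,4,8,16,32,64,128,256,514] ([1,2,8,16,42,64,132,260],[1,2,16,24,42,88,387,173]) ([1,2,8,16,42,64,132,260],[1,2,16,24,42,88,387,173]) = true := by decide +kernel
theorem c20003557 : chkTr M20072 [1,2,4,8,16,32,64,128,256,514] ([70,2,75,103,5,128,16,256,512],[13,75,73,44,128,138,702,305,26]) ([70,2,75,103,5,128,16,256,514],[13,75,73,44,128,138,700,305,26]) = true := by decide +kernel
theorem c20003112 : chkDer M20072 [([70,2,75,103,5,128,16,256,512],[13,75,73,44,128,138,702,378,26]),([1,2,4,32,8,64,144],[70,2,75,103,77,5,144]),([1,2,4,32],[1,4,6,32])] [(1,0,[277]),(1,1,[87]),(0,256,[]),(2,2,[11]),(0,16,[])] ([520],[33]) = true := by decide +kernel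
theorem c20003128 : chkDer M20072 [([1,2,8,16,42,64,132,260,512],[1,2,16,24,42,88,387,173,684]),([70,2,75,103,5,128,16,256,512],[13,75,73,44,128,138,702,378,26]),([1,2,8,16,42],[1,2,16,24,42])] [(0,256,[]),(1,0,[441]),(1,1,[265]),(2,2,[21])] ([797],[33]) = true := by decide +kernel
theorem c20002962 : chkDer M20072 [([1,2,8,16,42,64,132,260],[1,2,16,24,42,88,387,173]),([1,2,4,32,8,64,144],[70,2,75,103,77,5,144]),([1,2,4,32],[1,4,6,32])] [(1,0,[148]),(1,1,[85]),(0,256,[]),(1,2,[15]),(0,16,[])] ([292],[33]) = true := by decide +kernel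
theorem c20002898 : chkScM M20072 [70,2,75,103] [70,2,75,103,5,128] [70,2,75,103,5,128,16,256,512] [1,2,4,8] [1,2,4,8] = true := by decide +kernel
theorem c20003485 : chkDer M20072 [([70,2,75,103,5,128,16,256,512],[13,75,73,44,128,138,700,378,81])] [(1,0,[1,2,4,8,16,32,64,128,258])] ([70,2,75,103,5,128,16,256,514],[13,75,73,44,128,138,700,378,26]) = true := by decide +kernel
theorem c20002970 : chkDer M20072 [([70,2,75,103,5,128,16,256,512],[13,75,73,44,128,138,702,305,26]),([1,2,8,16,42],[1,2,16,24,42])] [(2,0,[94]),(2,1,[21])] ([536],[33]) = true := by decide +kernel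
theorem c20003644 : chkDer M20072 [] [(0,8,[])] ([1,2,8,16,42,64,132,260,512],[1,2,8,18,42,64,132,335,587]) = true := by decide +kernel
theorem c20003063 : chkDer M20072 [] [(0,4,[])] ([70,2,75,103,5,128,16,256,512],[70,2,73,103,5,138,26,444,702]) = true := by decide +kernel
theorem c20002879 : chkDer M20072 [([1,2,4,32,8,64,144],[70,2,75,103,77,5,144])] [(1,0,[1,2,4,8,16,32])] ([1,2,4,32,8,64],[70,2,75,103,77,5]) = true := by decide +kernel
theorem c20003655 : chkDer M20072 [] [(0,4,[])] ([1,2,4,32,8,64,144,784],[1,2,4,32,10,64,144,784]) = true := by decide +kernel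
theorem c20003661 : chkDer M20072 [] [(0,32,[])] ([1,2,4,32,8,64,144,784],[1,2,4,32,8,66,209,819]) = true := by decide +kernel
theorem c20003392 : chkDer M20072 [([789,822,791,862,4,8,16,129,257],[822,104,820,893,249,245,488,688,95])] [(0,4,[]),(1,0,[490])] ([269],[16]) = true := by decide +kernel
theorem c20002950 : chkDer M20072 [([1,2,8,16,42],[1,2,16,24,42])] [(0,8,[]),(1,0,[29])] ([49],[33]) = true := by decide +kernel
theorem c20003396 : chkDer M20072 [([789,822,791,862,4,8,16,129,257],[822,104,820,893,249,245,488,688,95])] [(2,0,[58])] ([793],[100]) = true := by decide +kernel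
theorem c20003152 : chkDer M20072 [([1,2,4,32,8,64],[7,2,4,38,77,68])] [(0,8,[]),(1,0,[7])] ([5],[1]) = true := by decide +kernel
theorem c20003380 : chkDer M20072 [([1,2,4,32,8,64,144],[70,2,75,103,77,5,144])] [(2,0,[44])] ([41],[100]) = true := by decide +kernel
theorem c20003413 : chkDer M20072 [([1,2,4,32,8,64,144],[70,2,75,103,77,5,144])] [(0,64,[]),(1,0,[3])] ([1],[68]) = true := by decide +kernel
theorem c20003344 : chkDer M20072 [([70,2,75,103,5,128],[70,75,73,103,130,138])] [(2,0,[6])] ([2],[73]) = true := by decide +kernel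
theorem c20003326 : chkDer M20072 [([1,2,4],[1,4,6])] [(1,0,[2]),(0,256,[])] ([2],[251]) = true := by decide +kernel
theorem c20003348 : chkDer M20072 [([70,2,75,103,5,128],[70,75,73,103,130,138])] [(1,0,[2])] ([2],[75]) = true := by decide +kernel
theorem c20002942 : chkDer M20072 [([1,2,4],[1,4,6])] [(2,0,[2])] ([4],[2]) = true := by decide +kernel
theorem c20003189 : chkDer M20072 [] [(0,64,[])] ([797],[828]) = true := by decide +kernel
theorem c20003209 : chkDer M20072 [] [(0,128,[])] ([912],[945]) = true := by decide +kernel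
theorem c20003283 : chkDer M20072 [] [(0,16,[])] ([4],[14]) = true := by decide +kernel
theorem c20003352 : chkDer M20072 [] [(0,384,[])] ([1],[90]) = true := by decide +kernel
theorem c20003038 : chkDer M20072 [] [(0,8,[])] ([49],[51]) = true := by decide +kernel

end Cfsg.Lib.L33E
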