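import Cfsg.Agent.L33E.R1C1

set_option autoImplicit false
set_option maxRecDepth 100000
set_option linter.all false
set_option Elab.async false

namespace Cfsg.Lib.L33E

theorem c20003231 : chkFrat M20072 E20003229 [789,822,791,862] [822,104,820,893] [789,822,791,862,4,8,16,129,257] [789,822,791,862,4,8,16,129,257] [(0,[1,2,4,8]),(0,[1,2,4,8]),(0,[1,2,4,8]),(0,[1,2,4,8]),(145,[1,2,4,13]),(157,[4,7,1,13]),(384,[8,14,13,1]),(388,[8,11,13,4]),(20,[13,2,8,1])] [⟨0,0,[],0,2,false⟩,⟨0,0,[],0,0,false⟩,⟨0,0,[],0,0,false⟩,⟨4,0,[⟨4,0,0,0⟩,⟨4,1,0,1⟩,⟨0,8,13,0⟩],2,0,false⟩,⟨2,0,[⟨4,1,0,2⟩,⟨4,2,0,3⟩,⟨0,1,4,0⟩,⟨0,8,13,0⟩,⟨0,16,21,0⟩],2,0,false⟩,⟨2,0,[⟨4,3,0,4⟩,⟨4,6,0,5⟩,⟨0,1,8,0⟩,⟨0,2,14,0⟩,⟨0,16,53,0⟩],2,0,false⟩,⟨2,0,[⟨4,17,0,6⟩,⟨4,18,0,7⟩,⟨0,1,13,0⟩,⟨0,16,53,0⟩,⟨0,64,108,0⟩],0,0,false⟩,⟨2,0,[⟨4,17,0,8⟩,⟨4,19,0,9⟩,⟨0,1,8,0⟩,⟨0,16,202,0⟩,⟨0,32,44,0⟩],0,0,false⟩] [([789,822,791,862,4,8,16,129,257],[822,104,820,893,145,188,488,659,53])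,([789,822,791,862,4,8,16,129,257],[822,104,820,893,145,188,488,659,55]),([789,822,791,862,4,8,16,129,257],[822,104,820,893,145,188,488,657,124]),([789,822,791,862,4,8,16,129,257],[822,104,820,893,145,188,488,657,126]),([789,822,791,862,4,8,16,129,257],[822,104,820,893,249,245,488,690,20]),([789,822,791,862,4,8,16,129,257],[822,104,820,893,249,245,488,690,22]),([789,822,791,862,4,8,16,129,257],[822,104,820,893,249,245,488,688,93]),([789,822,791,862,4,8,16,129,257],[822,104,820,893,249,245,488,688,95]),([789,822,791,862,4,8,16,129,257],[822,104,820,893,933,245,417,423,832]),([789,822,791,862,4,8,16,129,257],[822,104,820,893,933,245,417,423,834]),([789,822,791,862,4,8,16,129,257],[822,104,820,893,933,245,417,421,777]),([789,822,791,862,4,8,16,129,257],[822,104,820,893,933,245,417,421,779]),([789,822,791,862,4,8,16,129,257],[822,104,820,893,973,188,417,390,808]),([789,822,791,862,4,8,16,129,257],[822,104,820,893,973,188,417,390,810]),([789,822,791,862,4,8,16,129,257],[822,104,820,893,973,188,417,388,865]),([789,822,791,862,4,8,16,129,257],[822,104,820,893,973,188,417,388,867])]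 = true := by decide +kernel
theorem c20003305 : chkExt2 M20072 E20003303 [2] [1,2,4,8,16,32,64,128,256,512] [] [4,33,37,49,73,149,292,520,536,785,789,797,904,912] [33,817,47,2] [] [⟨3,0,[⟨6,0,0,1⟩,⟨1,0,1,0⟩],1,2,false⟩,⟨4,0,[⟨6,0,0,0⟩,⟨4,0,0,0⟩,⟨4,1,0,1⟩],2,3,false⟩,⟨5,0,[⟨6,0,0,0⟩,⟨4,0,0,2⟩,⟨4,1,0,3⟩,⟨2,4,0,0⟩,⟨2,5,0,0⟩],0,0,false⟩] [2] = true := by decide +kernel
theorem c20003052 : chkFrat M20072 E20003050 [33,35,106] [104,106,73] [33,35,106,1,4,8,16,128,768] [33,35,106,1,4,8,16,128,768] [(0,[1,2,4]),(0,[1,2,4]),(0,[1,2,4]),(17,[1,2,7]),(17,[1,2,7]),(0,[1,2,4]),(1,[2,1,7]),(0,[1,2,4]),(1,[2,1,7])] [⟨0,0,[],0,0,false⟩,⟨0,0,[],0,2,false⟩,⟨3,0,[⟨4,0,0,0⟩,⟨0,4,7,0⟩],2,3,false⟩,⟨3,0,[⟨4,0,0,1⟩,⟨4,1,0,2⟩,⟨4,8,0,3⟩,⟨0,4,7,0⟩,⟨5,0,8,0⟩],3,0,false⟩,⟨5,0,[⟨4,12,0,4⟩,⟨5,0,8,0⟩],3,0,false⟩,⟨2,0,[⟨4,1,0,5⟩,⟨4,2,0,6⟩,⟨4,9,0,7⟩,⟨4,13,0,8⟩,⟨0,1,2,0⟩],3,0,false⟩] [] = true := by decide +kernel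
theorem c20003171 : chkFrat M20072 E20003054 [797,830,799,854,8,16,133,261] [830,104,828,885,255,504,743,425] [797,830,799,854,8,16,133,261,4] [797,830,799,854,8,16,133,261,4] [(828,[1,2,4,8,21,41,76,128]),(33,[1,2,4,8,21,44,76,137]),(828,[1,2,4,8,21,41,76,128]),(828,[1,2,4,8,21,41,76,128]),(180,[4,7,1,13,16,37,64,137]),(433,[8,14,13,1,21,32,73,137]),(684,[13,14,8,4,16,41,64,137]),(425,[1,11,4,8,25,41,73,128]),(4,[4,7,1,8,21,53,80,250])] [⟨0,0,[],0,0,false⟩,⟨0,0,[],0,0,false⟩,⟨0,0,[],0,0,false⟩,⟨0,0,[],0,0,false⟩,⟨0,0,[],0,0,false⟩,⟨0,0,[],0,0,false⟩,⟨0,0,[],0,0,false⟩,⟨2,0,[⟨4,0,0,0⟩,⟨4,3,0,1⟩,⟨0,1,4,0⟩,⟨0,8,8,0⟩,⟨0,16,21,0⟩,⟨0,32,53,0⟩],1,0,false⟩] [([797,830,799,854,8,16,133,261,4],[830,104,828,885,255,504,743,425,4])] = true := by decide +kernel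
theorem c20003163 : chkFrat M20072 E20003018 [797,830,799,854,8,16,133,261] [830,104,828,885,255,504,743,425] [797,830,799,854,8,16,133,261,4] [797,830,799,854,8,16,133,261,4] [(828,[1,2,4,8,21,41,76,128]),(33,[1,2,4,8,21,44,76,137]),(828,[1,2,4,8,21,41,76,128]),(828,[1,2,4,8,21,41,76,128]),(180,[4,7,1,13,16,37,64,137]),(433,[8,14,13,1,21,32,73,137]),(684,[13,14,8,4,16,41,64,137]),(425,[1,11,4,8,25,41,73,128]),(4,[4,7,1,8,21,53,80,250])] [⟨0,0,[],0,0,false⟩,⟨0,0,[],0,0,false⟩,⟨0,0,[],0,0,false⟩,⟨0,0,[],0,0,false⟩,⟨0,0,[],0,0,false⟩,⟨0,0,[],0,0,false⟩,⟨0,0,[],0,0,false⟩,⟨2,0,[⟨4,0,0,0⟩,⟨4,3,0,1⟩,⟨0,1,4,0⟩,⟨0,8,8,0⟩,⟨0,16,21,0⟩,⟨0,32,53,0⟩],1,0,false⟩] [([797,830,799,854,8,16,133,261,4],[830,104,828,885,255,504,743,425,4])] = true := by decide +kernel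
theorem c20003257 : chkFrat M20072 E20003252 [33,35,106] [73,75,33] [33,35,106,1,4,8,16,128,768] [33,35,106,1,4,8,16,128,768] [(0,[1,2,4]),(0,[1,2,4]),(0,[1,2,4]),(16,[1,2,7]),(16,[1,2,7]),(0,[1,2,4]),(17,[2,1,7]),(0,[1,2,4]),(17,[2,1,7])] [⟨0,0,[],0,0,false⟩,⟨0,0,[],0,2,false⟩,⟨3,0,[⟨6,0,0,1⟩,⟨4,0,0,0⟩,⟨0,4,7,0⟩],2,3,false⟩] [] = true := by decide +kernel
theorem c20003422 : chkFrat M20072 E20003252 [33,35,106] [73,75,33] [33,35,106,1,4,8,16,128,768] [33,35,106,1,4,8,16,128,768] [(0,[1,2,4]),(0,[1,2,4]),(0,[1,2,4]),(16,[1,2,7]),(16,[1,2,7]),(0,[1,2,4]),(17,[2,1,7]),(0,[1,2,4]),(17,[2,1,7])] [⟨0,0,[],0,0,false⟩,⟨0,0,[],0,2,false⟩,⟨3,0,[⟨6,0,0,1⟩,⟨4,0,0,0⟩,⟨0,4,7,0⟩],2,3,false⟩] [] = true := by decide +kernel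
theorem c20003431 : chkFrat M20072 E20003252 [33,35,106] [73,75,33] [33,35,106,1,4,8,16,128,768] [33,35,106,1,4,8,16,128,768] [(0,[1,2,4]),(0,[1,2,4]),(0,[1,2,4]),(16,[1,2,7]),(16,[1,2,7]),(0,[1,2,4]),(17,[2,1,7]),(0,[1,2,4]),(17,[2,1,7])] [⟨0,0,[],0,0,false⟩,⟨0,0,[],0,2,false⟩,⟨3,0,[⟨6,0,0,1⟩,⟨4,0,0,0⟩,⟨0,4,7,0⟩],2,3,false⟩] [] = true := by decide +kernel
theorem c20003440 : chkFrat M20072 E20003252 [33,35,106] [75,73,33] [33,35,106,1,4,8,16,128,768] [33,35,106,1,4,8,16,128,768] [(0,[1,2,4]),(0,[1,2,4]),(0,[1,2,4]),(16,[1,2,7]),(16,[1,2,7]),(0,[1,2,4]),(17,[2,1,7]),(0,[1,2,4]),(17,[2,1,7])] [⟨0,0,[],0,0,false⟩,⟨0,0,[],0,2,false⟩,⟨3,0,[⟨6,0,0,1⟩,⟨4,0,0,0⟩,⟨0,4,7,0⟩],2,3,false⟩] [] = true := by decide +kernel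
theorem c20003143 : chkSyl M20072 D20072 E20002996 [1,2,4,8,16,32,64,128,256,512] 0 [5] [⟨3,0,[],0,0,false⟩,⟨3,0,[],1,2,false⟩,⟨3,0,[],2,3,false⟩,⟨3,0,[],3,0,false⟩,⟨5,0,[],0,0,false⟩,⟨1,3,[],3,0,false⟩,⟨1,66,[],0,0,false⟩,⟨1,90,[],0,0,false⟩,⟨1,56,[],0,0,false⟩] [] [1,2,4,8,16,32,64,128,256,512] [] [] = true := by decide +kernel
theorem c20003173 : chkSyM M20072 [789,822,791,862] [789,822,791,862,4,8,16,129,257] = true := by decide +kernel
theorem c20003022 : chkSyM M20072 [33,35,106] [33,35,106,1,4,8,16,128,768] = true := by decide +kernel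
theorem c20003076 : chkStab M20072 [70,2,75,103,5,128,16,256,512] [70] [1] [2,73] [([70,2,73,103,5,138,26,444,702],[1,2,6,8,16,55,87,253,383]),([70,2,73,103,7,193,18,274,624],[1,2,6,8,18,49,66,194,344]),([70,2,75,103,5,128,18,331,585],[1,2,4,8,16,32,66,132,262]),([70,2,75,103,5,128,16,258,512],[1,2,4,8,16,32,64,130,256]),([70,2,73,103,5,138,26,501,702],[1,2,6,8,16,55,87,251,383])] [[70,2,75,103,5,128,16,256,512],[70,2,73,103,5,138,26,444,702],[70,2,73,103,7,193,18,274,624],[70,2,75,103,5,128,18,331,585],[70,2,75,103,5,128,16,258,512],[70,2,73,103,5,138,26,501,702],[70,2,75,103,7,203,24,430,716],[70,2,73,103,5,138,24,501,757],[70,2,73,103,5,138,26,446,702],[70,2,75,103,5,128,16,331,512],[70,2,73,103,7,193,16,345,571],[70,2,73,103,7,193,18,272,624],[70,2,75,103,7,203,24,487,716],[70,2,75,103,5,128,18,329,585],[70,2,73,103,5,138,24,444,757],[70,2,73,103,5,138,26,503,702],[70,2,75,103,5,128,16,329,512],[70,2,75,103,7,203,24,485,716],[70,2,75,103,7,203,26,487,645],[70,2,75,103,7,203,24,428,716],[70,2,73,103,7,193,18,345,624],[70,2,73,103,5,138,24,503,757],[70,2,75,103,5,128,18,256,585],[70,2,73,103,7,193,18,347,624],[70,2,73,103,7,193,16,347,571],[70,2,75,103,7,203,26,430,645],[70,2,73,103,5,138,24,446,757],[70,2,75,103,5,128,18,258,585],[70,2,75,103,7,203,26,428,645],[70,2,75,103,7,203,26,485,645],[70,2,73,103,7,193,16,274,571],[70,2,73,103,7,193,16,272,571]]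 [(0,0),(0,1),(0,2),(0,3),(0,4),(1,1),(1,2),(1,3),(1,4),(2,2),(2,3),(2,4),(3,3),(3,4),(4,4),(5,0),(5,1),(6,2),(6,3),(6,4),(7,3),(7,4),(9,1),(10,3),(10,4),(13,4),(14,0),(14,1),(18,3),(18,4),(22,1)] 5 64 = true := by decide +kernel
theorem c20003467 : chkStab M20072 [70,2,75,103,5,128,16,256,512] [70] [1] [2,73] [([70,2,73,103,5,138,26,444,702],[1,2,6,8,16,55,87,253,383]),([70,2,73,103,7,193,18,274,624],[1,2,6,8,18,49,66,194,344]),([70,2,75,103,5,128,18,331,585],[1,2,4,8,16,32,66,132,262]),([70,2,75,103,5,128,16,258,512],[1,2,4,8,16,32,64,130,256]),([70,2,73,103,5,138,26,501,702],[1,2,6,8,16,55,87,251,383])] [[70,2,75,103,5,128,16,256,512],[70,2,73,103,5,138,26,444,702],[70,2,73,103,7,193,18,274,624],[70,2,75,103,5,128,18,331,585],[70,2,75,103,5,128,16,258,512],[70,2,73,103,5,138,26,501,702],[70,2,75,103,7,203,24,430,716],[70,2,73,103,5,138,24,501,757],[70,2,73,103,5,138,26,446,702],[70,2,75,103,5,128,16,331,512],[70,2,73,1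03,7,193,16,345,571],[70,2,73,103,7,193,18,272,624],[70,2,75,103,7,203,24,487,716],[70,2,75,103,5,128,18,329,585],[70,2,73,103,5,138,24,444,757],[70,2,73,103,5,138,26,503,702],[70,2,75,103,5,128,16,329,512],[70,2,75,103,7,203,24,485,716],[70,2,75,103,7,203,26,487,645],[70,2,75,103,7,203,24,428,716],[70,2,73,103,7,193,18,345,624],[70,2,73,103,5,138,24,503,757],[70,2,75,103,5,128,18,256,585],[70,2,73,103,7,193,18,347,624],[70,2,73,103,7,193,16,347,571],[70,2,75,103,7,203,26,430,645],[70,2,73,103,5,138,24,446,757],[70,2,75,103,5,128,18,258,585],[70,2,75,103,7,203,26,428,645],[70,2,75,103,7,203,26,485,645],[70,2,73,103,7,193,16,274,571],[70,2,73,103,7,193,16,272,571]] [(0,0),(0,1),(0,2),(0,3),(0,4),(1,1),(1,2),(1,3),(1,4),(2,2),(2,3),(2,4),(3,3),(3,4),(4,4),(5,0),(5,1),(6,2),(6,3),(6,4),(7,3),(7,4),(9,1),(10,3),(10,4),(13,4),(14,0),(14,1),(18,3),(18,4),(22,1)] 5 64 = true := by decide +kernel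
theorem c20003499 : chkStab M20072 [70,2,75,103,5,128,16,256,512] [70] [1] [2,73] [([70,2,73,103,5,138,26,444,702],[1,2,6,8,16,55,87,253,383]),([70,2,73,103,7,193,18,274,624],[1,2,6,8,18,49,66,194,344]),([70,2,75,103,5,128,18,331,585],[1,2,4,8,16,32,66,132,262]),([70,2,75,103,5,128,16,256,514],[1,2,4,8,16,32,64,128,258]),([70,2,73,103,5,138,81,444,700],[1,2,6,8,16,55,83,253,381])] [[70,2,75,103,5,128,16,256,512],[70,2,73,103,5,138,26,444,702],[70,2,73,103,7,193,18,274,624],[70,2,75,103,5,128,18,331,585],[70,2,75,103,5,128,16,256,514],[70,2,73,103,5,138,81,444,700],[70,2,75,103,7,203,24,430,716],[70,2,73,103,5,138,24,501,757],[70,2,73,103,5,138,26,444,700],[70,2,75,103,5,128,91,256,514],[70,2,73,103,7,193,16,345,571],[70,2,73,103,7,193,18,274,626],[70,2,75,103,7,203,81,430,718],[70,2,75,103,5,128,18,331,587],[70,2,73,103,5,138,83,501,759],[70,2,73,103,5,138,81,444,702],[70,2,75,103,5,128,89,331,585],[70,2,75,103,7,203,83,487,645],[70,2,75,103,7,203,26,487,645],[70,2,75,103,7,203,24,430,718],[70,2,73,103,7,193,91,274,626],[70,2,73,103,5,138,24,501,759],[70,2,75,103,5,128,89,331,587],[70,2,75,103,5,128,91,256,512],[70,2,73,103,5,138,83,501,757],[70,2,73,103,7,193,89,345,571],[70,2,73,103,7,193,16,345,569],[70,2,75,103,7,203,83,487,647],[70,2,75,103,7,203,81,430,716],[70,2,75,103,7,203,26,487,647],[70,2,73,103,7,193,89,345,569],[70,2,73,103,7,193,91,274,624]]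 [(0,0),(0,1),(0,2),(0,3),(0,4),(1,1),(1,2),(1,3),(1,4),(2,2),(2,3),(2,4),(3,3),(3,4),(4,4),(5,0),(5,1),(6,2),(6,3),(6,4),(7,3),(7,4),(8,4),(9,0),(9,1),(10,3),(10,4),(11,4),(18,3),(18,4),(19,4)] 5 64 = true := by decide +kernel
theorem c20003517 : chkStab M20072 [70,2,75,103,5,128,16,256,512] [70] [1] [2,73] [([70,2,73,103,5,138,26,444,702],[1,2,6,8,16,55,87,253,383]),([70,2,73,103,7,193,18,274,624],[1,2,6,8,18,49,66,194,344]),([70,2,75,103,5,128,18,331,585],[1,2,4,8,16,32,66,132,262]),([70,2,75,103,5,128,16,258,514],[1,2,4,8,16,32,64,130,258]),([70,2,73,103,5,138,81,501,700],[1,2,6,8,16,55,83,251,381])] [[70,2,75,103,5,128,16,256,512],[70,2,73,103,5,138,26,444,702],[70,2,73,103,7,193,18,274,624],[70,2,75,103,5,128,18,331,585],[70,2,75,103,5,128,16,258,514],[70,2,73,103,5,138,81,501,700],[70,2,75,103,7,203,24,430,716],[70,2,73,103,5,138,24,501,757],[70,2,73,103,5,138,26,446,700],[70,2,75,103,5,128,91,331,514],[70,2,73,103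,7,193,16,345,571],[70,2,73,103,7,193,18,272,626],[70,2,75,103,7,203,81,487,718],[70,2,75,103,5,128,18,329,587],[70,2,73,103,5,138,83,444,759],[70,2,73,103,5,138,81,503,702],[70,2,75,103,5,128,89,258,585],[70,2,75,103,7,203,83,428,645],[70,2,75,103,7,203,26,487,645],[70,2,75,103,7,203,24,428,718],[70,2,73,103,7,193,91,345,626],[70,2,73,103,5,138,24,503,759],[70,2,75,103,5,128,89,256,587],[70,2,75,103,5,128,91,329,512],[70,2,73,103,5,138,83,446,757],[70,2,73,103,7,193,89,272,571],[70,2,73,103,7,193,16,347,569],[70,2,75,103,7,203,83,430,647],[70,2,75,103,7,203,81,485,716],[70,2,75,103,7,203,26,485,647],[70,2,73,103,7,193,89,274,569],[70,2,73,103,7,193,91,347,624]] [(0,0),(0,1),(0,2),(0,3),(0,4),(1,1),(1,2),(1,3),(1,4),(2,2),(2,3),(2,4),(3,3),(3,4),(4,4),(5,0),(5,1),(6,2),(6,3),(6,4),(7,3),(7,4),(8,4),(9,0),(9,1),(10,3),(10,4),(11,4),(18,3),(18,4),(19,4)] 5 64 = true := by decide +kernel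
theorem c20003563 : chkStab M20072 [70,2,75,103,5,128,16,256,512] [70] [1] [2,73] [([70,2,73,103,5,138,26,444,702],[1,2,6,8,16,55,87,253,383]),([70,2,73,103,7,193,18,274,624],[1,2,6,8,18,49,66,194,344]),([70,2,75,103,5,128,18,331,585],[1,2,4,8,16,32,66,132,262]),([70,2,75,103,5,128,89,329,514],[1,2,4,8,16,32,68,134,258]),([70,2,75,103,5,128,89,331,512],[1,2,4,8,16,32,68,132,256])] [[70,2,75,103,5,128,16,256,512],[70,2,73,103,5,138,26,444,702],[70,2,73,103,7,193,18,274,624],[70,2,75,103,5,128,18,331,585],[70,2,75,103,5,128,89,329,514],[70,2,75,103,5,128,89,331,512],[70,2,75,103,7,203,24,430,716],[70,2,73,103,5,138,24,501,757],[70,2,73,103,5,138,83,503,700],[70,2,73,103,5,138,83,501,702],[70,2,73,103,7,193,16,345,571],[70,2,73,103,7,193,89,347,626],[70,2,73,103,7,193,89,345,624],[70,2,75,103,5,128,91,258,587],[70,2,75,103,5,128,91,256,585],[70,2,73,103,5,138,81,446,759],[70,2,73,103,7,193,91,272,569],[70,2,75,103,5,128,16,258,514],[70,2,73,103,5,138,81,444,757],[70,2,73,103,7,193,91,274,571],[70,2,75,103,7,203,26,487,645],[70,2,75,103,7,203,83,485,718],[70,2,75,103,7,203,83,487,716],[70,2,75,103,7,203,81,428,647],[70,2,73,103,5,138,26,446,700],[70,2,75,103,7,203,81,430,645],[70,2,73,103,7,193,18,272,626],[70,2,75,103,5,128,18,329,587],[70,2,73,103,5,138,24,503,759],[70,2,73,103,7,193,16,347,569],[70,2,75,103,7,203,24,428,718],[70,2,75,103,7,203,26,485,647]]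 [(0,0),(0,1),(0,2),(0,3),(0,4),(1,1),(1,2),(1,3),(1,4),(2,2),(2,3),(2,4),(3,3),(3,4),(4,0),(4,1),(4,4),(5,0),(5,1),(6,2),(6,3),(6,4),(8,1),(8,4),(9,1),(11,4),(13,4),(15,4),(16,4),(21,4),(23,4)] 5 64 = true := by decide +kernel
theorem c20003581 : chkStab M20072 [70,2,75,103,5,128,16,256,512] [70] [1] [2,73] [([70,2,73,103,5,138,26,444,702],[1,2,6,8,16,55,87,253,383]),([70,2,73,103,7,193,18,274,624],[1,2,6,8,18,49,66,194,344]),([70,2,75,103,5,128,18,331,585],[1,2,4,8,16,32,66,132,262]),([70,2,75,103,5,128,91,258,587],[1,2,4,8,16,32,70,130,260]),([70,2,75,103,5,128,89,331,514],[1,2,4,8,16,32,68,132,258])] [[70,2,75,103,5,128,16,256,512],[70,2,73,103,5,138,26,444,702],[70,2,73,103,7,193,18,274,624],[70,2,75,103,5,128,18,331,585],[70,2,75,103,5,128,91,258,587],[70,2,75,103,5,128,89,331,514],[70,2,75,103,7,203,24,430,716],[70,2,73,103,5,138,24,501,757],[70,2,73,103,5,138,81,446,759],[70,2,73,103,5,138,83,501,700],[70,2,73,103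,7,193,16,345,571],[70,2,73,103,7,193,91,272,569],[70,2,73,103,7,193,89,345,626],[70,2,75,103,5,128,89,329,514],[70,2,75,103,5,128,91,256,587],[70,2,73,103,5,138,83,503,700],[70,2,73,103,7,193,89,347,626],[70,2,75,103,5,128,18,329,585],[70,2,73,103,5,138,81,444,759],[70,2,73,103,7,193,91,274,569],[70,2,75,103,7,203,26,487,645],[70,2,75,103,7,203,81,428,647],[70,2,75,103,7,203,83,487,718],[70,2,75,103,7,203,83,485,718],[70,2,73,103,5,138,24,503,757],[70,2,75,103,7,203,81,430,647],[70,2,73,103,7,193,16,347,571],[70,2,75,103,5,128,16,258,512],[70,2,73,103,5,138,26,446,702],[70,2,73,103,7,193,18,272,624],[70,2,75,103,7,203,26,485,645],[70,2,75,103,7,203,24,428,716]] [(0,0),(0,1),(0,2),(0,3),(0,4),(1,1),(1,2),(1,3),(1,4),(2,2),(2,3),(2,4),(3,3),(3,4),(4,0),(4,1),(4,4),(5,0),(5,1),(6,2),(6,3),(6,4),(8,1),(8,4),(9,1),(11,4),(13,4),(15,4),(16,4),(21,4),(23,4)] 5 64 = true := by decide +kernel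
theorem c20003601 : chkStab M20072 [70,2,75,103,5,128,16,256,512] [70] [1] [2,73] [([70,2,73,103,5,138,26,444,702],[1,2,6,8,16,55,87,253,383]),([70,2,73,103,7,193,18,274,624],[1,2,6,8,18,49,66,194,344]),([70,2,75,103,5,128,18,331,585],[1,2,4,8,16,32,66,132,262]),([70,2,75,103,5,128,16,258,514],[1,2,4,8,16,32,64,130,258]),([70,2,73,103,5,138,81,501,700],[1,2,6,8,16,55,83,251,381])] [[70,2,75,103,5,128,16,256,512],[70,2,73,103,5,138,26,444,702],[70,2,73,103,7,193,18,274,624],[70,2,75,103,5,128,18,331,585],[70,2,75,103,5,128,16,258,514],[70,2,73,103,5,138,81,501,700],[70,2,75,103,7,203,24,430,716],[70,2,73,103,5,138,24,501,757],[70,2,73,103,5,138,26,446,700],[70,2,75,103,5,128,91,331,514],[70,2,73,103,7,193,16,345,571],[70,2,73,103,7,193,18,272,626],[70,2,75,103,7,203,81,487,718],[70,2,75,103,5,128,18,329,587],[70,2,73,103,5,138,83,444,759],[70,2,73,103,5,138,81,503,702],[70,2,75,103,5,128,89,258,585],[70,2,75,103,7,203,83,428,645],[70,2,75,103,7,203,26,487,645],[70,2,75,103,7,203,24,428,718],[70,2,73,103,7,193,91,345,626],[70,2,73,103,5,138,24,503,759],[70,2,75,103,5,128,89,256,587],[70,2,75,103,5,128,91,329,512],[70,2,73,103,5,138,83,446,757],[70,2,73,103,7,193,89,272,571],[70,2,73,103,7,193,16,347,569],[70,2,75,103,7,203,83,430,647],[70,2,75,103,7,203,81,485,716],[70,2,75,103,7,203,26,485,647],[70,2,73,103,7,193,89,274,569],[70,2,73,103,7,193,91,347,624]]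 [(0,0),(0,1),(0,2),(0,3),(0,4),(1,1),(1,2),(1,3),(1,4),(2,2),(2,3),(2,4),(3,3),(3,4),(4,4),(5,0),(5,1),(6,2),(6,3),(6,4),(7,3),(7,4),(8,4),(9,0),(9,1),(10,3),(10,4),(11,4),(18,3),(18,4),(19,4)] 5 64 = true := by decide +kernel
theorem c20003621 : chkStab M20072 [70,2,75,103,5,128,16,256,512] [70] [1] [2,73] [([70,2,73,103,5,138,26,444,702],[1,2,6,8,16,55,87,253,383]),([70,2,73,103,7,193,18,274,624],[1,2,6,8,18,49,66,194,344]),([70,2,75,103,5,128,18,331,585],[1,2,4,8,16,32,66,132,262]),([70,2,75,103,5,128,89,329,514],[1,2,4,8,16,32,68,134,258]),([70,2,75,103,5,128,89,329,512],[1,2,4,8,16,32,68,134,256])] [[70,2,75,103,5,128,16,256,512],[70,2,73,103,5,138,26,444,702],[70,2,73,103,7,193,18,274,624],[70,2,75,103,5,128,18,331,585],[70,2,75,103,5,128,89,329,514],[70,2,75,103,5,128,89,329,512],[70,2,75,103,7,203,24,430,716],[70,2,73,103,5,138,24,501,757],[70,2,73,103,5,138,83,503,700],[70,2,73,103,5,138,83,503,702],[70,2,73,103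,7,193,16,345,571],[70,2,73,103,7,193,89,347,626],[70,2,73,103,7,193,89,347,624],[70,2,75,103,5,128,91,258,587],[70,2,75,103,5,128,91,258,585],[70,2,73,103,5,138,81,446,759],[70,2,73,103,7,193,91,272,569],[70,2,75,103,5,128,16,256,514],[70,2,73,103,5,138,81,446,757],[70,2,73,103,7,193,91,272,571],[70,2,75,103,7,203,26,487,645],[70,2,75,103,7,203,83,485,718],[70,2,75,103,7,203,83,485,716],[70,2,75,103,7,203,81,428,647],[70,2,73,103,5,138,26,444,700],[70,2,75,103,7,203,81,428,645],[70,2,73,103,7,193,18,274,626],[70,2,75,103,5,128,18,331,587],[70,2,73,103,5,138,24,501,759],[70,2,73,103,7,193,16,345,569],[70,2,75,103,7,203,24,430,718],[70,2,75,103,7,203,26,487,647]] [(0,0),(0,1),(0,2),(0,3),(0,4),(1,1),(1,2),(1,3),(1,4),(2,2),(2,3),(2,4),(3,3),(3,4),(4,0),(4,1),(4,4),(5,0),(5,1),(6,2),(6,3),(6,4),(8,1),(8,4),(9,1),(11,4),(13,4),(15,4),(16,4),(21,4),(23,4)] 5 64 = true := by decide +kernel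
theorem c20003639 : chkStab M20072 [70,2,75,103,5,128,16,256,512] [70] [1] [2,73] [([70,2,73,103,5,138,26,444,702],[1,2,6,8,16,55,87,253,383]),([70,2,73,103,7,193,18,274,624],[1,2,6,8,18,49,66,194,344]),([70,2,75,103,5,128,18,331,585],[1,2,4,8,16,32,66,132,262]),([70,2,75,103,5,128,89,329,514],[1,2,4,8,16,32,68,134,258]),([70,2,75,103,5,128,89,331,512],[1,2,4,8,16,32,68,132,256])] [[70,2,75,103,5,128,16,256,512],[70,2,73,103,5,138,26,444,702],[70,2,73,103,7,193,18,274,624],[70,2,75,103,5,128,18,331,585],[70,2,75,103,5,128,89,329,514],[70,2,75,103,5,128,89,331,512],[70,2,75,103,7,203,24,430,716],[70,2,73,103,5,138,24,501,757],[70,2,73,103,5,138,83,503,700],[70,2,73,103,5,138,83,501,702],[70,2,73,103,7,193,16,345,571],[70,2,73,103,7,193,89,347,626],[70,2,73,103,7,193,89,345,624],[70,2,75,103,5,128,91,258,587],[70,2,75,103,5,128,91,256,585],[70,2,73,103,5,138,81,446,759],[70,2,73,103,7,193,91,272,569],[70,2,75,103,5,128,16,258,514],[70,2,73,103,5,138,81,444,757],[70,2,73,103,7,193,91,274,571],[70,2,75,103,7,203,26,487,645],[70,2,75,103,7,203,83,485,718],[70,2,75,103,7,203,83,487,716],[70,2,75,103,7,203,81,428,647],[70,2,73,103,5,138,26,446,700],[70,2,75,103,7,203,81,430,645],[70,2,73,103,7,193,18,272,626],[70,2,75,103,5,128,18,329,587],[70,2,73,103,5,138,24,503,759],[70,2,73,103,7,193,16,347,569],[70,2,75,103,7,203,24,428,718],[70,2,75,103,7,203,26,485,647]]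 [(0,0),(0,1),(0,2),(0,3),(0,4),(1,1),(1,2),(1,3),(1,4),(2,2),(2,3),(2,4),(3,3),(3,4),(4,0),(4,1),(4,4),(5,0),(5,1),(6,2),(6,3),(6,4),(8,1),(8,4),(9,1),(11,4),(13,4),(15,4),(16,4),(21,4),(23,4)] 5 64 = true := by decide +kernel
theorem c20003179 : chkCF M20072 (785,Z20003006) [1,5] = true := by decide +kernel
theorem c20003203 : chkCF M20072 (912,Z20003006) [1,5] = true := by decide +kernel
theorem c20003289 : chkCF M20072 (33,Z20003006) [1,5] = true := by decide +kernel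
theorem c20003342 : chkCF M20072 (33,Z20003338) [2,4,73] = true := by decide +kernel
theorem c20003012 : chkCF M20072 (4,Z20003006) [1,5] = true := by decide +kernel
theorem c20003145 : chkX M20072 [([1,2,4],[1,4,6]),([1,2,8,16],[1,2,16,24]),([1,2,4,32,8,64],[7,2,4,38,77,68]),([70,2,75,103,5,128],[70,75,73,103,130,138]),([1,2,8,16,42,64,132,260],[1,2,16,24,42,88,387,173]),([70,2,75,103,5,128,16,256,512],[13,75,73,44,128,138,702,378,26])] [(2,0,2),(2,0,4),(2,1,4),(2,1,8),(2,2,16),(2,3,16),(2,4,64),(2,4,128),(2,5,64)] [0,481] = true := by decide +kernel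
theorem c20003000 : chkX M20072 [([1,2,4],[1,4,6]),([1,2,8,16],[1,2,16,24]),([1,2,4,32,8,64],[7,2,4,38,77,68]),([70,2,75,103,5,128],[70,75,73,103,130,138]),([1,2,8,16,42,64,132,260],[1,2,16,24,42,88,387,173]),([70,2,75,103,5,128,16,256,512],[13,75,73,44,128,138,702,305,26])] [(2,0,2),(2,0,4),(2,1,4),(2,1,8),(2,2,16),(2,3,16),(2,4,64),(2,4,128),(2,5,64)] [0,481] = true := by decide +kernel
theorem c20003518 : chkRb M20072 [1,2,4,8,16,32,64,128,256,514] D20072 = true := by decide +kernel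
theorem c20003149 : chkDer M20072 [([1,2,8,16,42,64,132,260,512],[1,2,16,24,42,88,387,173,684]),([70,2,75,103,5,128,16,256,512],[13,75,73,44,128,138,702,378,26])] [(1,0,[395,414,393,428,4,8,65,129]),(1,1,[339,271,337,343,64,85,162,46]),(2,0,[443,23,414,412,266,406,127,143]),(2,1,[462,15,460,458,110,254,296,188])] ([797,830,799,854,8,16,133,261],[830,104,828,885,255,504,743,425]) = true := by decide +kernel
theorem c20003445 : chkStK M20072 6 [1,2,4,8,16,32,64,128,256,514] 0x21020000000000000000000000000000000000000000000000000000000000000000000000000000000000000000000001000 ([1,2,4],[1,4,6]) ([1,2,8,16],[1,2,16,24]) = true := by decide +kernel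
theorem c20003545 : chkStK M20072 6 [1,2,4,8,16,32,64,128,256,514] 0x21020000000000000000000000000000000000000000000000000000000000000000000000000000000000000000000001000 ([1,2,4],[1,4,6]) ([1,2,8,16],[1,2,16,24]) = true := by decide +kernel
theorem c20003468 : chkDer M20072 [([70,2,75,103,5,128,16,256,512],[13,75,73,44,128,138,700,376,81])] [(1,0,[1,2,4,8,16,32,64,128,256]),(0,4,[]),(2,0,[7,4,2,14,32,16,350,410,310]),(0,4,[]),(1,0,[5,6,2,12,55,16,306,399,344])] ([70,2,75,103,5,128,16,256,512],[70,2,75,103,5,128,16,258,512]) = true := by decide +kernel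
theorem c20003462 : chkDer M20072 [([70,2,75,103,5,128,16,256,512],[13,75,73,44,128,138,700,307,81])] [(1,0,[1,2,4,8,16,32,64,128,256]),(0,4,[]),(2,0,[7,4,2,14,32,16,350,412,310]),(0,4,[]),(1,0,[5,6,2,12,55,16,306,395,344])] ([70,2,75,103,5,128,16,256,512],[70,2,75,103,5,128,16,258,512]) = true := by decide +kernel
theorem c20003494 : chkDer M20072 [([70,2,75,103,5,128,16,256,512],[13,75,73,44,128,138,702,305,81])] [(1,0,[1,2,4,8,16,32,64,128,256]),(0,4,[]),(2,0,[7,4,2,14,32,16,350,412,310]),(0,4,[]),(1,0,[5,6,2,12,55,16,306,395,344])] ([70,2,75,103,5,128,16,256,512],[70,2,75,103,5,128,16,256,514]) = true := by decide +kernel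
theorem c20003578 : chkDer M20072 [([70,2,75,103,5,128,16,256,512],[13,75,73,44,128,138,700,305,83])] [(1,0,[1,2,4,8,16,32,64,128,256]),(0,4,[]),(2,0,[7,4,2,14,32,16,344,410,310]),(0,4,[]),(1,0,[5,6,2,12,55,16,310,399,344])] ([70,2,75,103,5,128,16,256,512],[70,2,75,103,5,128,89,331,514]) = true := by decide +kernel
theorem c20003572 : chkDer M20072 [([70,2,75,103,5,128,16,256,512],[13,75,73,44,128,138,702,378,24])] [(1,0,[1,2,4,8,16,32,64,128,256]),(0,4,[]),(2,0,[7,4,2,14,32,16,346,414,304]),(0,4,[]),(1,0,[5,6,2,12,55,16,308,393,348])] ([70,2,75,103,5,128,16,256,512],[70,2,75,103,5,128,89,331,514]) = true := by decide +kernel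
theorem c20003636 : chkDer M20072 [([70,2,75,103,5,128,16,256,512],[13,75,73,44,128,138,700,378,24])] [(1,0,[1,2,4,8,16,32,64,128,256]),(0,4,[]),(2,0,[7,4,2,14,32,16,346,414,304]),(0,4,[]),(1,0,[5,6,2,12,55,16,308,393,348])] ([70,2,75,103,5,128,16,256,512],[70,2,75,103,5,128,89,331,512]) = true := by decide +kernel
theorem c20003590 : chkDer M20072 [([70,2,75,103,5,128,16,256,512],[13,75,73,44,128,138,700,305,24])] [(1,0,[1,2,4,8,16,32,64,128,256]),(0,4,[]),(2,0,[7,4,2,14,32,16,346,408,304]),(0,4,[]),(1,0,[5,6,2,12,55,16,308,397,348])] ([70,2,75,103,5,128,16,256,512],[70,2,75,103,5,128,89,331,512]) = true := by decide +kernel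
theorem c20003077 : chkDer M20072 [([70,2,75,103,5,128,16,256,512],[13,75,73,44,128,138,702,376,26])] [(1,0,[1,2,4,8,16,32,64,128,256]),(0,4,[]),(2,0,[7,4,2,14,32,16,348,408,304]),(0,4,[]),(1,0,[5,6,2,12,55,16,304,397,348])] ([70,2,75,103,5,128,16,256,512],[70,2,75,103,5,128,16,258,512]) = true := by decide +kernel
theorem c20003628 : chkDer M20072 [([70,2,75,103,5,128,16,256,512],[13,75,73,44,128,138,700,378,26])] [(1,0,[1,2,4,8,16,32,64,128,256]),(0,4,[]),(2,0,[7,4,2,14,32,16,348,408,304]),(0,4,[]),(1,0,[5,6,2,12,55,16,304,397,348])] ([70,2,75,103,5,128,16,256,512],[70,2,75,103,5,128,16,256,514]) = true := by decide +kernel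
theorem c20003488 : chkDer M20072 [([70,2,75,103,5,128,16,256,512],[13,75,73,44,128,138,702,305,83])] [(1,0,[1,2,4,8,16,32,64,128,256]),(1,0,[7,4,6,14,32,55,383,203,81]),(1,0,[5,6,2,12,55,16,310,393,350])] ([70,2,75,103,5,128,16,256,512],[70,2,75,103,5,128,89,329,514]) = true := by decide +kernel
theorem c20003588 : chkDer M20072 [([70,2,75,103,5,128,16,256,512],[13,75,73,44,128,138,700,305,24])] [(1,0,[1,2,4,8,16,32,64,128,256]),(1,0,[7,4,6,14,32,55,381,203,85]),(1,0,[5,6,2,12,55,16,308,395,346])] ([70,2,75,103,5,128,16,256,512],[70,2,75,103,5,128,89,329,514]) = true := by decide +kernel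
theorem c20003602 : chkDer M20072 [([70,2,75,103,5,128,16,256,512],[13,75,73,44,128,138,700,307,24])] [(1,0,[1,2,4,8,16,32,64,128,256]),(1,0,[7,4,6,14,32,55,381,201,85]),(1,0,[5,6,2,12,55,16,308,397,346])] ([70,2,75,103,5,128,16,256,512],[70,2,75,103,5,128,89,329,514]) = true := by decide +kernel
theorem c20003086 : chkBig M20072 6 33 [1,2,4,8,32,64,128] = true := by decide +kernel
theorem c20003576 : chkDer M20072 [([70,2,75,103,5,128,16,256,512],[13,75,73,44,128,138,700,305,83])] [(1,0,[1,2,4,8,16,32,64,128,256]),(1,0,[7,4,6,14,32,55,381,203,81]),(1,0,[5,6,2,12,55,16,304,395,348])] ([70,2,75,103,5,128,16,256,512],[70,2,75,103,5,128,91,258,587]) = true := by decide +kernel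
theorem c20003407 : chkDer M20072 [([797,830,799,854,8,16,133,261,4],[830,104,828,885,255,504,743,425,4]),([789,822,791,862,4,8,16,129,257],[822,104,820,893,249,245,488,688,95])] [(0,310,[]),(2,0,[74,250,86,128,383,26,123]),(2,1,[451,345,284,390,16,212,42])] ([496,350,334,480,4,992,896],[496,350,334,480,4,896,98]) = true := by decide +kernel
theorem c20003594 : chkDer M20072 [([70,2,75,103,5,128,16,256,512],[13,75,73,44,128,138,700,307,83])] [(2,0,[5,6,2,12,55,16,308,395,350]),(2,0,[7,4,6,14,32,55,383,205,87])] ([70,2,75,103,5,128,16,256,512],[13,75,73,44,128,138,702,378,26]) = true := by decide +kernel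
theorem c20003432 : chkDer M20072 [([797,830,799,854,8,16,133,261,4],[830,104,828,885,255,504,743,425,4]),([1,2,4,32,8,64,144,784],[70,2,75,103,77,5,144,784]),([789,822,791,862,4,8,16,129,257],[822,104,820,893,973,188,417,390,808])] [(0,256,[]),(1,0,[10,15,3]),(1,1,[151,149,166]),(1,2,[56,61,8]),(2,1,[51,49,175]),(1,0,[9,12,14])] ([33,35,106],[75,73,33]) = true := by decide +kernel
theorem c20003438 : chkDer M20072 [([797,830,799,854,8,16,133,261,4],[830,104,828,885,255,504,743,425,4]),([1,2,4,32,8,64,144,784],[70,2,75,103,77,5,144,784]),([789,822,791,862,4,8,16,129,257],[822,104,820,893,973,188,417,388,865])] [(0,256,[]),(1,0,[10,15,3]),(1,1,[151,149,166]),(1,2,[56,61,8]),(2,1,[51,49,175]),(1,0,[9,12,14])] ([33,35,106],[75,73,33]) = true := by decide +kernel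
theorem c20003024 : chkDer M20072 [([1,2,4,32,8,64],[7,2,4,38,77,68]),([797,830,799,854,8,16,133,261,4],[885,104,887,830,255,433,686,480,816]),([1,2,4,32,8,64,144,784],[70,2,75,103,77,5,144,784]),([1,2,4,32,8,64,144],[70,2,75,103,77,5,144])] [(0,256,[]),(1,0,[58,56,9]),(2,1,[262,259,14]),(2,2,[31,29,136]),(2,1,[262,259,261]),(1,3,[15,13,6])] ([33,35,106],[104,106,73]) = true := by decide +kernel
theorem c20003464 : chkDer M20072 [([70,2,75,103,5,128,16,256,512],[13,75,73,44,128,138,700,307,81])] [(1,0,[1,2,4,8,16,32,64,128,256]),(0,4,[]),(1,0,[5,6,4,12,55,32,258,167,70])] ([70,2,75,103,5,128,16,256,512],[70,2,73,103,5,138,26,501,702]) = true := by decide +kernel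
theorem c20003250 : chkDer M20072 [([1,2,4,32,8,64],[7,2,4,38,77,68]),([789,822,791,862,4,8,16,129,257],[822,104,820,893,145,188,488,659,53]),([1,2,4,32,8,64,144,784],[70,2,75,103,77,5,144,784]),([797,830,799,854,8,16,133,261,4],[830,104,828,885,255,504,743,425,4])] [(0,256,[]),(1,0,[58,56,9]),(2,1,[53,48,11]),(2,2,[49,51,175]),(1,3,[12,9,14])] ([33,35,106],[73,75,33]) = true := by decide +kernel
theorem c20003261 : chkDer M20072 [([1,2,4,32,8,64],[7,2,4,38,77,68]),([789,822,791,862,4,8,16,129,257],[822,104,820,893,145,188,488,657,126]),([1,2,4,32,8,64,144,784],[70,2,75,103,77,5,144,784]),([797,830,799,854,8,16,133,261,4],[830,104,828,885,255,504,743,425,4])] [(0,256,[]),(1,0,[58,56,9]),(2,1,[53,48,11]),(2,2,[49,51,175]),(1,3,[12,9,14])] ([33,35,106],[73,75,33]) = true := by decide +kernel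
theorem c20003598 : chkDer M20072 [([70,2,75,103,5,128,16,256,512],[13,75,73,44,128,138,700,307,26])] [(1,0,[1,2,4,8,16,32,64,128,256]),(0,4,[]),(1,0,[5,6,4,12,55,32,258,167,64])] ([70,2,75,103,5,128,16,256,512],[70,2,73,103,5,138,81,501,700]) = true := by decide +kernel
theorem c20003584 : chkDer M20072 [([70,2,75,103,5,128,16,256,512],[13,75,73,44,128,138,700,305,26])] [(1,0,[1,2,4,8,16,32,64,128,256]),(0,4,[]),(1,0,[5,6,4,12,55,32,258,165,64])] ([70,2,75,103,5,128,16,256,512],[70,2,73,103,5,138,81,444,700]) = true := by decide +kernel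
theorem c20003423 : chkDer M20072 [([1,2,4,32,8,64],[7,2,4,38,77,68]),([789,822,791,862,4,8,16,129,257],[822,104,820,893,933,245,417,423,834]),([1,2,4,32,8,64,144,784],[70,2,75,103,77,5,144,784]),([797,830,799,854,8,16,133,261,4],[830,104,828,885,255,504,743,425,4])] [(0,256,[]),(1,0,[58,56,9]),(1,1,[54,51,3]),(2,2,[49,51,166]),(2,3,[12,9,3])] ([33,35,106],[73,75,33]) = true := by decide +kernel
theorem c20003079 : chkDer M20072 [([70,2,75,103,5,128,16,256,512],[13,75,73,44,128,138,702,376,26])] [(1,0,[1,2,4,8,16,32,64,128,256]),(0,4,[]),(1,0,[5,6,4,12,55,32,256,163,64])] ([70,2,75,103,5,128,16,256,512],[70,2,73,103,5,138,26,501,702]) = true := by decide +kernel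
theorem c20002990 : chkDer M20072 [([70,2,75,103,5,128,16,256,512],[13,75,73,44,128,138,702,305,26]),([1,2,4,32,8,64,144,784],[70,2,75,103,77,5,144,784]),([1,2,8,16,42,64,132,260,512],[1,2,16,24,42,88,387,173,684]),([1,2,8,16,42],[1,2,16,24,42])] [(0,1,[]),(2,0,[479]),(2,1,[175]),(1,2,[441]),(1,0,[265]),(2,3,[21])] ([912],[33]) = true := by decide +kernel
theorem c20003124 : chkDer M20072 [([1,2,4,32,8,64,144,784],[70,2,75,103,77,5,144,784]),([1,2,8,16,42,64,132,260,512],[1,2,16,24,42,88,387,173,684]),([70,2,75,103,5,128,16,256,512],[13,75,73,44,128,138,702,378,26]),([1,2,8,16,42],[1,2,16,24,42])] [(0,16,[]),(2,0,[166]),(1,1,[430]),(2,2,[94]),(2,3,[21])] ([789],[33]) = true := by decide +kernel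
theorem c20003447 : chkTr M20072 [1,2,4,8,16,32,64,128,256,514] ([1,2,8,16,42],[1,2,16,24,42]) ([1,2,8,16,42],[1,2,16,24,42]) = true := by decide +kernel
theorem c20003450 : chkTr M20072 [1,2,4,8,16,32,64,128,256,514] ([1,2,4,32,8,64,144],[70,2,75,103,77,5,144]) ([1,2,4,32,8,64,144],[70,2,75,103,77,5,144]) = true := by decide +kernel
theorem c20003455 : chkTr M20072 [1,2,4,8,16,32,64,128,256,514] ([1,2,4,32,8,64,144,784],[70,2,75,103,77,5,144,784]) ([1,2,4,32,8,64,144,786],[70,2,75,103,77,5,144,786]) = true := by decide +kernel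
theorem c20003476 : chkTr M20072 [1,2,4,8,16,32,64,128,256,514] ([1,2,4,32],[1,4,6,32]) ([1,2,4,32],[1,4,6,32]) = true := by decide +kernel
theorem c20003479 : chkTr M20072 [1,2,4,8,16,32,64,128,256,514] ([1,2,4,32,8,64],[7,2,4,38,77,68]) ([1,2,4,32,8,64],[7,2,4,38,77,68]) = true := by decide +kernel
theorem c20003482 : chkTr M20072 [1,2,4,8,16,32,64,128,256,514] ([1,2,8,16,42,64,132,260],[1,2,16,24,42,88,387,173]) ([1,2,8,16,42,64,132,260],[1,2,16,24,42,88,387,173]) = true := by decide +kernel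
theorem c20003487 : chkTr M20072 [1,2,4,8,16,32,64,128,256,514] ([70,2,75,103,5,128,16,256,512],[13,75,73,44,128,138,702,378,26]) ([70,2,75,103,5,128,16,256,514],[13,75,73,44,128,138,700,378,26]) = true := by decide +kernel
theorem c20003522 : chkTr M20072 [1,2,4,8,16,32,64,128,256,514] ([1,2,8,16,42,64],[1,2,16,24,42,88]) ([1,2,8,16,42,64],[1,2,16,24,42,88]) = true := by decide +kernel
theorem c20003525 : chkTr M20072 [1,2,4,8,16,32,64,128,256,514] ([70,2,75,103,5,128],[70,75,73,103,130,138]) ([70,2,75,103,5,128],[70,75,73,103,130,138]) = true := by decide +kernel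
theorem c20003528 : chkTr M20072 [1,2,4,8,16,32,64,128,256,514] ([1,2,8,16,42,64,132,260,512],[1,2,16,24,42,88,387,173,684]) ([1,2,8,16,42,64,132,260,514],[1,2,16,24,42,88,387,173,686]) = true := by decide +kernel
theorem c20003547 : chkTr M20072 [1,2,4,8,16,32,64,128,256,514] ([1,2,8,16,42],[1,2,16,24,42]) ([1,2,8,16,42],[1,2,16,24,42]) = true := by decide +kernel
theorem c20003550 : chkTr M20072 [1,2,4,8,16,32,64,128,256,514] ([1,2,4,32,8,64,144],[70,2,75,103,77,5,144]) ([1,2,4,32,8,64,144],[70,2,75,103,77,5,144]) = true := by decide +kernel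
theorem c20003553 : chkTr M20072 [1,2,4,8,16,32,64,128,256,514] ([1,2,4,32,8,64,144,784],[70,2,75,103,77,5,144,784]) ([1,2,4,32,8,64,144,786],[70,2,75,103,77,5,144,786]) = true := by decide +kernel
theorem c20002900 : chkDer M20072 [([70,2,75,103,5,128],[70,75,73,103,130,138])] [(0,128,[]),(1,0,[5,2,4,12,22,32])] ([70,2,75,103,5,128],[13,75,73,44,128,138]) = true := by decide +kernel
theorem c20002974 : chkDer M20072 [([1,2,4,32,8,64,144,784],[70,2,75,103,77,5,144,784]),([1,2,8,16,42,64,132,260,512],[1,2,16,24,42,88,387,173,684]),([70,2,75,103,5,128,16,256,512],[13,75,73,44,128,138,702,305,26]),([1,2,8,16,42],[1,2,16,24,42])] [(1,0,[129]),(1,1,[430]),(2,2,[94]),(2,3,[21])] ([785],[33]) = true := by decide +kernel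
theorem c20002982 : chkDer M20072 [([1,2,8,16,42,64,132,260,512],[1,2,16,24,42,88,387,173,684]),([70,2,75,103,5,128,16,256,512],[13,75,73,44,128,138,702,305,26]),([1,2,8,16,42],[1,2,16,24,42])] [(0,256,[]),(1,0,[441]),(1,1,[265]),(2,2,[21])] ([797],[33]) = true := by decide +kernel
theorem c20002887 : chkScM M20072 [1,2,8,16,42] [1,2,8,16,42,64,132,260] [1,2,8,16,42,64,132,260,512] [1,2,4,8,16] [1,2,4,8,16] = true := by decide +kernel
theorem c20003456 : chkDer M20072 [([1,2,8,16,42,64,132,260,512],[1,2,16,24,42,88,387,173,684])] [(1,0,[1,2,4,8,16,32,64,128,258])] ([1,2,8,16,42,64,132,260,514],[1,2,16,24,42,88,387,173,686]) = true := by decide +kernel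
theorem c20003453 : chkDer M20072 [([1,2,4,32,8,64,144,784],[70,2,75,103,77,5,144,784])] [(1,0,[1,2,4,8,16,32,64,130])] ([1,2,4,32,8,64,144,786],[70,2,75,103,77,5,144,786]) = true := by decide +kernel
theorem c20003116 : chkDer M20072 [([70,2,75,103,5,128,16,256,512],[13,75,73,44,128,138,702,378,26]),([1,2,8,16,42],[1,2,16,24,42])] [(2,0,[94]),(2,1,[21])] ([536],[33]) = true := by decide +kernel
theorem c20003642 : chkDer M20072 [] [(0,4,[])] ([1,2,8,16,42,64,132,260,512],[1,2,10,26,40,64,142,440,702]) = true := by decide +kernel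
theorem c20003648 : chkDer M20072 [] [(0,32,[])] ([1,2,8,16,42,64,132,260,512],[1,2,8,18,42,66,199,276,626]) = true := by decide +kernel
theorem c20003067 : chkDer M20072 [] [(0,33,[])] ([70,2,75,103,5,128,16,256,512],[70,2,75,103,5,128,18,331,585]) = true := by decide +kernel
theorem c20003657 : chkDer M20072 [] [(0,8,[])] ([1,2,4,32,8,64,144,784],[1,2,6,32,8,64,144,784]) = true := by decide +kernel
theorem c20003104 : chkDer M20072 [([1,2,4,32,8,64,144],[70,2,75,103,77,5,144]),([1,2,4,32],[1,4,6,32])] [(2,0,[96]),(0,256,[]),(2,1,[11]),(0,16,[])] ([149],[33]) = true := by decide +kernel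
theorem c20003400 : chkDer M20072 [([789,822,791,862,4,8,16,129,257],[822,104,820,893,249,245,488,688,95]),([1,2,4,32,8,64,144],[70,2,75,103,77,5,144])] [(2,0,[35]),(2,1,[44])] ([937],[100]) = true := by decide +kernel
theorem c20003372 : chkDer M20072 [([1,2,4,32,8,64,144],[70,2,75,103,77,5,144])] [(0,64,[]),(2,0,[54])] ([1],[78]) = true := by decide +kernel
theorem c20003384 : chkDer M20072 [([1,2,4,32,8,64,144],[70,2,75,103,77,5,144]),([1,2,8,16],[1,2,16,24])] [(1,0,[37]),(1,1,[4])] ([69],[16]) = true := by decide +kernel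
theorem c20002946 : chkDer M20072 [([1,2,4,32],[1,4,6,32])] [(2,0,[11]),(0,16,[])] ([37],[33]) = true := by decide +kernel
theorem c20003322 : chkDer M20072 [([1,2,4],[1,4,6])] [(2,0,[6]),(0,256,[])] ([2],[249]) = true := by decide +kernel
theorem c20003026 : chkDer M20072 [([1,2,4],[1,4,6])] [(0,64,[]),(1,0,[3])] ([1],[5]) = true := by decide +kernel
theorem c20003368 : chkDer M20072 [([1,2,4],[1,4,6])] [(2,0,[6])] ([2],[6]) = true := by decide +kernel
theorem c20003334 : chkDer M20072 [([1,2,4],[1,4,6])] [(1,0,[2]),(0,512,[])] ([2],[184]) = true := by decide +kernel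
theorem c20003360 : chkDer M20072 [([1,2,8,16],[1,2,16,24])] [(1,0,[4])] ([8],[16]) = true := by decide +kernel
theorem c20003073 : chkDer M20072 [([1,2,4,32,8,64,144],[70,2,75,103,77,5,144])] [(1,0,[1])] ([1],[70]) = true := by decide +kernel
theorem c20003197 : chkDer M20072 [] [(0,8,[])] ([49],[51]) = true := by decide +kernel
theorem c20003217 : chkDer M20072 [] [(0,257,[])] ([536],[751]) = true := by decide +kernel
theorem c20003291 : chkDer M20072 [] [(0,16,[])] ([33],[35]) = true := by decide +kernel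
theorem c20003416 : chkDer M20072 [] [(0,192,[])] ([1],[64]) = true := by decide +kernel
theorem c20003042 : chkDer M20072 [] [(0,640,[])] ([1],[48]) = true := by decide +kernel

end Cfsg.Lib.L33E
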