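import Cfsg.Agent.L33E.Loc
import Cfsg.Agent.L33E.FrA

/-!
# The certified climb: Frattini arguments
-/

set_option autoImplicit false

namespace Cfsg.Lib.L33E

variable {G : Type*} [Group G] {M : Md} {gs : List G} {X : Subgroup G} {s : ℕ} {D : Tw} {E : Env}

open Xs Der Loc

namespace Frat

open Subgroup

theorem by_map (C : Ch M gs) {bs ms as : List ℕ} (hb : ∀ x ∈ bs, x < M.N)
    (h : M.by bs ms as = true) : as.map (evL gs) = ms.map (evL (bs.map (evL gs))) := by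
  rw [by_iff.1 h, map_ev C hb]

theorem by_mem (C : Ch M gs) {bs ms as : List ℕ} (hb : ∀ x ∈ bs, x < M.N)
    (h : M.by bs ms as = true) : ∀ a ∈ as.map (evL gs), a ∈ gen (bs.map (evL gs)) := fun a ha => by
  rw [by_map C hb h] at ha
  obtain ⟨m, -, rfl⟩ := List.mem_map.1 ha
  exact evL_mem _ m

theorem map_cj (C : Ch M gs) {bs : List ℕ} (hb : ∀ x ∈ bs, x < M.N) {w : ℕ} (hw : w < M.N) :
    (bs.map fun b => M.cj b w).map (evL gs) =
      (bs.map (evL gs)).map fun b => (evL gs w)⁻¹ * b * evL gs w := by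
  rw [List.map_map, List.map_map]
  exact List.map_congr_left fun y hy => C.cj_eq (hb y hy) hw

theorem map_evL {g : G} {xs ys : List G} (h : Cj g xs ys) (ms : List ℕ) :
    ms.map (evL ys) = (ms.map (evL xs)).map fun x => g⁻¹ * x * g := by
  rw [List.map_map]
  exact List.map_congr_left fun m _ => (h.evL m).symm

theorem nrm (C : Ch M gs) {bs as qs : List ℕ} {nw : List (ℕ × List ℕ)} {mq : ℕ} {g : G}
    {Q : Subgroup G} (hb : ∀ x ∈ bs, x < M.N) (ha : ∀ x ∈ as, x < M.N) (hq : ∀ x ∈ qs, x < M.N)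
    (hg : Cj g (bs.map (evL gs)) (as.map (evL gs)))
    (hm : ∀ x < M.N, bit mq x = true → evL gs x ∈ Q) (h : all2 (nrmT M bs as mq) qs nw = true) :
    ∀ q ∈ qs.map (evL gs), (∀ b ∈ bs.map (evL gs), q⁻¹ * b * q ∈ gen (bs.map (evL gs))) ∧
      ∃ q' ∈ Q, ∀ b ∈ bs.map (evL gs), g⁻¹ * (q⁻¹ * b * q) * g = q'⁻¹ * (g⁻¹ * b * g) * q' := by
  intro q hq'
  obtain ⟨y, hy, rfl⟩ := List.mem_map.1 hq'
  obtain ⟨i, hi, rfl⟩ := List.getElem_of_mem hy
  have h' := all2_iff.1 h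
  have := h'.get (i := i) hi (h'.length_eq ▸ hi)
  generalize nw.get _ = e at this
  simp only [nrmT, Bool.and_eq_true, mapK_eq, Nat.blt_eq, List.get_eq_getElem] at this
  obtain ⟨⟨⟨a, b⟩, c⟩, d⟩ := this
  have c' := by_map C hb c
  have d' := by_map C ha d
  rw [map_cj C hb (hq _ hy)] at c'
  rw [map_cj C ha a, map_evL hg, ← c', cj_iff.1 hg, List.map_map (l := bs.map (evL gs)),
    List.map_map (l := bs.map (evL gs)), List.map_inj_left] at d'
  refine ⟨fun z hz => by_mem C hb c _ ?_, _, hm _ a b, fun z hz => (d' z hz).symm⟩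
  rw [map_cj C hb (hq _ hy)]
  exact List.mem_map_of_mem hz

theorem card_le_inf [Finite G] (T : Sylow 2 G) {C V : Subgroup G}
    (hT : (T : Subgroup G) ≤ normalizer (C : Set G)) (hV : IsPGroup 2 V) (hVC : V ≤ C) :
    Nat.card V ≤ Nat.card ↥((T : Subgroup G) ⊓ C) := by
  obtain ⟨P, hP⟩ := (hV.comap_subtype (K := normalizer (C : Set G))).exists_le_sylow
  obtain ⟨n, hn⟩ := MulAction.exists_smul_eq (normalizer (C : Set G)) P (T.subtype hT)
  rw [← card_map_of_injective (f := (MulAut.conj (n : G)).toMonoidHom)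
    (MulAut.conj (n : G)).injective]
  refine card_le_of_le ?_
  rintro _ ⟨v, hv, rfl⟩
  refine ⟨?_, (mem_normalizer_iff.1 n.2 v).1 (hVC hv)⟩
  have : n * ⟨v, le_normalizer (hVC hv)⟩ * n⁻¹ ∈ (T.subtype hT : Subgroup _) := by
    rw [← hn]
    exact ⟨⟨v, le_normalizer (hVC hv)⟩, hP hv, rfl⟩
  exact this

theorem all_cen (C : Ch M gs) {ab : List (ℕ × ℕ)} (hb : ∀ p ∈ ab, p.1 < M.N ∧ p.2 < M.N)
    {k : List ℕ → Bool} (h : filN (fun _ => true) M.N (filC M ab k) = true) :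
    ∃ V, k V = true ∧ ∀ y < M.N,
      (∀ p ∈ ab, evL gs y * evL gs p.1 = evL gs p.2 * evL gs y) → y ∈ V := by
  rw [filN_eq] at h
  obtain ⟨V, e, hV⟩ := filC_eq M ab k ((List.range M.N).filter fun _ => true)
  refine ⟨V, e ▸ h, fun y hy hc => hV.mem_iff.2 (List.mem_filter.2 ⟨by simpa using hy, ?_⟩)⟩
  exact List.all_eq_true.2 fun p hp => (C.cjT_iff (hb p hp).1 (hb p hp).2 hy).2 (hc p hp)

end Frat

open Frat

theorem maxc_sc (C : Ch M gs) {as bs qs m1 m2 : List ℕ} (hs : SC (as.map (evL gs)))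
    (h : chkScM M as bs qs m1 m2 = true) : MaxC (bs.map (evL gs)) (qs.map (evL gs)) := by
  simp only [chkScM, Bool.and_eq_true, bnd_iff] at h
  obtain ⟨⟨⟨h1, h2⟩, h3⟩, h4⟩ := h
  intro V hV hc _ v hv
  obtain ⟨k, hk⟩ := hV ⟨v, hv⟩
  exact (Subgroup.closure_le _).2 (by_mem C h2 h4) (hs v ⟨k, congrArg Subtype.val hk⟩
    fun x hx => (comm_gen (fun b hb => hc hv b hb) (by_mem C h1 h3 x hx)).symm)

theorem maxc_syl [Finite G] (C : Ch M gs) (hs : Syl gs) {bs qs : List ℕ}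
    (h : chkSyM M bs qs = true) : MaxC (bs.map (evL gs)) (qs.map (evL gs)) := by
  simp only [chkSyM, Bool.and_eq_true] at h
  obtain ⟨hb, -, mb, h1, h2⟩ := C.sub h.1
  obtain ⟨hq, -, mq, h3, h4⟩ := C.sub h.2
  simp only [allL_iff] at h1
  obtain ⟨W, h5, h6⟩ := all_cen C (fun p hp => ⟨hb _ (List.of_mem_zip hp).1,
    hb _ (List.of_mem_zip hp).2⟩) h3
  obtain ⟨T, hT⟩ := hs
  have hN : gen gs ≤ Subgroup.normalizer (gen (bs.map (evL gs)) : Set G) := by
    refine (Subgroup.closure_le _).2 fun g hg => ?_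
    rw [← gens_map gs, C.len] at hg
    obtain ⟨y, hy, rfl⟩ := List.mem_map.1 hg
    rw [SetLike.mem_coe, ← inv_mem_iff]
    refine Subgroup.mem_normalizer_fintype fun x hx => ?_
    rw [inv_inv]
    refine conj_gen (fun z hz => ?_) hx
    obtain ⟨b, hb', rfl⟩ := List.mem_map.1 hz
    rw [← C.cj_eq (hb b hb') (C.gens_lt y hy)]
    exact ((h2 _).1 (h1 y hy b hb')).2
  have hN' : (T : Subgroup G) ≤
      Subgroup.normalizer (Subgroup.centralizer {x | x ∈ bs.map (evL gs)} : Set G) := by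
    rw [hT, ← Subgroup.centralizer_closure]
    intro g hg
    refine Subgroup.mem_normalizer_fintype fun c hc x hx => ?_
    have := hc _ ((Subgroup.mem_normalizer_iff.1 (inv_mem (hN hg)) x).1 hx)
    rw [show x * (g * c * g⁻¹) = g * (g⁻¹ * x * g⁻¹⁻¹ * c) * g⁻¹ by group, this]; group
  intro V hV hc hle
  have h7 : (T : Subgroup G) ⊓ Subgroup.centralizer {x | x ∈ bs.map (evL gs)} ≤
      gen (qs.map (evL gs)) := by
    rintro x ⟨a, b⟩
    obtain ⟨y, hy, rfl⟩ := C.mem_iff.1 (hT ▸ a)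
    refine ((h4 y).1 (allL_iff.1 h5 y (h6 y hy fun p hp => ?_))).2
    have e : p.2 = p.1 := by
      obtain ⟨i, hi, rfl⟩ := List.getElem_of_mem hp
      rw [List.getElem_zip]
    rw [e]
    exact (b _ (List.mem_map_of_mem (List.of_mem_zip hp).1)).symm
  rw [← Subgroup.eq_of_le_of_card_ge ((le_inf inf_le_right h7).trans hle) (card_le_inf T hN' hV hc)]
  exact h7

theorem frat [Finite G] (C : Ch M gs) (hE : EnvOK E gs) {bs as qs xs : List ℕ}
    {nw : List (ℕ × List ℕ)} {Ls : List Lv} {outs : List Pr}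
    (hm : MaxC (bs.map (evL gs)) (qs.map (evL gs))) (hF : FusC gs (bs, as))
    (h : chkFrat M E bs as qs xs nw Ls outs = true) : AnyL outs (FusC gs) := by
  simp only [chkFrat, Bool.and_eq_true, eqL_iff, bnd_iff, preOK, allL_iff] at h
  obtain ⟨⟨⟨h1, h2⟩, ha⟩, h3⟩ := h
  obtain ⟨hb, -, mb, h4, h5⟩ := C.sub h3
  simp only [Bool.and_eq_true] at h4
  obtain ⟨hq, -, mq, h6, h7⟩ := C.sub h4.2
  simp only [Bool.and_eq_true] at h6
  obtain ⟨g, hg⟩ := hF
  obtain ⟨k, hk, hn⟩ := frat_abs (C.isP.to_le gen_le) hm hg (fun a h => by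
      obtain ⟨y, hy, rfl⟩ := List.mem_map.1 h
      exact ((h5 y).1 (allL_iff.1 h4.1 y hy)).2)
    (nrm C hb ha hq hg (fun x _ h => ((h7 x).1 h).2) h6.1.2)
  obtain ⟨g', -, o, ho, hg'⟩ := dfs_sound C hE
    (fun k => ∀ x ∈ gen (qs.map (evL gs)), k⁻¹ * x * k ∈ gen (qs.map (evL gs))) (g := k) (st := as)
    (fun a b ha hb a' b' => (h7 _).2 ⟨C.lt _ _ (C.ilt _ ha) hb, by
      rw [C.mul _ _ (C.ilt _ ha) hb, C.inv _ ha]
      exact mul_mem (inv_mem ((h7 a).1 a').2) ((h7 b).1 b').2⟩)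
    (fun k hk x hx => by
      have a := hk _ ((h7 x).1 (allL_iff.1 h6.1.1 x hx)).2
      obtain ⟨y, hy, e⟩ := C.mem_iff.1 (gen_le a)
      exact ⟨y, hy, e.symm, (h7 y).2 ⟨hy, e ▸ a⟩⟩)
    (fun k w _ a hk x hx => by
      have b := ((h7 w).1 a).2
      rw [show (k * evL gs w)⁻¹ * x * (k * evL gs w) =
        (evL gs w)⁻¹ * (k⁻¹ * x * k) * evL gs w by group]
      exact mul_mem (mul_mem (inv_mem b) (hk x hx)) b)
    (fun _ _ _ _ _ => Nat.zero_le _) h6.2 hn (List.mem_singleton_self _) (h1 ▸ hk)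
  obtain ⟨F, hF, rfl⟩ := List.mem_map.1 ho
  exact AnyL_iff.2 ⟨F, hF, g', by rw [h2 F hF]; exact hg'⟩

end Cfsg.Lib.L33E
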