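import Cfsg.Agent.L33E.Stab
import Cfsg.Agent.L33E.Der

/-!
# The certified climb: the extension step
-/

set_option autoImplicit false

namespace Cfsg.Lib.L33E

variable {G : Type*} [Group G] {M : Md} {gs : List G} {X : Subgroup G} {s : ℕ} {D : Tw}

namespace KidA

theorem ev_head (gs : List G) (β : List ℕ) : evL gs (β.headD 0) = evL (β.map (evL gs)) 1 := by
  cases β with
  | nil => exact evL_zero _
  | cons a l => simp [evL_cons, evL_zero]

theorem head_lt (C : Ch M gs) {β : List ℕ} (h : ∀ x ∈ β, x < M.N) : β.headD 0 < M.N := by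
  cases β with
  | nil => exact C.pos
  | cons a l => exact h a List.mem_cons_self

theorem not_cent [Finite G] (S : St X s D gs) (C : Ch M gs) {g : G}
    (h1 : ∀ x ∈ gen gs, g⁻¹ * x * g ∈ gen gs) (h2 : g ∉ gen gs) (h3 : g * g ∈ gen gs)
    (h4 : Commute g (evL gs 1)) : False := by
  set H := Subgroup.centralizer {evL gs 1}
  have hH : ∀ {u}, u ∈ H ↔ Commute u (evL gs 1) := Subgroup.mem_centralizer_singleton_iff
  have hn : g ∈ Subgroup.normalizer (gen gs : Set G) := by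
    rw [← inv_mem_iff]
    exact Subgroup.mem_normalizer_fintype fun x hx => by simpa using h1 x hx
  have hz : IsPGroup 2 (Subgroup.zpowers g) := by
    obtain ⟨k, hk⟩ := C.isP ⟨_, h3⟩
    have : g ^ 2 ^ (k + 1) = 1 := by
      rw [pow_succ', pow_mul, sq]; exact congrArg Subtype.val hk
    obtain ⟨j, -, e⟩ := (Nat.dvd_prime_pow Nat.prime_two).1 (orderOf_dvd_of_pow_eq_one this)
    exact IsPGroup.of_card (by rw [Nat.card_zpowers, e])
  have hp := (IsPGroup.to_sup_of_normal_left' C.isP hz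
    (Subgroup.zpowers_le.2 hn)).to_inf_left (K := H)
  have k1 := S.card_le hp fun u hu => hH.1 hu.2
  have k2 := C.le_card (U := gen gs ⊓ H) (l := List.range (2 ^ s)) List.nodup_range fun y hy =>
    ⟨(List.mem_range.1 hy).trans_le (S.pow_le C), evL_mem _ _, hH.2 (S.cen y (List.mem_range.1 hy))⟩
  rw [List.length_range] at k2
  have k3 := Subgroup.eq_of_le_of_card_ge (inf_le_inf_right H le_sup_left) (k1.trans k2)
  exact h2 (k3.ge ⟨Subgroup.mem_sup_right (Subgroup.mem_zpowers g), hH.2 h4⟩).1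

end KidA

open KidA Stab

theorem kid_of [Finite G] (S : St X s D gs) (C : Ch M gs) {xs ms : List ℕ}
    {leaves : List (List ℕ × List (ℕ × ℕ × ℕ))} {kids : List Kd}
    (h : chkKid M D s xs ms leaves kids = true) {g : G} (hg : Up gs g)
    {lf : List ℕ × List (ℕ × ℕ × ℕ)} (hl : lf ∈ leaves)
    (hc : Cj g (xs.map (evL gs)) (lf.1.map (evL gs))) : AnyL kids (Kid D gs) := by
  simp only [chkKid, Bool.and_eq_true, allL_iff, bnd_iff, Bool.or_eq_true, eqL_iff] at h
  obtain ⟨⟨⟨hxs, hms⟩, hk⟩, hlf⟩ := h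
  obtain ⟨⟨-, hb⟩, h⟩ := hlf lf hl
  obtain ⟨g1, g2, g3⟩ := hg
  have h1 : 1 < M.N := lt_of_lt_of_le (Nat.one_lt_two_pow (by have := S.s5; omega)) (S.pow_le C)
  have hgens : (gens M.n).map (evL gs) = gs := by rw [← C.len, gens_map]
  simp only [leafK, mapK_eq, frc_eq, Bool.or_eq_true, Nat.beq_eq, Md.rm_eq, filN_eq] at h
  set β := ms.map (M.ev lf.1) with hβ
  have βb : ∀ x ∈ β, x < M.N := List.forall_mem_map.2 fun m _ => C.ev_lt hb m
  have cβ : Cj g gs (β.map (evL gs)) := by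
    have e := map_ev C hxs ms
    rw [by_map hms, hgens] at e
    rw [cj_iff, hβ, map_ev C hb]
    conv_lhs => rw [e, List.map_map]
    exact List.map_congr_left fun m _ => hc.evL m
  have φ : ∀ x, evL gs (M.ev β x) = g⁻¹ * evL gs x * g := fun x => by rw [C.ev_eq βb, cβ.evL]
  rcases h with h | h
  · have hw := C.wlt _ (head_lt C βb)
    have e := C.cj_eq (head_lt C βb) hw
    rw [h, ev_head, ← cβ.evL] at e
    generalize hw' : evL gs (l1 M.W (β.headD 0)) = w at e
    have wP : w ∈ gen gs := hw' ▸ evL_mem _ _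
    refine (not_cent S C (g := g * w) (fun x hx => ?_) (fun e => g2 ((mul_mem_cancel_right wP).1 e))
      ?_ ?_).elim
    · rw [show (g * w)⁻¹ * x * (g * w) = w⁻¹ * (g⁻¹ * x * g) * w by group]
      exact mul_mem (mul_mem (inv_mem wP) (g1 x hx)) wP
    · rw [show g * w * (g * w) = g * g * (g⁻¹ * w * g) * w by group]
      exact mul_mem (mul_mem g3 (g1 w wP)) wP
    · change _ = _
      conv_lhs => rw [e]
      group
  set β2 := β.map (M.ev β) with hβ2
  have βb2 : ∀ x ∈ β2, x < M.N := List.forall_mem_map.2 fun m _ => C.ev_lt βb m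
  have cβ2 : Cj (g * g) gs (β2.map (evL gs)) := cj_mul cβ (by
    rw [cj_iff, hβ2, List.map_map (l := β), List.map_map (l := β)]
    exact List.map_congr_left fun m _ => (φ m).symm)
  have he := head_lt C βb2
  have ee : evL gs (β2.headD 0) = (g * g)⁻¹ * evL gs 1 * (g * g) := by rw [ev_head, cβ2.evL]
  generalize β2.headD 0 = e at h he ee
  obtain ⟨q, hq, eq⟩ := C.mem_iff.1 g3
  have hlab : (!Nat.beq (l1 M.Lab 1) 0 && !Nat.beq (l1 M.Lab e) (l1 M.Lab 1)) = false := by
    by_contra hn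
    simp only [Bool.not_eq_false, Bool.and_eq_true, Bool.not_eq_true', ← Bool.not_eq_true,
      Nat.beq_eq, ne_eq, not_not] at hn
    refine hn.2 ?_
    rw [← C.lab 1 q h1 hq hn.1, C.inj _ _ (C.cj_lt h1 hq) he (by rw [C.cj_eq h1 hq, eq, ee])]
  rw [hlab, cond_false, Bool.and_eq_true, Nat.beq_eq] at h
  have hw := C.lt _ _ (C.wlt _ he) (C.ilt _ (C.wlt _ h1))
  generalize M.mul (l1 M.W e) (M.inv (l1 M.W 1)) = w at h hw
  obtain ⟨ew, h⟩ := h
  replace ew := congrArg (evL gs) ew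
  rw [C.mul _ _ hw h1, C.mul _ _ he hw, ee] at ew
  obtain ⟨V, e1, e2⟩ := filC_eq M ((gens M.n).zip β2)
    (allL fun sq => !Nat.beq (M.ev β sq) sq || anyL (kidE M β kids sq) lf.2)
    (((List.range (pw s)).filter fun _ => true).map fun u => M.inv (M.mul u (M.inv w)))
  rw [e1, allL_iff] at h
  have hsq := C.ilt _ hq
  have esq : evL gs (M.inv q) = (g * g)⁻¹ := by rw [C.inv _ hq, eq]
  have hu := C.lt _ _ hq hw
  have hV : M.inv q ∈ V := by
    rw [e2.mem_iff, List.mem_filter, List.all_eq_true]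
    refine ⟨List.mem_map.2 ⟨M.mul q w, ?_, ?_⟩, fun p hp => ?_⟩
    · simp only [List.filter_true, List.mem_range, pw_eq]
      refine S.lt_of_comm C hu ?_
      rw [C.mul _ _ hq hw, eq]
      change _ = _
      rw [mul_assoc, ew]; group
    · have := C.lt _ _ hu (C.ilt _ hw)
      refine C.inj _ _ (C.ilt _ this) hsq ?_
      rw [C.inv _ this, C.mul _ _ hu (C.ilt _ hw), C.mul _ _ hq hw, C.inv _ hw, C.inv _ hq]; group
    · have hp' := List.of_mem_zip hp
      rw [C.cjT_iff (C.gens_lt _ hp'.1) (βb2 _ hp'.2) hsq, esq]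
      have c := cβ2
      rw [Cj] at c
      conv at c => arg 2; rw [← hgens]
      rw [List.forall₂_map_left_iff, List.forall₂_map_right_iff] at c
      rw [← List.forall₂_zip c hp]; group
  have := h _ hV
  rw [Bool.or_eq_true, Bool.not_eq_true', ← Bool.not_eq_true, C.beq_iff (C.ev_lt βb _) hsq, φ, esq,
    anyL_iff] at this
  obtain ⟨a, -, ha⟩ := this.resolve_left (not_not.2 (by group))
  simp only [kidE, Bool.and_eq_true, Nat.beq_eq, Nat.blt_eq, all2_iff] at ha
  obtain ⟨⟨⟨⟨-, a1⟩, a2⟩, a3⟩, a4⟩ := ha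
  have hkd : kids.getD a.2.2 ([], [], 0) ∈ kids := by
    rw [List.getD_eq_getElem _ _ a2]; exact List.getElem_mem _
  generalize kids.getD a.2.2 ([], [], 0) = kd at a3 a4 hkd
  obtain ⟨hσ, hS⟩ : (∀ x ∈ kd.1, x < M.N) ∧ Sat D (kd.1.map (evL gs)) := by
    rcases (hk kd hkd).2 with e | e
    · rw [e, hgens]; exact ⟨C.gens_lt, S.sat⟩
    · exact ⟨(C.low (Bool.and_eq_true_iff.1 e).2).1, rb_sat C e⟩
  refine AnyL_iff.2 ⟨kd, hkd, evL gs a.2.1 * g⁻¹, hS.snoc ?_ ?_ fun m e => g2 ?_⟩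
  · rw [List.forall₂_map_left_iff]
    refine a3.imp fun x b e => ?_
    replace e := congrArg (evL gs) e
    rw [C.mul _ _ a1 (C.ev_lt βb _), C.mul _ _ (C.ev_lt hσ _) a1, φ, C.ev_eq hσ] at e
    rw [← mul_inv_eq_iff_eq_mul.2 e]; group
  · replace a4 := congrArg (evL gs) a4
    rw [C.mul _ _ (C.lt _ _ a1 (C.ev_lt βb _)) hsq, C.mul _ _ a1 (C.ev_lt βb _), φ, esq,
      C.ev_eq hσ] at a4
    rw [← a4]; group
  · rw [← C.ev_eq hσ] at e
    rw [← inv_mem_iff, ← mul_mem_cancel_left (evL_mem gs a.2.1), e]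
    exact evL_mem _ _

end Cfsg.Lib.L33E
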