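import Cfsg.Agent.L33E.Frat
import Cfsg.Agent.L33E.Kid

/-!
# The certified climb: passing to a larger 2-subgroup
-/

set_option autoImplicit false

namespace Cfsg.Lib.L33E

variable {G : Type*} [Group G] {M : Md} {gs : List G} {X : Subgroup G} {s : ℕ} {D : Tw} {E : Env}

open Xs Der Loc Frat

namespace Lift

theorem core [Finite G] (S : St X E.s D gs) (C : Ch M gs) (hE : EnvOK E gs) {xs : List ℕ}
    {Ls : List Lv} {stops : List Pr} {ms : List ℕ}
    {leaves : List (List ℕ × List (ℕ × ℕ × ℕ))} {kids : List Kd} {lb m : ℕ} {sts : List (List ℕ)}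
    (hp : preOK xs stops = true) (hk : chkKid M D E.s xs ms leaves kids = true)
    (hlb : ∀ g, Up gs g → ∀ y < M.N, g⁻¹ * evL gs (xs.headD 0) * g = evL gs y →
      lb ≤ ((List.range M.N).filter fun u => bit (full M.N) u && M.cm u y).length)
    (h : dfs M E (full M.N) (full M.N) xs Ls lb m sts
      (stops.map Prod.snd ++ leaves.map Prod.fst) = true) {g : G} (hg : Up gs g) {st : List ℕ}
    (hst : st ∈ sts) (hc : Cj g ((xs.take m).map (evL gs)) (st.map (evL gs))) :
    AnyL stops (FusC gs) ∨ AnyL kids (Kid D gs) := by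
  obtain ⟨g', hg', o, ho, hc'⟩ := dfs_sound C hE (Up gs)
    (fun a b ha hb _ _ => (bit_full _ _).2 (C.lt _ _ (C.ilt _ ha) hb))
    (fun k hk x _ => by
      obtain ⟨y, hy, e⟩ := C.mem_iff.1 (hk.1 _ (evL_mem gs x))
      exact ⟨y, hy, e.symm, (bit_full _ _).2 hy⟩)
    (fun k w _ _ hk => hk.mul (evL_mem gs w)) hlb h hg hst hc
  rcases List.mem_append.1 ho with ho | ho
  · obtain ⟨F, hF, rfl⟩ := List.mem_map.1 ho
    exact Or.inl (AnyL_iff.2 ⟨F, hF, g', by rw [eqL_iff.1 (allL_iff.1 hp F hF)]; exact hc'⟩)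
  · obtain ⟨lf, hl, rfl⟩ := List.mem_map.1 ho
    refine Or.inr (kid_of S C hk hg' hl ?_)
    simp only [chkKid, Bool.and_eq_true, allL_iff, Nat.beq_eq] at hk
    rwa [(hk.2 lf hl).1.1, List.take_length] at hc'

end Lift

theorem lift [Finite G] (S : St X E.s D gs) (C : Ch M gs) (hE : EnvOK E gs) {bs as xs : List ℕ}
    {nw : List (ℕ × List ℕ)} {w2 : ℕ} {m2 : List ℕ} {Ls : List Lv} {stops : List Pr} {ms : List ℕ}
    {leaves : List (List ℕ × List (ℕ × ℕ × ℕ))} {kids : List Kd}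
    (hm : MaxC (bs.map (evL gs)) ((gens M.n).map (evL gs))) (hF : FusC gs (bs, as))
    (h : chkLift M D E bs as xs nw w2 m2 Ls stops ms leaves kids = true) :
    AnyL stops (FusC gs) ∨ AnyL kids (Kid D gs) := by
  simp only [chkLift, Bool.and_eq_true, eqL_iff, bnd_iff, mapK_eq, frc_eq, Nat.blt_eq] at h
  obtain ⟨⟨⟨⟨⟨⟨⟨⟨⟨h1, h2⟩, hb⟩, ha⟩, hw⟩, h3⟩, h4⟩, h5⟩, h6⟩, h7, h8⟩ := h
  obtain ⟨g, hg⟩ := hF
  have hn := nrm C (Q := gen gs) hb ha C.gens_lt hg (fun x _ _ => evL_mem gs x) h7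
  have e : (gens M.n).map (evL gs) = gs := by rw [← C.len, gens_map]
  rw [e] at hm hn
  obtain ⟨V, h9, h10⟩ := all_cen C (fun p hp => ⟨ha _ (List.of_mem_zip hp).1,
    hb _ (List.of_mem_zip hp).2⟩) h5
  obtain ⟨k, hk, hu⟩ := lift_abs C.isP hm hg (by_mem C hb h3) hn (fun w hw hc => by
      obtain ⟨y, hy, rfl⟩ := C.mem_iff.1 hw
      have := h10 y hy fun p hp => by
        obtain ⟨i, hi, rfl⟩ := List.getElem_of_mem hp
        rw [List.length_zip, lt_min_iff] at hi
        have := hc.get (i := i) (by simpa using hi.2) (by simpa using hi.1)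
        simp only [List.get_eq_getElem, List.getElem_map] at this
        rw [List.getElem_zip, ← this]; group
      rw [List.isEmpty_iff.1 h9] at this
      exact List.not_mem_nil this) (by
      have a := by_map C ha h4
      rw [map_cj C hb hw, map_evL hg, ← by_map C hb h3, cj_iff.1 hg,
        List.map_map (l := bs.map (evL gs)), List.map_inj_left] at a
      exact ⟨_, evL_mem gs w2, fun b hb => (a b hb).symm⟩)
  exact Lift.core S C hE h2 h6 (fun _ _ _ _ _ => Nat.zero_le _) h8 hu (List.mem_singleton_self _)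
    (h1 ▸ hk)

theorem sylm [Finite G] (S : St X E.s D gs) (C : Ch M gs) (hE : EnvOK E gs) {xs : List ℕ} {zi : ℕ}
    {reps : List ℕ} {Ls : List Lv} {stops : List Pr} {ms : List ℕ}
    {leaves : List (List ℕ × List (ℕ × ℕ × ℕ))} {kids : List Kd}
    (h : chkSyl M D E xs zi reps Ls stops ms leaves kids = true) :
    Syl gs ∨ AnyL stops (FusC gs) ∨ AnyL kids (Kid D gs) := by
  simp only [chkSyl, Bool.and_eq_true, frc_eq, Nat.blt_eq, Nat.beq_eq, allN_iff, Bool.or_eq_true,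
    memN_iff, Bool.not_eq_true'] at h
  obtain ⟨⟨⟨⟨⟨⟨h0, h2⟩, h3⟩, h4⟩, h5⟩, h6⟩, h7⟩ := h
  refine (syl_or_up C.isP).imp_right fun ⟨k, hk⟩ => ?_
  obtain ⟨e, he, ee⟩ := C.mem_iff.1 (hk.1 _ (evL_mem gs 1))
  have hcf : CF gs (E.cf.getD zi (0, 0)) := AllL_iff.1 hE.2.2.1 _ (by
    rw [List.getD_eq_getElem _ _ h3]; exact List.getElem_mem h3)
  have hZ := hcf k e ((lt_pow C).2 he) (by rw [h4, ee])
  have hg := hk.mul (evL_mem gs (l1 M.W e))
  have eg : (k * evL gs (l1 M.W e))⁻¹ * evL gs 1 * (k * evL gs (l1 M.W e)) =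
      evL gs (M.cj e (l1 M.W e)) := by
    rw [C.cj_eq he (C.wlt e he), ee]; group
  have N := S.pow_le C
  rcases h5 e he with a | a | a
  · rw [hZ] at a; exact absurd a (by decide)
  · rw [a, mul_assoc, inv_mul_eq_iff_eq_mul] at eg
    exact (KidA.not_cent S C hg.1 hg.2.1 hg.2.2 eg.symm).elim
  refine Lift.core S C hE h2 h6 (fun g hg y hy ey => ?_) h7 hg
    (List.mem_map_of_mem (f := fun e => [e]) a) ?_
  · rw [h0] at ey
    have b := C.le_card (U := gen gs ⊓ Subgroup.centralizer {evL gs 1}) (l := List.range (2 ^ E.s))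
      List.nodup_range fun x hx => ⟨(List.mem_range.1 hx).trans_le N, evL_mem gs x,
        Subgroup.mem_centralizer_singleton_iff.2 (S.cen x (List.mem_range.1 hx))⟩
    rw [List.length_range, ← pw_eq] at b
    refine b.trans (card_le_of_codes gs g fun u hu => ?_)
    obtain ⟨x, hx, ex⟩ := C.mem_iff.1 (hg.1 u hu.1)
    refine ⟨x, List.mem_filter.2 ⟨List.mem_range.2 hx, ?_⟩, ex.symm⟩
    rw [Bool.and_eq_true, bit_full, C.cm_iff hx hy, ex, ← ey]
    exact ⟨hx, comm_conj (Subgroup.mem_centralizer_singleton_iff.1 hu.2) g⟩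
  · cases xs with
    | nil => exact absurd h0 (by decide)
    | cons x xs =>
      obtain rfl : x = 1 := h0
      exact List.Forall₂.cons eg List.Forall₂.nil

end Cfsg.Lib.L33E
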