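import Cfsg.Agent.L33E.R1C9

set_option autoImplicit false
set_option maxRecDepth 100000
set_option linter.all false
set_option Elab.async false

namespace Cfsg.Lib.L33E

theorem c20004572 : chkTT2 M20094 E20004569 L20004571 0x7aa0aa00000 [33,1] [1,2,4,8,32,64,144,512,1024] [2,4,97,545,547] 0 [⟨3,0,[⟨6,0,0,1⟩,⟨4,0,0,1⟩,⟨7,0,1,33⟩],1,2,false⟩] [] = true := by decide +kernel
theorem c20004553 : chkExt3 M20094 E20004542 [1024] [2,97,154,4,8,33,272,512] [] [4,37,49,256,512,545,547,805,1028,1304,1306,1536,1540,1542,1796] [2,33,97] [33,1] [] [⟨3,0,[⟨6,0,0,1⟩],1,2,false⟩] [1024,1026] = true := by decide +kernel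
theorem c20004538 : chkTT M20094 E20004312 0 L20004537 0x200002 M20094.W [1] [] [] 99 0 [] [] = true := by decide +kernel
theorem c20004544 : chkPhi M20094 8 2 [2,8,105,123,144,6,33,1,256,512,1024] [(2,1),(46,2),(153,4),(384,8),(289,16),(640,32),(1152,64)] [(0,0,0,46,33)] = true := by decide +kernel
theorem c20004549 : chkPhi M20094 8 33 [2,97,8,6,33,1,144,512,1024] [] [(0,288,0,0,0)] = true := by decide +kernel
theorem c20004465 : chkCF M20094 (1306,Z20004452) [1] = true := by decide +kernel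
theorem c20004530 : chkCF M20094 (1,Z20004104) [2,4,33,37,49,97,256,512,545,547,805,1024,1026,1028,1304,1306,1536,1540,1542,1796] = true := by decide +kernel
theorem c20004567 : chkCF M20094 (33,Z20004452) [1] = true := by decide +kernel
theorem c20004535 : chkX M20094 [([1,2,4],[1,4,6]),([1,2,8,16],[1,2,16,24]),([1,2,8,16,42,64,128,256],[1,2,16,24,42,88,458,169]),([1,2,4,32,64,512],[1,4,6,32,611,68])] [(2,0,2),(2,0,4),(2,1,4),(2,1,8),(2,2,64),(2,2,128),(2,3,16),(2,3,32),(1,1024,1)] [0,33,1057] = true := by decide +kernel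
theorem c20004587 : chkRb M20094 [1,2,4,8,16,32,64,128,256,512,1026] D20094 = true := by decide +kernel
theorem c20004432 : chkFrat M20094 E20000005 [1,2,4,32,64,512] [1,4,6,32,611,68] [1,2,4,32,64,512,1024] [1,2,4,32,64,512,1024] [(1,[1,2,4,8,18,38]),(0,[1,2,4,8,16,32]),(0,[1,2,4,8,16,32]),(1,[1,2,4,8,18,38]),(576,[3,2,4,10,16,32]),(64,[7,2,4,14,16,32]),(1024,[8,2,4,1,16,32])] [⟨0,0,[],0,0,false⟩,⟨0,0,[],0,0,false⟩,⟨0,0,[],0,0,false⟩,⟨0,0,[],0,0,false⟩,⟨0,0,[],0,0,false⟩,⟨2,0,[⟨0,1,8,0⟩,⟨0,16,16,0⟩],0,0,false⟩] [([1,2,4,32,64,512,1024],[1,4,6,32,611,68,1063]),([1,2,4,32,64,512,1024],[1,4,6,32,611,68,1061]),([1,2,4,32,64,512,1024],[1,4,6,32,611,68,1059]),([1,2,4,32,64,512,1024],[1,4,6,32,611,68,1057]),([1,2,4,32,64,512,1024],[1,4,6,32,611,68,1030]),([1,2,4,32,64,512,1024],[1,4,6,32,611,68,1028]),([1,2,4,32,64,512,1024],[1,4,6,32,611,68,1026]),([1,2,4,32,64,512,1024],[1,4,6,32,611,68,1024])] = true := by decide +kernel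
theorem c20004606 : chkStab M20094 [1,2,4,32,64,512,1024] [1] [1] [2,4,33] [([1,2,4,32,66,518,1057],[1,2,4,8,18,38,73]),([1,2,6,32,64,609,1024],[1,2,6,8,16,57,64]),([1,2,4,32,64,512,1057],[1,2,4,8,16,32,73]),([1,2,4,32,64,512,1059],[1,2,4,8,16,32,75])] [[1,2,4,32,64,512,1024],[1,2,4,32,66,518,1057],[1,2,6,32,64,609,1024],[1,2,4,32,64,512,1057],[1,2,4,32,64,512,1059],[1,2,6,32,66,613,1057],[1,2,4,32,66,518,1024],[1,2,4,32,66,518,1026],[1,2,6,32,64,609,1057],[1,2,6,32,64,609,1059],[1,2,4,32,64,512,1026],[1,2,6,32,66,613,1024],[1,2,6,32,66,613,1026],[1,2,4,32,66,518,1059],[1,2,6,32,64,609,1026],[1,2,6,32,66,613,1059]] [(0,0),(0,1),(0,2),(0,3),(1,1),(1,2),(1,3),(2,2),(2,3),(3,3),(5,2),(5,3),(6,3),(8,3),(11,3)] 4 64 = true := by decide +kernel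
theorem c20004473 : chkExtr M20094 E20004471 [805,1542] [⟨3,0,[⟨4,0,0,0⟩,⟨4,1,0,1⟩],0,0,false⟩] [] = true := by decide +kernel
theorem c20004588 : chkStK M20094 6 [1,2,4,8,16,32,64,128,256,512,1026] 0x21020000000000000000000000000000000000000000000000000000000000000000000000000000000000000000000001000 ([1,2,4],[1,4,6]) ([1,2,8,16],[1,2,16,24]) = true := by decide +kernel
theorem c20004613 : chkStK M20094 6 [1,2,4,8,16,32,64,128,256,512,1026] 0x21020000000000000000000000000000000000000000000000000000000000000000000000000000000000000000000001000 ([1,2,4],[1,4,6]) ([1,2,8,16],[1,2,16,24]) = true := by decide +kernel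
theorem c20004442 : chkBig M20094 6 2 [1,2,4,8,16,32,64] = true := by decide +kernel
theorem c20004446 : chkBig M20094 6 97 [2,4,8,16,33,64,128] = true := by decide +kernel
theorem c20004450 : chkBig M20094 6 1026 [2,4,8,33,64,144,272] = true := by decide +kernel
theorem c20004577 : chkDer M20094 [([1,2,4,32,64,512,1024],[1,4,6,32,611,68,1028])] [(1,0,[1,2,4,8,16,32,64]),(0,8,[]),(2,0,[1,4,2,8,59,38,70]),(0,8,[]),(1,0,[1,6,2,8,34,61,68])] ([1,2,4,32,64,512,1024],[1,2,4,32,64,512,1026]) = true := by decide +kernel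
theorem c20004582 : chkDer M20094 [([1,2,4,32,64,512,1024],[1,4,6,32,611,68,1026])] [(1,0,[1,2,4,8,16,32,64]),(0,8,[]),(2,0,[1,4,2,8,59,38,64]),(0,8,[]),(1,0,[1,6,2,8,34,61,64])] ([1,2,4,32,64,512,1024],[1,2,4,32,64,512,1026]) = true := by decide +kernel
theorem c20004607 : chkDer M20094 [([1,2,4,32,64,512,1024],[1,4,6,32,611,68,1059])] [(1,0,[1,2,4,8,16,32,64]),(1,0,[1,4,6,8,59,20,75]),(1,0,[1,6,2,8,34,61,70])] ([1,2,4,32,64,512,1024],[1,2,4,32,64,512,1057]) = true := by decide +kernel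
theorem c20004600 : chkDer M20094 [([1,2,4,32,64,512,1024],[1,4,6,32,611,68,1063])] [(2,0,[1,6,2,8,34,61,77]),(2,0,[1,4,6,8,59,20,70])] ([1,2,4,32,64,512,1024],[1,4,6,32,611,68,1030]) = true := by decide +kernel
theorem c20004579 : chkDer M20094 [([1,2,4,32,64,512,1024],[1,4,6,32,611,68,1028])] [(1,0,[1,2,4,8,16,32,64]),(0,8,[]),(1,0,[1,6,4,8,34,22,70])] ([1,2,4,32,64,512,1024],[1,2,6,32,64,609,1030]) = true := by decide +kernel
theorem c20004589 : chkTr M20094 [1,2,4,8,16,32,64,128,256,512,1026] ([1,2,4,32],[1,4,6,32]) ([1,2,4,32],[1,4,6,32]) = true := by decide +kernel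
theorem c20004591 : chkTr M20094 [1,2,4,8,16,32,64,128,256,512,1026] ([1,2,8,16,42,64],[1,2,16,24,42,88]) ([1,2,8,16,42,64],[1,2,16,24,42,88]) = true := by decide +kernel
theorem c20004593 : chkTr M20094 [1,2,4,8,16,32,64,128,256,512,1026] ([1,2,4,32,64,512],[1,4,6,32,611,68]) ([1,2,4,32,64,512],[1,4,6,32,611,68]) = true := by decide +kernel
theorem c20004599 : chkTr M20094 [1,2,4,8,16,32,64,128,256,512,1026] ([1,2,4,32,64,512,1024],[1,4,6,32,611,68,1030]) ([1,2,4,32,64,512,1026],[1,4,6,32,611,68,1028]) = true := by decide +kernel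
theorem c20004615 : chkTr M20094 [1,2,4,8,16,32,64,128,256,512,1026] ([1,2,8,16,42],[1,2,16,24,42]) ([1,2,8,16,42],[1,2,16,24,42]) = true := by decide +kernel
theorem c20004617 : chkTr M20094 [1,2,4,8,16,32,64,128,256,512,1026] ([1,2,8,16,42,64,128,256],[1,2,16,24,42,88,458,169]) ([1,2,8,16,42,64,128,256],[1,2,16,24,42,88,458,169]) = true := by decide +kernel
theorem c20004619 : chkTr M20094 [1,2,4,8,16,32,64,128,256,512,1026] ([1,2,8,16,42,64,128,256,1024],[1,2,16,24,42,88,458,169,1313]) ([1,2,8,16,42,64,128,256,1026],[1,2,16,24,42,88,458,169,1315]) = true := by decide +kernel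
theorem c20004429 : chkScM M20094 [1,2,4,32] [1,2,4,32,64,512] [1,2,4,32,64,512,1024] [1,2,4,8] [1,2,4,8] = true := by decide +kernel
theorem c20004594 : chkDer M20094 [([1,2,8,16,42,64,128,256,1024],[1,2,16,24,42,88,458,169,1313])] [(1,0,[1,2,4,8,16,32,64,128,258])] ([1,2,8,16,42,64,128,256,1026],[1,2,16,24,42,88,458,169,1315]) = true := by decide +kernel
theorem c20004597 : chkDer M20094 [([1,2,4,32,64,512,1024],[1,4,6,32,611,68,1024])] [(1,0,[1,2,4,8,16,32,66])] ([1,2,4,32,64,512,1026],[1,4,6,32,611,68,1028]) = true := by decide +kernel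
theorem c20004625 : chkDer M20094 [] [(0,4,[])] ([1,2,8,16,42,64,128,256,1024],[1,2,10,26,40,64,235,400,1024]) = true := by decide +kernel
theorem c20004629 : chkDer M20094 [] [(0,16,[])] ([1,2,8,16,42,64,128,256,1024],[1,2,10,16,42,66,225,355,1121]) = true := by decide +kernel
theorem c20004522 : chkDer M20094 [([1,2,4,32,64,512,1024],[1,4,6,32,611,68,1030])] [(0,1,[]),(1,0,[111]),(0,16,[])] ([1536],[1024]) = true := by decide +kernel
theorem c20004575 : chkDer M20094 [] [(0,8,[])] ([1,2,4,32,64,512,1024],[1,2,6,32,64,609,1024]) = true := by decide +kernel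
theorem c20004506 : chkDer M20094 [([1,2,4,32,64,512],[1,4,6,32,611,68]),([1,2,4],[1,4,6])] [(1,0,[41]),(0,144,[]),(2,1,[2])] ([545],[2]) = true := by decide +kernel
theorem c20004510 : chkDer M20094 [([1,2,4,32,64,512],[1,4,6,32,611,68])] [(1,0,[43])] ([547],[97]) = true := by decide +kernel
theorem c20004502 : chkDer M20094 [([1,2,4,32,64,512],[1,4,6,32,611,68])] [(0,272,[]),(1,0,[34]),(0,256,[])] ([512],[33]) = true := by decide +kernel
theorem c20004514 : chkDer M20094 [([1,2,4,32,64,512,1024],[1,4,6,32,611,68,1030])] [(1,0,[68])] ([1028],[1024]) = true := by decide +kernel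
theorem c20004490 : chkDer M20094 [([1,2,4],[1,4,6])] [(2,0,[2])] ([4],[2]) = true := by decide +kernel
theorem c20004482 : chkDer M20094 [] [(0,20,[])] ([256],[402]) = true := by decide +kernel

end Cfsg.Lib.L33E
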