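import Cfsg.Agent.L33E.R1C9

set_option autoImplicit false
set_option maxRecDepth 100000
set_option linter.all false
set_option Elab.async false

namespace Cfsg.Lib.L33E

theorem c20004546 : chkExt3 M20094 E20004542 [1024] [2,97,154,4,8,33,272,512] [] [4,37,49,256,512,545,547,805,1028,1304,1306,1536,1540,1542,1796] [2] [2] [1,2,4,8,16,32,64,128,256,512,1024] [] [33,97,1024,1026] = true := by decide +kernel
theorem c20004556 : chkExt3 M20094 E20004542 [1024] [2,97,154,4,8,33,272,512] [] [4,37,49,256,512,545,547,805,1028,1304,1306,1536,1540,1542,1796] [2,97] [97] [2,4,8,16,33,64,128,256,512,1024] [] [33,1024,1026] = true := by decide +kernel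
theorem c20004564 : chkTT M20094 E20004561 0 L20004563 0x20000000000 M20094.W [1024] [2,4,8,33,64,144,272,512,1024] [4,37,49,256,512,545,547,805] 99 0 [] [] = true := by decide +kernel
theorem c20004551 : chkPhi M20094 8 97 [2,8,105,144,4,16,33,256,512,1024] [] [(0,0,0,48,128)] = true := by decide +kernel
theorem c20004533 : chkSyl M20094 D20094 E20004312 [1,2,4,8,16,32,64,128,256,512,1024] 0 [] [⟨3,0,[],0,0,false⟩,⟨3,0,[],1,2,false⟩,⟨3,0,[],2,3,false⟩,⟨3,0,[],3,0,false⟩,⟨5,0,[],0,0,false⟩,⟨1,3,[],3,0,false⟩,⟨1,106,[],0,0,false⟩,⟨1,122,[],0,0,false⟩,⟨1,7,[],0,0,false⟩,⟨1,32,[],0,0,false⟩] [] [1,2,4,8,16,32,64,128,256,512,1024] [] [] = true := by decide +kernel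
theorem c20004424 : chkFrat M20094 E20000005 [1,2,8,16,42,64,128,256] [1,2,16,24,42,88,458,169] [1,2,8,16,42,64,128,256,1024] [1,2,8,16,42,64,128,256,1024] [(1,[1,2,4,8,16,34,113,187]),(0,[1,2,4,8,16,32,64,128]),(16,[1,2,4,10,16,32,66,181]),(24,[1,2,6,8,16,34,117,183]),(1,[1,2,4,8,16,34,113,187]),(88,[3,2,4,10,18,32,66,181]),(456,[48,2,6,63,35,34,64,130]),(128,[58,2,51,61,41,21,66,128]),(1288,[20,2,4,63,7,32,117,181])] [⟨0,0,[],0,0,false⟩,⟨0,0,[],0,0,false⟩,⟨0,0,[],0,0,false⟩,⟨0,0,[],0,0,false⟩,⟨0,0,[],0,0,false⟩,⟨0,0,[],0,0,false⟩,⟨0,0,[],0,0,false⟩,⟨2,0,[⟨0,1,20,0⟩,⟨0,4,4,0⟩,⟨0,8,63,0⟩,⟨0,32,32,0⟩,⟨1,0,0,0⟩],0,0,false⟩] [([1,2,8,16,42,64,128,256,1024],[1,2,16,24,42,88,458,169,1315]),([1,2,8,16,42,64,128,256,1024],[1,2,16,24,42,88,458,169,1313])] = true := by decide +kernel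
theorem c20004458 : chkCF M20094 (1542,Z20004452) [1] = true := by decide +kernel
theorem c20004480 : chkCF M20094 (256,Z20004452) [1] = true := by decide +kernel
theorem c20004559 : chkCF M20094 (1024,Z20004540) [1,2,33,97] = true := by decide +kernel
theorem c20004633 : chkStab M20094 [1,2,8,16,42,64,128,256,1024] [1] [1] [2,41] [([1,2,8,16,42,66,235,379,1057],[1,2,4,8,16,34,113,187,277]),([1,2,10,26,40,64,235,400,1024],[1,2,6,14,18,32,113,200,256]),([1,2,8,18,42,64,130,353,1024],[1,2,4,10,16,32,66,181,256]),([1,2,10,16,42,66,225,355,1121],[1,2,6,8,16,34,117,183,309]),([1,2,8,16,42,64,128,256,1026],[1,2,4,8,16,32,64,128,258])] [[1,2,8,16,42,64,128,256,1024],[1,2,8,16,42,66,235,379,1057],[1,2,10,26,40,64,235,400,1024],[1,2,8,18,42,64,130,353,1024],[1,2,10,16,42,66,225,355,1121],[1,2,8,16,42,64,128,256,1026],[1,2,10,26,40,66,128,483,1057],[1,2,8,18,42,66,233,280,1057],[1,2,10,16,42,64,136,282,1090],[1,2,8,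16,42,66,235,379,1059],[1,2,10,24,40,64,233,497,1024],[1,2,8,26,40,66,138,499,1121],[1,2,10,26,40,64,235,400,1026],[1,2,10,18,42,66,227,258,1121],[1,2,8,18,42,64,130,353,1026],[1,2,8,24,40,66,136,402,1121],[1,2,10,16,42,66,225,355,1123],[1,2,10,24,40,66,130,384,1057],[1,2,8,26,40,64,227,386,1090],[1,2,10,26,40,66,128,483,1059],[1,2,10,18,42,64,138,377,1090],[1,2,8,18,42,66,233,280,1059],[1,2,8,24,40,64,225,481,1090],[1,2,10,16,42,64,136,282,1088],[1,2,10,24,40,64,233,497,1026],[1,2,8,26,40,66,138,499,1123],[1,2,10,18,42,66,227,258,1123],[1,2,8,24,40,66,136,402,1123],[1,2,10,24,40,66,130,384,1059],[1,2,8,26,40,64,227,386,1088],[1,2,10,18,42,64,138,377,1088],[1,2,8,24,40,64,225,481,1088]] [(0,0),(0,1),(0,2),(0,3),(0,4),(1,1),(1,2),(1,3),(1,4),(2,2),(2,3),(2,4),(3,3),(3,4),(4,1),(4,4),(6,2),(6,3),(6,4),(7,3),(7,4),(8,1),(8,4),(10,4),(11,4),(13,4),(15,4),(17,4),(18,4),(20,4),(22,4)] 5 64 = true := by decide +kernel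
theorem c20004612 : chkRb M20094 [1,2,4,8,16,32,64,128,256,512,1026] D20094 = true := by decide +kernel
theorem c20004581 : chkStab M20094 [1,2,4,32,64,512,1024] [1] [1] [2,4,33] [([1,2,4,32,66,518,1057],[1,2,4,8,18,38,73]),([1,2,6,32,64,609,1024],[1,2,6,8,16,57,64]),([1,2,4,32,64,512,1026],[1,2,4,8,16,32,66]),([1,2,6,32,64,609,1030],[1,2,6,8,16,57,70])] [[1,2,4,32,64,512,1024],[1,2,4,32,66,518,1057],[1,2,6,32,64,609,1024],[1,2,4,32,64,512,1026],[1,2,6,32,64,609,1030],[1,2,6,32,66,613,1057],[1,2,4,32,66,518,1059],[1,2,6,32,66,613,1063],[1,2,6,32,64,609,1026],[1,2,4,32,64,512,1028],[1,2,6,32,64,609,1028],[1,2,4,32,64,512,1030],[1,2,6,32,66,613,1059],[1,2,4,32,66,518,1061],[1,2,6,32,66,613,1061],[1,2,4,32,66,518,1063]] [(0,0),(0,1),(0,2),(0,3),(1,1),(1,2),(1,3),(2,2),(2,3),(3,3),(4,1),(5,2),(5,3),(6,3),(7,1)] 4 64 = true := by decide +kernel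
theorem c20004586 : chkStab M20094 [1,2,4,32,64,512,1024] [1] [1] [2,4,33] [([1,2,4,32,66,518,1057],[1,2,4,8,18,38,73]),([1,2,6,32,64,609,1024],[1,2,6,8,16,57,64]),([1,2,4,32,64,512,1026],[1,2,4,8,16,32,66]),([1,2,6,32,64,609,1030],[1,2,6,8,16,57,70])] [[1,2,4,32,64,512,1024],[1,2,4,32,66,518,1057],[1,2,6,32,64,609,1024],[1,2,4,32,64,512,1026],[1,2,6,32,64,609,1030],[1,2,6,32,66,613,1057],[1,2,4,32,66,518,1059],[1,2,6,32,66,613,1063],[1,2,6,32,64,609,1026],[1,2,4,32,64,512,1028],[1,2,6,32,64,609,1028],[1,2,4,32,64,512,1030],[1,2,6,32,66,613,1059],[1,2,4,32,66,518,1061],[1,2,6,32,66,613,1061],[1,2,4,32,66,518,1063]] [(0,0),(0,1),(0,2),(0,3),(1,1),(1,2),(1,3),(2,2),(2,3),(3,3),(4,1),(5,2),(5,3),(6,3),(7,1)] 4 64 = true := by decide +kernel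
theorem c20004611 : chkStab M20094 [1,2,4,32,64,512,1024] [1] [1] [2,4,33] [([1,2,4,32,66,518,1057],[1,2,4,8,18,38,73]),([1,2,6,32,64,609,1024],[1,2,6,8,16,57,64]),([1,2,4,32,64,512,1057],[1,2,4,8,16,32,73]),([1,2,4,32,64,512,1059],[1,2,4,8,16,32,75])] [[1,2,4,32,64,512,1024],[1,2,4,32,66,518,1057],[1,2,6,32,64,609,1024],[1,2,4,32,64,512,1057],[1,2,4,32,64,512,1059],[1,2,6,32,66,613,1057],[1,2,4,32,66,518,1024],[1,2,4,32,66,518,1026],[1,2,6,32,64,609,1057],[1,2,6,32,64,609,1059],[1,2,4,32,64,512,1026],[1,2,6,32,66,613,1024],[1,2,6,32,66,613,1026],[1,2,4,32,66,518,1059],[1,2,6,32,64,609,1026],[1,2,6,32,66,613,1059]] [(0,0),(0,1),(0,2),(0,3),(1,1),(1,2),(1,3),(2,2),(2,3),(3,3),(5,2),(5,3),(6,3),(8,3),(11,3)] 4 64 = true := by decide +kernel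
theorem c20004488 : chkExtr M20094 E20004486 [1796,1542] [⟨3,0,[⟨4,0,0,0⟩,⟨4,1,0,1⟩],0,0,false⟩] [] = true := by decide +kernel
theorem c20004444 : chkBig M20094 6 33 [1,2,4,8,32,64,144] = true := by decide +kernel
theorem c20004448 : chkBig M20094 6 1024 [2,4,8,33,64,144,272] = true := by decide +kernel
theorem c20004631 : chkDer M20094 [([1,2,8,16,42,64,128,256,1024],[1,2,16,24,42,88,458,169,1315])] [(1,0,[1,2,4,8,16,32,64,128,256]),(1,0,[1,2,8,12,16,44,230,83,407]),(1,0,[1,2,12,4,16,42,145,245,477])] ([1,2,8,16,42,64,128,256,1024],[1,2,8,16,42,64,128,256,1026]) = true := by decide +kernel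
theorem c20004604 : chkDer M20094 [([1,2,4,32,64,512,1024],[1,4,6,32,611,68,1061])] [(1,0,[1,2,4,8,16,32,64]),(0,8,[]),(2,0,[1,4,2,8,59,38,70]),(0,8,[]),(1,0,[1,6,2,8,34,61,68])] ([1,2,4,32,64,512,1024],[1,2,4,32,64,512,1059]) = true := by decide +kernel
theorem c20004609 : chkDer M20094 [([1,2,4,32,64,512,1024],[1,4,6,32,611,68,1059])] [(1,0,[1,2,4,8,16,32,64]),(0,8,[]),(2,0,[1,4,2,8,59,38,64]),(0,8,[]),(1,0,[1,6,2,8,34,61,64])] ([1,2,4,32,64,512,1024],[1,2,4,32,64,512,1059]) = true := by decide +kernel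
theorem c20004602 : chkDer M20094 [([1,2,4,32,64,512,1024],[1,4,6,32,611,68,1061])] [(1,0,[1,2,4,8,16,32,64]),(1,0,[1,4,6,8,59,20,77]),(1,0,[1,6,2,8,34,61,66])] ([1,2,4,32,64,512,1024],[1,2,4,32,64,512,1057]) = true := by decide +kernel
theorem c20004620 : chkDer M20094 [([1,2,4,32,64,512,1024],[1,4,6,32,611,68,1057])] [(2,0,[1,6,2,8,34,61,79]),(2,0,[1,4,6,8,59,20,68])] ([1,2,4,32,64,512,1026],[1,4,6,32,611,68,1028]) = true := by decide +kernel
theorem c20004584 : chkDer M20094 [([1,2,4,32,64,512,1024],[1,4,6,32,611,68,1026])] [(1,0,[1,2,4,8,16,32,64]),(0,8,[]),(1,0,[1,6,4,8,34,22,66])] ([1,2,4,32,64,512,1024],[1,2,6,32,64,609,1030]) = true := by decide +kernel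
theorem c20004590 : chkTr M20094 [1,2,4,8,16,32,64,128,256,512,1026] ([1,2,8,16,42],[1,2,16,24,42]) ([1,2,8,16,42],[1,2,16,24,42]) = true := by decide +kernel
theorem c20004592 : chkTr M20094 [1,2,4,8,16,32,64,128,256,512,1026] ([1,2,8,16,42,64,128,256],[1,2,16,24,42,88,458,169]) ([1,2,8,16,42,64,128,256],[1,2,16,24,42,88,458,169]) = true := by decide +kernel
theorem c20004596 : chkTr M20094 [1,2,4,8,16,32,64,128,256,512,1026] ([1,2,8,16,42,64,128,256,1024],[1,2,16,24,42,88,458,169,1313]) ([1,2,8,16,42,64,128,256,1026],[1,2,16,24,42,88,458,169,1315]) = true := by decide +kernel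
theorem c20004614 : chkTr M20094 [1,2,4,8,16,32,64,128,256,512,1026] ([1,2,4,32],[1,4,6,32]) ([1,2,4,32],[1,4,6,32]) = true := by decide +kernel
theorem c20004616 : chkTr M20094 [1,2,4,8,16,32,64,128,256,512,1026] ([1,2,8,16,42,64],[1,2,16,24,42,88]) ([1,2,8,16,42,64],[1,2,16,24,42,88]) = true := by decide +kernel
theorem c20004618 : chkTr M20094 [1,2,4,8,16,32,64,128,256,512,1026] ([1,2,4,32,64,512],[1,4,6,32,611,68]) ([1,2,4,32,64,512],[1,4,6,32,611,68]) = true := by decide +kernel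
theorem c20004622 : chkTr M20094 [1,2,4,8,16,32,64,128,256,512,1026] ([1,2,4,32,64,512,1024],[1,4,6,32,611,68,1030]) ([1,2,4,32,64,512,1026],[1,4,6,32,611,68,1028]) = true := by decide +kernel
theorem c20004421 : chkScM M20094 [1,2,8,16,42] [1,2,8,16,42,64,128,256] [1,2,8,16,42,64,128,256,1024] [1,2,4,8,16] [1,2,4,8,16] = true := by decide +kernel
theorem c20004475 : chkDer M20094 [([1,2,8,16,42,64,128,256],[1,2,16,24,42,88,458,169]),([1,2,8,16,42],[1,2,16,24,42])] [(0,16,[]),(1,0,[183]),(0,512,[]),(2,1,[21])] ([256],[33]) = true := by decide +kernel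
theorem c20004623 : chkDer M20094 [] [(0,1,[])] ([1,2,8,16,42,64,128,256,1024],[1,2,8,16,42,66,235,379,1057]) = true := by decide +kernel
theorem c20004627 : chkDer M20094 [] [(0,8,[])] ([1,2,8,16,42,64,128,256,1024],[1,2,8,18,42,64,130,353,1024]) = true := by decide +kernel
theorem c20004526 : chkDer M20094 [([1,2,4,32,64,512,1024],[1,4,6,32,611,68,1030])] [(0,1,[]),(1,0,[107]),(0,144,[]),(2,0,[64])] ([1540],[1024]) = true := by decide +kernel
theorem c20004573 : chkDer M20094 [] [(0,1,[])] ([1,2,4,32,64,512,1024],[1,2,4,32,66,518,1057]) = true := by decide +kernel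
theorem c20004453 : chkDer M20094 [([1,2,4,32,64,512,1024],[1,4,6,32,611,68,1030])] [(0,1,[]),(1,0,[105]),(0,16,[])] ([1542],[1026]) = true := by decide +kernel
theorem c20004498 : chkDer M20094 [([1,2,8,16,42],[1,2,16,24,42])] [(0,8,[]),(1,0,[29])] ([49],[33]) = true := by decide +kernel
theorem c20004494 : chkDer M20094 [([1,2,4,32],[1,4,6,32])] [(2,0,[11]),(0,16,[])] ([37],[33]) = true := by decide +kernel
theorem c20004460 : chkDer M20094 [([1,2,8,16,42,64,128,256,1024],[1,2,16,24,42,88,458,169,1313])] [(0,1,[]),(2,0,[258])] ([1306],[1026]) = true := by decide +kernel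
theorem c20004518 : chkDer M20094 [([1,2,8,16,42,64,128,256,1024],[1,2,16,24,42,88,458,169,1313])] [(0,1,[]),(2,0,[256])] ([1304],[1024]) = true := by decide +kernel
theorem c20004467 : chkDer M20094 [] [(0,5,[])] ([1306],[1457]) = true := by decide +kernel

end Cfsg.Lib.L33E
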