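import Cfsg.Agent.L33E.R1C15

set_option autoImplicit false
set_option maxRecDepth 100000
set_option linter.all false
set_option Elab.async false

namespace Cfsg.Lib.L33E

theorem c20005231 : chkFrat M20102 E20005229 [33,35,64] [64,35,66] [33,35,64,1505,858,691,1538,1205,150,1901] [33,35,64,1505,858,691,1538,1205,150,1901] [(0,[1,2,4]),(0,[1,2,4]),(0,[1,2,4]),(256,[7,4,2]),(256,[7,4,2]),(0,[1,2,4]),(0,[1,2,4]),(0,[1,2,4]),(0,[1,2,4]),(16,[4,7,1])] [⟨0,0,[],0,0,false⟩,⟨0,0,[],0,2,false⟩,⟨2,0,[⟨4,0,0,0⟩,⟨4,3,0,1⟩,⟨0,1,7,0⟩],2,3,false⟩,⟨2,0,[⟨4,0,0,2⟩,⟨4,3,0,3⟩,⟨0,1,7,0⟩,⟨0,8,14,0⟩],3,0,false⟩,⟨5,0,[⟨4,0,0,4⟩,⟨0,16,21,0⟩],3,3,false⟩] [] = true := by decide +kernel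
theorem c20005192 : chkSyM M20102 [33,35,64] [33,35,64,1505,858,691,1538,1205,150,1901] = true := by decide +kernel
theorem c20005188 : chkSyl M20102 D20102 E20004312 [1,2,4,8,16,32,64,128,256,512,1024] 0 [] [⟨3,0,[],0,0,false⟩,⟨3,0,[],1,2,false⟩,⟨3,0,[],2,3,false⟩,⟨3,0,[],3,0,false⟩,⟨5,0,[],0,0,false⟩,⟨1,3,[],3,0,false⟩,⟨1,106,[],0,0,false⟩,⟨1,122,[],0,0,false⟩,⟨1,7,[],0,0,false⟩,⟨1,32,[],0,0,false⟩] [] [1,2,4,8,16,32,64,128,256,512,1024] [] [] = true := by decide +kernel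
theorem c20005107 : chkCF M20102 (1542,Z20004452) [1] = true := by decide +kernel
theorem c20005128 : chkCF M20102 (256,Z20004452) [1] = true := by decide +kernel
theorem c20005201 : chkCF M20102 (1304,Z20004452) [1] = true := by decide +kernel
theorem c20005219 : chkCF M20102 (545,Z20004452) [1] = true := by decide +kernel
theorem c20005190 : chkX M20102 [([1,2,4],[1,4,6]),([1,2,8,16],[1,2,16,24]),([1,2,8,16,42,64,128,256],[1,2,16,24,42,88,458,169]),([1,2,4,32,64,512],[1,4,6,32,578,101])] [(2,0,2),(2,0,4),(2,1,4),(2,1,8),(2,2,64),(2,2,128),(2,3,16),(2,3,32),(1,1024,1)] [0,33,1057] = true := by decide +kernel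
theorem c20005275 : chkRb M20102 [1,2,4,8,16,32,64,128,256,512,1026] D20102 = true := by decide +kernel
theorem c20005249 : chkStab M20102 [1,2,4,32,64,512,1024] [1] [1] [2,4,33] [([1,2,4,32,66,518,1057],[1,2,4,8,18,38,73]),([1,2,6,32,64,609,1024],[1,2,6,8,16,57,64]),([1,2,4,32,64,512,1026],[1,2,4,8,16,32,66]),([1,2,6,32,64,609,1030],[1,2,6,8,16,57,70])] [[1,2,4,32,64,512,1024],[1,2,4,32,66,518,1057],[1,2,6,32,64,609,1024],[1,2,4,32,64,512,1026],[1,2,6,32,64,609,1030],[1,2,6,32,66,613,1057],[1,2,4,32,66,518,1059],[1,2,6,32,66,613,1063],[1,2,6,32,64,609,1026],[1,2,4,32,64,512,1028],[1,2,6,32,64,609,1028],[1,2,4,32,64,512,1030],[1,2,6,32,66,613,1059],[1,2,4,32,66,518,1061],[1,2,6,32,66,613,1061],[1,2,4,32,66,518,1063]] [(0,0),(0,1),(0,2),(0,3),(1,1),(1,2),(1,3),(2,2),(2,3),(3,3),(4,1),(5,2),(5,3),(6,3),(7,1)] 4 64 = true := by decide +kernel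
theorem c20005274 : chkStab M20102 [1,2,4,32,64,512,1024] [1] [1] [2,4,33] [([1,2,4,32,66,518,1057],[1,2,4,8,18,38,73]),([1,2,6,32,64,609,1024],[1,2,6,8,16,57,64]),([1,2,4,32,64,512,1057],[1,2,4,8,16,32,73]),([1,2,4,32,64,512,1059],[1,2,4,8,16,32,75])] [[1,2,4,32,64,512,1024],[1,2,4,32,66,518,1057],[1,2,6,32,64,609,1024],[1,2,4,32,64,512,1057],[1,2,4,32,64,512,1059],[1,2,6,32,66,613,1057],[1,2,4,32,66,518,1024],[1,2,4,32,66,518,1026],[1,2,6,32,64,609,1057],[1,2,6,32,64,609,1059],[1,2,4,32,64,512,1026],[1,2,6,32,66,613,1024],[1,2,6,32,66,613,1026],[1,2,4,32,66,518,1059],[1,2,6,32,64,609,1026],[1,2,6,32,66,613,1059]] [(0,0),(0,1),(0,2),(0,3),(1,1),(1,2),(1,3),(2,2),(2,3),(3,3),(5,2),(5,3),(6,3),(8,3),(11,3)] 4 64 = true := by decide +kernel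
theorem c20005135 : chkExtr M20102 E20004486 [1796,1542] [⟨3,0,[⟨4,0,0,0⟩,⟨4,1,0,1⟩],0,0,false⟩] [] = true := by decide +kernel
theorem c20005276 : chkStK M20102 6 [1,2,4,8,16,32,64,128,256,512,1026] 0x21020000000000000000000000000000000000000000000000000000000000000000000000000000000000000000000001000 ([1,2,4],[1,4,6]) ([1,2,8,16],[1,2,16,24]) = true := by decide +kernel
theorem c20005098 : chkBig M20102 6 33 [1,2,4,8,32,64,144] = true := by decide +kernel
theorem c20005294 : chkDer M20102 [([1,2,8,16,42,64,128,256,1024],[1,2,16,24,42,88,458,169,1315])] [(1,0,[1,2,4,8,16,32,64,128,256]),(1,0,[1,2,8,12,16,44,230,83,407]),(1,0,[1,2,12,4,16,42,145,245,477])] ([1,2,8,16,42,64,128,256,1024],[1,2,8,16,42,64,128,256,1026]) = true := by decide +kernel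
theorem c20005267 : chkDer M20102 [([1,2,4,32,64,512,1024],[1,4,6,32,578,101,1061])] [(1,0,[1,2,4,8,16,32,64]),(0,8,[]),(2,0,[1,4,2,8,50,38,70]),(0,8,[]),(1,0,[1,6,2,8,43,61,68])] ([1,2,4,32,64,512,1024],[1,2,4,32,64,512,1059]) = true := by decide +kernel
theorem c20005272 : chkDer M20102 [([1,2,4,32,64,512,1024],[1,4,6,32,578,101,1059])] [(1,0,[1,2,4,8,16,32,64]),(0,8,[]),(2,0,[1,4,2,8,50,38,64]),(0,8,[]),(1,0,[1,6,2,8,43,61,64])] ([1,2,4,32,64,512,1024],[1,2,4,32,64,512,1059]) = true := by decide +kernel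
theorem c20005194 : chkDer M20102 [([1,2,4,32,64,512],[1,4,6,32,578,101])] [(0,1,[]),(1,0,[9,11,18]),(0,144,[]),(1,0,[9,20,54]),(0,256,[]),(2,0,[43,20,54]),(0,144,[]),(2,0,[16,11,18])] ([33,35,64],[64,35,66]) = true := by decide +kernel
theorem c20005263 : chkDer M20102 [([1,2,4,32,64,512,1024],[1,4,6,32,578,101,1063])] [(2,0,[1,6,2,8,43,61,77]),(2,0,[1,4,6,8,50,29,70])] ([1,2,4,32,64,512,1024],[1,4,6,32,578,101,1030]) = true := by decide +kernel
theorem c20005242 : chkDer M20102 [([1,2,4,32,64,512,1024],[1,4,6,32,578,101,1028])] [(1,0,[1,2,4,8,16,32,64]),(0,8,[]),(1,0,[1,6,4,8,43,31,70])] ([1,2,4,32,64,512,1024],[1,2,6,32,64,609,1030]) = true := by decide +kernel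
theorem c20005252 : chkTr M20102 [1,2,4,8,16,32,64,128,256,512,1026] ([1,2,4,32],[1,4,6,32]) ([1,2,4,32],[1,4,6,32]) = true := by decide +kernel
theorem c20005254 : chkTr M20102 [1,2,4,8,16,32,64,128,256,512,1026] ([1,2,8,16,42,64],[1,2,16,24,42,88]) ([1,2,8,16,42,64],[1,2,16,24,42,88]) = true := by decide +kernel
theorem c20005256 : chkTr M20102 [1,2,4,8,16,32,64,128,256,512,1026] ([1,2,4,32,64,512],[1,4,6,32,578,101]) ([1,2,4,32,64,512],[1,4,6,32,578,101]) = true := by decide +kernel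
theorem c20005262 : chkTr M20102 [1,2,4,8,16,32,64,128,256,512,1026] ([1,2,4,32,64,512,1024],[1,4,6,32,578,101,1030]) ([1,2,4,32,64,512,1026],[1,4,6,32,578,101,1028]) = true := by decide +kernel
theorem c20005278 : chkTr M20102 [1,2,4,8,16,32,64,128,256,512,1026] ([1,2,8,16,42],[1,2,16,24,42]) ([1,2,8,16,42],[1,2,16,24,42]) = true := by decide +kernel
theorem c20005280 : chkTr M20102 [1,2,4,8,16,32,64,128,256,512,1026] ([1,2,8,16,42,64,128,256],[1,2,16,24,42,88,458,169]) ([1,2,8,16,42,64,128,256],[1,2,16,24,42,88,458,169]) = true := by decide +kernel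
theorem c20005282 : chkTr M20102 [1,2,4,8,16,32,64,128,256,512,1026] ([1,2,8,16,42,64,128,256,1024],[1,2,16,24,42,88,458,169,1313]) ([1,2,8,16,42,64,128,256,1026],[1,2,16,24,42,88,458,169,1315]) = true := by decide +kernel
theorem c20005165 : chkDer M20102 [([1,2,4,32,64,512,1024],[1,4,6,32,578,101,1030])] [(0,16,[]),(1,0,[91]),(0,272,[]),(2,0,[93]),(0,144,[]),(1,0,[68])] ([1026],[1024]) = true := by decide +kernel
theorem c20005075 : chkScM M20102 [1,2,8,16,42] [1,2,8,16,42,64,128,256] [1,2,8,16,42,64,128,256,1024] [1,2,4,8,16] [1,2,4,8,16] = true := by decide +kernel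
theorem c20005257 : chkDer M20102 [([1,2,8,16,42,64,128,256,1024],[1,2,16,24,42,88,458,169,1313])] [(1,0,[1,2,4,8,16,32,64,128,258])] ([1,2,8,16,42,64,128,256,1026],[1,2,16,24,42,88,458,169,1315]) = true := by decide +kernel
theorem c20005123 : chkDer M20102 [([1,2,8,16,42,64,128,256],[1,2,16,24,42,88,458,169]),([1,2,8,16,42],[1,2,16,24,42])] [(0,16,[]),(1,0,[183]),(0,512,[]),(2,1,[21])] ([256],[33]) = true := by decide +kernel
theorem c20005286 : chkDer M20102 [] [(0,1,[])] ([1,2,8,16,42,64,128,256,1024],[1,2,8,16,42,66,235,379,1057]) = true := by decide +kernel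
theorem c20005290 : chkDer M20102 [] [(0,8,[])] ([1,2,8,16,42,64,128,256,1024],[1,2,8,18,42,64,130,353,1024]) = true := by decide +kernel
theorem c20005157 : chkDer M20102 [([1,2,4,32,64,512],[1,4,6,32,578,101]),([1,2,4,32],[1,4,6,32])] [(1,0,[41]),(0,144,[]),(2,1,[11]),(0,16,[])] ([545],[33]) = true := by decide +kernel
theorem c20005238 : chkDer M20102 [] [(0,8,[])] ([1,2,4,32,64,512,1024],[1,2,6,32,64,609,1024]) = true := by decide +kernel
theorem c20005177 : chkDer M20102 [([1,2,4,32,64,512,1024],[1,4,6,32,578,101,1030])] [(0,272,[]),(1,0,[98]),(0,144,[]),(2,0,[64])] ([1536],[1024]) = true := by decide +kernel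
theorem c20005145 : chkDer M20102 [([1,2,8,16,42],[1,2,16,24,42])] [(0,8,[]),(1,0,[29])] ([49],[33]) = true := by decide +kernel
theorem c20005141 : chkDer M20102 [([1,2,4,32],[1,4,6,32])] [(2,0,[11]),(0,16,[])] ([37],[33]) = true := by decide +kernel
theorem c20005169 : chkDer M20102 [([1,2,4,32,64,512,1024],[1,4,6,32,578,101,1030])] [(1,0,[68])] ([1028],[1024]) = true := by decide +kernel
theorem c20005137 : chkDer M20102 [([1,2,4],[1,4,6])] [(2,0,[2])] ([4],[2]) = true := by decide +kernel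
theorem c20005130 : chkDer M20102 [] [(0,20,[])] ([256],[402]) = true := by decide +kernel
theorem c20005203 : chkDer M20102 [] [(0,12,[])] ([1304],[1507]) = true := by decide +kernel
theorem c20005214 : chkDer M20102 [] [(0,13,[])] ([805],[856]) = true := by decide +kernel

end Cfsg.Lib.L33E
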