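import Cfsg.Agent.L33E.R1C15

set_option autoImplicit false
set_option maxRecDepth 100000
set_option linter.all false
set_option Elab.async false

namespace Cfsg.Lib.L33E

theorem c20005227 : chkFrat M20102 E20005225 [33,35,64] [64,35,66] [33,35,64,1505,858,691,1538,1205,150,1901] [33,35,64,1505,858,691,1538,1205,150,1901] [(0,[1,2,4]),(0,[1,2,4]),(0,[1,2,4]),(256,[7,4,2]),(256,[7,4,2]),(0,[1,2,4]),(0,[1,2,4]),(0,[1,2,4]),(0,[1,2,4]),(16,[4,7,1])] [⟨0,0,[],0,0,false⟩,⟨0,0,[],0,2,false⟩,⟨2,0,[⟨4,0,0,0⟩,⟨4,3,0,1⟩,⟨0,1,7,0⟩],2,3,false⟩,⟨2,0,[⟨4,0,0,2⟩,⟨4,3,0,3⟩,⟨0,1,7,0⟩,⟨0,8,14,0⟩],3,0,false⟩,⟨5,0,[⟨4,0,0,4⟩,⟨0,16,21,0⟩],3,3,false⟩] [] = true := by decide +kernel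
theorem c20005235 : chkFrat M20102 E20005233 [33,35,64] [64,35,66] [33,35,64,1505,858,691,1538,1205,150,1901] [33,35,64,1505,858,691,1538,1205,150,1901] [(0,[1,2,4]),(0,[1,2,4]),(0,[1,2,4]),(256,[7,4,2]),(256,[7,4,2]),(0,[1,2,4]),(0,[1,2,4]),(0,[1,2,4]),(0,[1,2,4]),(16,[4,7,1])] [⟨0,0,[],0,0,false⟩,⟨0,0,[],0,2,false⟩,⟨2,0,[⟨6,0,0,1⟩,⟨4,0,0,0⟩,⟨0,1,7,0⟩],2,3,false⟩,⟨2,0,[⟨6,0,0,0⟩,⟨4,0,0,1⟩,⟨4,3,0,2⟩,⟨0,1,7,0⟩,⟨0,8,14,0⟩],3,0,false⟩,⟨5,0,[⟨6,0,0,0⟩,⟨4,0,0,3⟩,⟨0,16,21,0⟩],3,3,false⟩] [] = true := by decide +kernel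
theorem c20005078 : chkFrat M20102 E20000005 [1,2,8,16,42,64,128,256] [1,2,16,24,42,88,458,169] [1,2,8,16,42,64,128,256,1024] [1,2,8,16,42,64,128,256,1024] [(1,[1,2,4,8,16,34,113,187]),(0,[1,2,4,8,16,32,64,128]),(16,[1,2,4,10,16,32,66,181]),(24,[1,2,6,8,16,34,117,183]),(1,[1,2,4,8,16,34,113,187]),(88,[3,2,4,10,18,32,66,181]),(456,[48,2,6,63,35,34,64,130]),(128,[58,2,51,61,41,21,66,128]),(1288,[20,2,4,63,7,32,117,181])] [⟨0,0,[],0,0,false⟩,⟨0,0,[],0,0,false⟩,⟨0,0,[],0,0,false⟩,⟨0,0,[],0,0,false⟩,⟨0,0,[],0,0,false⟩,⟨0,0,[],0,0,false⟩,⟨0,0,[],0,0,false⟩,⟨2,0,[⟨0,1,20,0⟩,⟨0,4,4,0⟩,⟨0,8,63,0⟩,⟨0,32,32,0⟩,⟨1,0,0,0⟩],0,0,false⟩] [([1,2,8,16,42,64,128,256,1024],[1,2,16,24,42,88,458,169,1315]),([1,2,8,16,42,64,128,256,1024],[1,2,16,24,42,88,458,169,1313])] = true := by decide +kernel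
theorem c20005114 : chkCF M20102 (1306,Z20004452) [1] = true := by decide +kernel
theorem c20005185 : chkCF M20102 (1,Z20004104) [2,4,33,37,49,97,256,512,545,547,805,1024,1026,1028,1304,1306,1536,1540,1542,1796] = true := by decide +kernel
theorem c20005208 : chkCF M20102 (805,Z20004452) [1] = true := by decide +kernel
theorem c20005296 : chkStab M20102 [1,2,8,16,42,64,128,256,1024] [1] [1] [2,41] [([1,2,8,16,42,66,235,379,1057],[1,2,4,8,16,34,113,187,277]),([1,2,10,26,40,64,235,400,1024],[1,2,6,14,18,32,113,200,256]),([1,2,8,18,42,64,130,353,1024],[1,2,4,10,16,32,66,181,256]),([1,2,10,16,42,66,225,355,1121],[1,2,6,8,16,34,117,183,309]),([1,2,8,16,42,64,128,256,1026],[1,2,4,8,16,32,64,128,258])] [[1,2,8,16,42,64,128,256,1024],[1,2,8,16,42,66,235,379,1057],[1,2,10,26,40,64,235,400,1024],[1,2,8,18,42,64,130,353,1024],[1,2,10,16,42,66,225,355,1121],[1,2,8,16,42,64,128,256,1026],[1,2,10,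26,40,66,128,483,1057],[1,2,8,18,42,66,233,280,1057],[1,2,10,16,42,64,136,282,1090],[1,2,8,16,42,66,235,379,1059],[1,2,10,24,40,64,233,497,1024],[1,2,8,26,40,66,138,499,1121],[1,2,10,26,40,64,235,400,1026],[1,2,10,18,42,66,227,258,1121],[1,2,8,18,42,64,130,353,1026],[1,2,8,24,40,66,136,402,1121],[1,2,10,16,42,66,225,355,1123],[1,2,10,24,40,66,130,384,1057],[1,2,8,26,40,64,227,386,1090],[1,2,10,26,40,66,128,483,1059],[1,2,10,18,42,64,138,377,1090],[1,2,8,18,42,66,233,280,1059],[1,2,8,24,40,64,225,481,1090],[1,2,10,16,42,64,136,282,1088],[1,2,10,24,40,64,233,497,1026],[1,2,8,26,40,66,138,499,1123],[1,2,10,18,42,66,227,258,1123],[1,2,8,24,40,66,136,402,1123],[1,2,10,24,40,66,130,384,1059],[1,2,8,26,40,64,227,386,1088],[1,2,10,18,42,64,138,377,1088],[1,2,8,24,40,64,225,481,1088]] [(0,0),(0,1),(0,2),(0,3),(0,4),(1,1),(1,2),(1,3),(1,4),(2,2),(2,3),(2,4),(3,3),(3,4),(4,1),(4,4),(6,2),(6,3),(6,4),(7,3),(7,4),(8,1),(8,4),(10,4),(11,4),(13,4),(15,4),(17,4),(18,4),(20,4),(22,4)]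 5 64 = true := by decide +kernel
theorem c20005250 : chkRb M20102 [1,2,4,8,16,32,64,128,256,512,1026] D20102 = true := by decide +kernel
theorem c20005086 : chkFrat M20102 E20000005 [1,2,4,32,64,512] [1,4,6,32,578,101] [1,2,4,32,64,512,1024] [1,2,4,32,64,512,1024] [(1,[1,2,4,8,18,38]),(0,[1,2,4,8,16,32]),(0,[1,2,4,8,16,32]),(1,[1,2,4,8,18,38]),(576,[3,2,4,10,16,32]),(64,[7,2,4,14,16,32]),(1024,[8,2,4,1,16,32])] [⟨0,0,[],0,0,false⟩,⟨0,0,[],0,0,false⟩,⟨0,0,[],0,0,false⟩,⟨0,0,[],0,0,false⟩,⟨0,0,[],0,0,false⟩,⟨2,0,[⟨0,1,8,0⟩,⟨0,16,16,0⟩],0,0,false⟩] [([1,2,4,32,64,512,1024],[1,4,6,32,578,101,1063]),([1,2,4,32,64,512,1024],[1,4,6,32,578,101,1061]),([1,2,4,32,64,512,1024],[1,4,6,32,578,101,1059]),([1,2,4,32,64,512,1024],[1,4,6,32,578,101,1057]),([1,2,4,32,64,512,1024],[1,4,6,32,578,101,1030]),([1,2,4,32,64,512,1024],[1,4,6,32,578,101,1028]),([1,2,4,32,64,512,1024],[1,4,6,32,578,101,1026]),([1,2,4,32,64,512,1024],[1,4,6,32,578,101,1024])]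 = true := by decide +kernel
theorem c20005244 : chkStab M20102 [1,2,4,32,64,512,1024] [1] [1] [2,4,33] [([1,2,4,32,66,518,1057],[1,2,4,8,18,38,73]),([1,2,6,32,64,609,1024],[1,2,6,8,16,57,64]),([1,2,4,32,64,512,1026],[1,2,4,8,16,32,66]),([1,2,6,32,64,609,1030],[1,2,6,8,16,57,70])] [[1,2,4,32,64,512,1024],[1,2,4,32,66,518,1057],[1,2,6,32,64,609,1024],[1,2,4,32,64,512,1026],[1,2,6,32,64,609,1030],[1,2,6,32,66,613,1057],[1,2,4,32,66,518,1059],[1,2,6,32,66,613,1063],[1,2,6,32,64,609,1026],[1,2,4,32,64,512,1028],[1,2,6,32,64,609,1028],[1,2,4,32,64,512,1030],[1,2,6,32,66,613,1059],[1,2,4,32,66,518,1061],[1,2,6,32,66,613,1061],[1,2,4,32,66,518,1063]] [(0,0),(0,1),(0,2),(0,3),(1,1),(1,2),(1,3),(2,2),(2,3),(3,3),(4,1),(5,2),(5,3),(6,3),(7,1)] 4 64 = true := by decide +kernel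
theorem c20005269 : chkStab M20102 [1,2,4,32,64,512,1024] [1] [1] [2,4,33] [([1,2,4,32,66,518,1057],[1,2,4,8,18,38,73]),([1,2,6,32,64,609,1024],[1,2,6,8,16,57,64]),([1,2,4,32,64,512,1057],[1,2,4,8,16,32,73]),([1,2,4,32,64,512,1059],[1,2,4,8,16,32,75])] [[1,2,4,32,64,512,1024],[1,2,4,32,66,518,1057],[1,2,6,32,64,609,1024],[1,2,4,32,64,512,1057],[1,2,4,32,64,512,1059],[1,2,6,32,66,613,1057],[1,2,4,32,66,518,1024],[1,2,4,32,66,518,1026],[1,2,6,32,64,609,1057],[1,2,6,32,64,609,1059],[1,2,4,32,64,512,1026],[1,2,6,32,66,613,1024],[1,2,6,32,66,613,1026],[1,2,4,32,66,518,1059],[1,2,6,32,64,609,1026],[1,2,6,32,66,613,1059]] [(0,0),(0,1),(0,2),(0,3),(1,1),(1,2),(1,3),(2,2),(2,3),(3,3),(5,2),(5,3),(6,3),(8,3),(11,3)] 4 64 = true := by decide +kernel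
theorem c20005121 : chkExtr M20102 E20004471 [805,1542] [⟨3,0,[⟨4,0,0,0⟩,⟨4,1,0,1⟩],0,0,false⟩] [] = true := by decide +kernel
theorem c20005251 : chkStK M20102 6 [1,2,4,8,16,32,64,128,256,512,1026] 0x21020000000000000000000000000000000000000000000000000000000000000000000000000000000000000000000001000 ([1,2,4],[1,4,6]) ([1,2,8,16],[1,2,16,24]) = true := by decide +kernel
theorem c20005096 : chkBig M20102 6 2 [1,2,4,8,16,32,64] = true := by decide +kernel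
theorem c20005100 : chkBig M20102 6 1024 [2,4,8,33,64,144,272] = true := by decide +kernel
theorem c20005240 : chkDer M20102 [([1,2,4,32,64,512,1024],[1,4,6,32,578,101,1028])] [(1,0,[1,2,4,8,16,32,64]),(0,8,[]),(2,0,[1,4,2,8,50,38,70]),(0,8,[]),(1,0,[1,6,2,8,43,61,68])] ([1,2,4,32,64,512,1024],[1,2,4,32,64,512,1026]) = true := by decide +kernel
theorem c20005245 : chkDer M20102 [([1,2,4,32,64,512,1024],[1,4,6,32,578,101,1026])] [(1,0,[1,2,4,8,16,32,64]),(0,8,[]),(2,0,[1,4,2,8,50,38,64]),(0,8,[]),(1,0,[1,6,2,8,43,61,64])] ([1,2,4,32,64,512,1024],[1,2,4,32,64,512,1026]) = true := by decide +kernel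
theorem c20005270 : chkDer M20102 [([1,2,4,32,64,512,1024],[1,4,6,32,578,101,1059])] [(1,0,[1,2,4,8,16,32,64]),(1,0,[1,4,6,8,50,29,75]),(1,0,[1,6,2,8,43,61,70])] ([1,2,4,32,64,512,1024],[1,2,4,32,64,512,1057]) = true := by decide +kernel
theorem c20005265 : chkDer M20102 [([1,2,4,32,64,512,1024],[1,4,6,32,578,101,1061])] [(1,0,[1,2,4,8,16,32,64]),(1,0,[1,4,6,8,50,29,77]),(1,0,[1,6,2,8,43,61,66])] ([1,2,4,32,64,512,1024],[1,2,4,32,64,512,1057]) = true := by decide +kernel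
theorem c20005283 : chkDer M20102 [([1,2,4,32,64,512,1024],[1,4,6,32,578,101,1057])] [(2,0,[1,6,2,8,43,61,79]),(2,0,[1,4,6,8,50,29,68])] ([1,2,4,32,64,512,1026],[1,4,6,32,578,101,1028]) = true := by decide +kernel
theorem c20005247 : chkDer M20102 [([1,2,4,32,64,512,1024],[1,4,6,32,578,101,1026])] [(1,0,[1,2,4,8,16,32,64]),(0,8,[]),(1,0,[1,6,4,8,43,31,66])] ([1,2,4,32,64,512,1024],[1,2,6,32,64,609,1030]) = true := by decide +kernel
theorem c20005253 : chkTr M20102 [1,2,4,8,16,32,64,128,256,512,1026] ([1,2,8,16,42],[1,2,16,24,42]) ([1,2,8,16,42],[1,2,16,24,42]) = true := by decide +kernel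
theorem c20005255 : chkTr M20102 [1,2,4,8,16,32,64,128,256,512,1026] ([1,2,8,16,42,64,128,256],[1,2,16,24,42,88,458,169]) ([1,2,8,16,42,64,128,256],[1,2,16,24,42,88,458,169]) = true := by decide +kernel
theorem c20005259 : chkTr M20102 [1,2,4,8,16,32,64,128,256,512,1026] ([1,2,8,16,42,64,128,256,1024],[1,2,16,24,42,88,458,169,1313]) ([1,2,8,16,42,64,128,256,1026],[1,2,16,24,42,88,458,169,1315]) = true := by decide +kernel
theorem c20005277 : chkTr M20102 [1,2,4,8,16,32,64,128,256,512,1026] ([1,2,4,32],[1,4,6,32]) ([1,2,4,32],[1,4,6,32]) = true := by decide +kernel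
theorem c20005279 : chkTr M20102 [1,2,4,8,16,32,64,128,256,512,1026] ([1,2,8,16,42,64],[1,2,16,24,42,88]) ([1,2,8,16,42,64],[1,2,16,24,42,88]) = true := by decide +kernel
theorem c20005281 : chkTr M20102 [1,2,4,8,16,32,64,128,256,512,1026] ([1,2,4,32,64,512],[1,4,6,32,578,101]) ([1,2,4,32,64,512],[1,4,6,32,578,101]) = true := by decide +kernel
theorem c20005285 : chkTr M20102 [1,2,4,8,16,32,64,128,256,512,1026] ([1,2,4,32,64,512,1024],[1,4,6,32,578,101,1030]) ([1,2,4,32,64,512,1026],[1,4,6,32,578,101,1028]) = true := by decide +kernel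
theorem c20005083 : chkScM M20102 [1,2,4,32] [1,2,4,32,64,512] [1,2,4,32,64,512,1024] [1,2,4,8] [1,2,4,8] = true := by decide +kernel
theorem c20005149 : chkDer M20102 [([1,2,4,32,64,512],[1,4,6,32,578,101]),([1,2,4],[1,4,6])] [(0,1,[]),(1,0,[27]),(0,256,[]),(1,0,[38]),(0,144,[]),(1,1,[6])] ([97],[2]) = true := by decide +kernel
theorem c20005109 : chkDer M20102 [([1,2,8,16,42,64,128,256,1024],[1,2,16,24,42,88,458,169,1313]),([1,2,4,32,64,512,1024],[1,4,6,32,578,101,1030])] [(0,8,[]),(2,0,[288]),(1,1,[80]),(0,378,[]),(1,1,[98]),(0,144,[]),(2,1,[64])] ([1306],[1024]) = true := by decide +kernel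
theorem c20005260 : chkDer M20102 [([1,2,4,32,64,512,1024],[1,4,6,32,578,101,1024])] [(1,0,[1,2,4,8,16,32,66])] ([1,2,4,32,64,512,1026],[1,4,6,32,578,101,1028]) = true := by decide +kernel
theorem c20005288 : chkDer M20102 [] [(0,4,[])] ([1,2,8,16,42,64,128,256,1024],[1,2,10,26,40,64,235,400,1024]) = true := by decide +kernel
theorem c20005292 : chkDer M20102 [] [(0,16,[])] ([1,2,8,16,42,64,128,256,1024],[1,2,10,16,42,66,225,355,1121]) = true := by decide +kernel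
theorem c20005236 : chkDer M20102 [] [(0,1,[])] ([1,2,4,32,64,512,1024],[1,2,4,32,66,518,1057]) = true := by decide +kernel
theorem c20005181 : chkDer M20102 [([1,2,4,32,64,512,1024],[1,4,6,32,578,101,1030])] [(1,0,[100]),(0,144,[]),(1,0,[68])] ([1540],[1024]) = true := by decide +kernel
theorem c20005102 : chkDer M20102 [([1,2,4,32,64,512,1024],[1,4,6,32,578,101,1030])] [(1,0,[102]),(0,16,[])] ([1542],[1024]) = true := by decide +kernel
theorem c20005161 : chkDer M20102 [([1,2,4,32,64,512],[1,4,6,32,578,101])] [(1,0,[43]),(0,256,[])] ([547],[33]) = true := by decide +kernel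
theorem c20005153 : chkDer M20102 [([1,2,4,32,64,512],[1,4,6,32,578,101]),([1,2,4],[1,4,6])] [(1,0,[32]),(0,144,[]),(2,1,[2])] ([512],[2]) = true := by decide +kernel
theorem c20005173 : chkDer M20102 [([1,2,8,16,42,64,128,256,1024],[1,2,16,24,42,88,458,169,1313])] [(0,1,[]),(2,0,[256])] ([1304],[1024]) = true := by decide +kernel
theorem c20005116 : chkDer M20102 [] [(0,5,[])] ([1306],[1457]) = true := by decide +kernel
theorem c20005196 : chkDer M20102 [] [(0,12,[])] ([1306],[1505]) = true := by decide +kernel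
theorem c20005210 : chkDer M20102 [] [(0,5,[])] ([805],[858]) = true := by decide +kernel
theorem c20005221 : chkDer M20102 [] [(0,16,[])] ([545],[691]) = true := by decide +kernel

end Cfsg.Lib.L33E
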