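import Cfsg.Agent.L33E.R1C24

set_option autoImplicit false
set_option maxRecDepth 100000
set_option linter.all false
set_option Elab.async false

namespace Cfsg.Lib.L33E

theorem c20006594 : chkLift M20118 D20118 E20006592 [1024,1057,1121,1090] [1123,1088,1026,1059] [1024,1057,1121,1090,1,4,8,16,128,256,512] [(1,[2,1,8,4]),(0,[1,2,4,8]),(0,[1,2,4,8]),(0,[1,2,4,8]),(16,[4,8,1,2]),(1,[2,1,8,4]),(0,[1,2,4,8]),(16,[4,8,1,2]),(256,[4,2,1,8]),(0,[1,2,4,8]),(0,[1,2,4,8])] 0 [11,7,14,13] [⟨0,0,[],0,2,false⟩,⟨0,0,[],0,0,false⟩,⟨0,0,[],0,0,false⟩,⟨1,2,[⟨4,0,0,0⟩],2,3,false⟩,⟨5,0,[⟨4,0,0,1⟩,⟨2,3,0,0⟩,⟨2,12,0,0⟩,⟨2,15,0,0⟩,⟨5,0,16,0⟩],3,3,false⟩,⟨5,0,[⟨4,21,0,2⟩,⟨5,0,16,0⟩],4,0,false⟩,⟨1,4,[⟨4,3,0,3⟩,⟨4,19,0,4⟩,⟨0,32,111,0⟩],4,0,false⟩,⟨1,4,[⟨4,3,0,5⟩,⟨4,51,0,6⟩,⟨0,16,85,0⟩],0,0,false⟩,⟨1,4,[⟨4,0,0,7⟩,⟨4,2,0,8⟩,⟨0,16,213,0⟩,⟨0,32,416,0⟩],0,0,false⟩,⟨6,0,[⟨4,0,0,9⟩,⟨4,1,0,10⟩,⟨0,16,63,0⟩,⟨0,64,69,0⟩,⟨0,128,256,0⟩],0,0,false⟩]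 [] [16,15,32,64,128,19,6,256,512,1024,1] [([1123,1088,1026,1059,1,12,8,24,136,402,753],[]),([1123,1088,1026,1059,1,12,8,24,136,402,755],[]),([1123,1088,1026,1059,1,12,8,24,136,400,753],[]),([1123,1088,1026,1059,1,12,8,24,136,400,755],[]),([1123,1088,1026,1059,1,4,8,16,128,256,512],[]),([1123,1088,1026,1059,1,4,8,16,128,256,514],[]),([1123,1088,1026,1059,1,4,8,16,128,258,512],[]),([1123,1088,1026,1059,1,4,8,16,128,258,514],[])] [] = true := by decide +kernel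
theorem c20006598 : chkLift M20118 D20118 E20006592 [1024,1057,1121,1090] [1123,1088,1026,1059] [1024,1057,1121,1090,1,4,8,16,128,256,512] [(1,[2,1,8,4]),(0,[1,2,4,8]),(0,[1,2,4,8]),(0,[1,2,4,8]),(16,[4,8,1,2]),(1,[2,1,8,4]),(0,[1,2,4,8]),(16,[4,8,1,2]),(256,[4,2,1,8]),(0,[1,2,4,8]),(0,[1,2,4,8])] 0 [11,7,14,13] [⟨0,0,[],0,2,false⟩,⟨0,0,[],0,0,false⟩,⟨0,0,[],0,0,false⟩,⟨1,2,[⟨4,0,0,0⟩],2,3,false⟩,⟨5,0,[⟨4,0,0,1⟩,⟨2,3,0,0⟩,⟨2,12,0,0⟩,⟨2,15,0,0⟩,⟨5,0,16,0⟩],3,3,false⟩,⟨5,0,[⟨4,21,0,2⟩,⟨5,0,16,0⟩],4,0,false⟩,⟨1,4,[⟨4,3,0,3⟩,⟨4,19,0,4⟩,⟨0,32,111,0⟩],4,0,false⟩,⟨1,4,[⟨4,3,0,5⟩,⟨4,51,0,6⟩,⟨0,16,85,0⟩],0,0,false⟩,⟨1,4,[⟨4,0,0,7⟩,⟨4,2,0,8⟩,⟨0,16,213,0⟩,⟨0,32,416,0⟩],0,0,false⟩,⟨6,0,[⟨4,0,0,9⟩,⟨4,1,0,10⟩,⟨0,16,63,0⟩,⟨0,64,69,0⟩,⟨0,128,256,0⟩],0,0,false⟩] [] [16,15,32,64,128,19,6,256,512,1024,1] [([1123,1088,1026,1059,1,12,8,24,136,402,753],[]),([1123,1088,1026,1059,1,12,8,24,136,402,755],[]),([1123,1088,1026,1059,1,12,8,24,136,400,753],[]),([1123,1088,1026,1059,1,12,8,24,136,400,755],[]),([1123,1088,1026,1059,1,4,8,16,128,256,512],[]),([1123,1088,1026,1059,1,4,8,16,128,256,514],[]),([1123,1088,1026,1059,1,4,8,16,128,258,512],[]),([1123,1088,1026,1059,1,4,8,16,128,258,514],[])]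 [] = true := by decide +kernel
theorem c20006465 : chkFrat M20118 E20000005 [1,2,8,16,42,64,128,256] [1,2,16,24,42,88,458,169] [1,2,8,16,42,64,128,256,1024] [1,2,8,16,42,64,128,256,1024] [(1,[1,2,4,8,16,34,113,187]),(0,[1,2,4,8,16,32,64,128]),(16,[1,2,4,10,16,32,66,181]),(24,[1,2,6,8,16,34,117,183]),(1,[1,2,4,8,16,34,113,187]),(88,[3,2,4,10,18,32,66,181]),(456,[48,2,6,63,35,34,64,130]),(128,[58,2,51,61,41,21,66,128]),(1288,[20,2,4,63,7,32,117,181])] [⟨0,0,[],0,0,false⟩,⟨0,0,[],0,0,false⟩,⟨0,0,[],0,0,false⟩,⟨0,0,[],0,0,false⟩,⟨0,0,[],0,0,false⟩,⟨0,0,[],0,0,false⟩,⟨0,0,[],0,0,false⟩,⟨2,0,[⟨0,1,20,0⟩,⟨0,4,4,0⟩,⟨0,8,63,0⟩,⟨0,32,32,0⟩,⟨1,0,0,0⟩],0,0,false⟩] [([1,2,8,16,42,64,128,256,1024],[1,2,16,24,42,88,458,169,1315]),([1,2,8,16,42,64,128,256,1024],[1,2,16,24,42,88,458,169,1313])] = true := by decide +kernel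
theorem c20006555 : chkCF M20118 (4,Z20005970) [1] = true := by decide +kernel
theorem c20006577 : chkCF M20118 (256,Z20005970) [1] = true := by decide +kernel
theorem c20006587 : chkCF M20118 (512,Z20005970) [1] = true := by decide +kernel
theorem c20006659 : chkStab M20118 [1,2,8,16,42,64,128,256,1024] [1] [1] [2,41] [([1,2,8,16,42,66,235,379,1057],[1,2,4,8,16,34,113,187,277]),([1,2,10,26,40,64,235,400,1024],[1,2,6,14,18,32,113,200,256]),([1,2,8,18,42,64,130,353,1024],[1,2,4,10,16,32,66,181,256]),([1,2,10,16,42,66,225,355,1121],[1,2,6,8,16,34,117,183,309]),([1,2,8,16,42,64,128,256,1026],[1,2,4,8,16,32,64,128,258])] [[1,2,8,16,42,64,128,256,1024],[1,2,8,16,42,66,235,379,1057],[1,2,10,26,40,64,235,400,1024],[1,2,8,18,42,64,130,353,1024],[1,2,10,16,42,66,225,355,1121],[1,2,8,16,42,64,128,256,1026],[1,2,10,26,40,66,128,483,1057],[1,2,8,18,42,66,233,280,1057],[1,2,1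0,16,42,64,136,282,1090],[1,2,8,16,42,66,235,379,1059],[1,2,10,24,40,64,233,497,1024],[1,2,8,26,40,66,138,499,1121],[1,2,10,26,40,64,235,400,1026],[1,2,10,18,42,66,227,258,1121],[1,2,8,18,42,64,130,353,1026],[1,2,8,24,40,66,136,402,1121],[1,2,10,16,42,66,225,355,1123],[1,2,10,24,40,66,130,384,1057],[1,2,8,26,40,64,227,386,1090],[1,2,10,26,40,66,128,483,1059],[1,2,10,18,42,64,138,377,1090],[1,2,8,18,42,66,233,280,1059],[1,2,8,24,40,64,225,481,1090],[1,2,10,16,42,64,136,282,1088],[1,2,10,24,40,64,233,497,1026],[1,2,8,26,40,66,138,499,1123],[1,2,10,18,42,66,227,258,1123],[1,2,8,24,40,66,136,402,1123],[1,2,10,24,40,66,130,384,1059],[1,2,8,26,40,64,227,386,1088],[1,2,10,18,42,64,138,377,1088],[1,2,8,24,40,64,225,481,1088]] [(0,0),(0,1),(0,2),(0,3),(0,4),(1,1),(1,2),(1,3),(1,4),(2,2),(2,3),(2,4),(3,3),(3,4),(4,1),(4,4),(6,2),(6,3),(6,4),(7,3),(7,4),(8,1),(8,4),(10,4),(11,4),(13,4),(15,4),(17,4),(18,4),(20,4),(22,4)]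 5 64 = true := by decide +kernel
theorem c20006613 : chkRb M20118 [1,2,4,8,16,32,64,128,256,512,1026] D20118 = true := by decide +kernel
theorem c20006473 : chkFrat M20118 E20000005 [1,2,4,32,64,512] [1,4,6,32,578,101] [1,2,4,32,64,512,1024] [1,2,4,32,64,512,1024] [(1,[1,2,4,8,18,38]),(0,[1,2,4,8,16,32]),(0,[1,2,4,8,16,32]),(1,[1,2,4,8,18,38]),(576,[3,2,4,10,16,32]),(64,[7,2,4,14,16,32]),(1024,[8,2,4,1,16,32])] [⟨0,0,[],0,0,false⟩,⟨0,0,[],0,0,false⟩,⟨0,0,[],0,0,false⟩,⟨0,0,[],0,0,false⟩,⟨0,0,[],0,0,false⟩,⟨2,0,[⟨0,1,8,0⟩,⟨0,16,16,0⟩],0,0,false⟩] [([1,2,4,32,64,512,1024],[1,4,6,32,578,101,1063]),([1,2,4,32,64,512,1024],[1,4,6,32,578,101,1061]),([1,2,4,32,64,512,1024],[1,4,6,32,578,101,1059]),([1,2,4,32,64,512,1024],[1,4,6,32,578,101,1057]),([1,2,4,32,64,512,1024],[1,4,6,32,578,101,1030]),([1,2,4,32,64,512,1024],[1,4,6,32,578,101,1028]),([1,2,4,32,64,512,1024],[1,4,6,32,578,101,1026]),([1,2,4,32,64,512,1024],[1,4,6,32,578,101,1024])]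 = true := by decide +kernel
theorem c20006612 : chkStab M20118 [1,2,4,32,64,512,1024] [1] [1] [2,4,33] [([1,2,4,32,66,518,1057],[1,2,4,8,18,38,73]),([1,2,6,32,64,609,1024],[1,2,6,8,16,57,64]),([1,2,4,32,64,512,1026],[1,2,4,8,16,32,66]),([1,2,6,32,64,609,1030],[1,2,6,8,16,57,70])] [[1,2,4,32,64,512,1024],[1,2,4,32,66,518,1057],[1,2,6,32,64,609,1024],[1,2,4,32,64,512,1026],[1,2,6,32,64,609,1030],[1,2,6,32,66,613,1057],[1,2,4,32,66,518,1059],[1,2,6,32,66,613,1063],[1,2,6,32,64,609,1026],[1,2,4,32,64,512,1028],[1,2,6,32,64,609,1028],[1,2,4,32,64,512,1030],[1,2,6,32,66,613,1059],[1,2,4,32,66,518,1061],[1,2,6,32,66,613,1061],[1,2,4,32,66,518,1063]] [(0,0),(0,1),(0,2),(0,3),(1,1),(1,2),(1,3),(2,2),(2,3),(3,3),(4,1),(5,2),(5,3),(6,3),(7,1)] 4 64 = true := by decide +kernel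
theorem c20006637 : chkStab M20118 [1,2,4,32,64,512,1024] [1] [1] [2,4,33] [([1,2,4,32,66,518,1057],[1,2,4,8,18,38,73]),([1,2,6,32,64,609,1024],[1,2,6,8,16,57,64]),([1,2,4,32,64,512,1057],[1,2,4,8,16,32,73]),([1,2,4,32,64,512,1059],[1,2,4,8,16,32,75])] [[1,2,4,32,64,512,1024],[1,2,4,32,66,518,1057],[1,2,6,32,64,609,1024],[1,2,4,32,64,512,1057],[1,2,4,32,64,512,1059],[1,2,6,32,66,613,1057],[1,2,4,32,66,518,1024],[1,2,4,32,66,518,1026],[1,2,6,32,64,609,1057],[1,2,6,32,64,609,1059],[1,2,4,32,64,512,1026],[1,2,6,32,66,613,1024],[1,2,6,32,66,613,1026],[1,2,4,32,66,518,1059],[1,2,6,32,64,609,1026],[1,2,6,32,66,613,1059]] [(0,0),(0,1),(0,2),(0,3),(1,1),(1,2),(1,3),(2,2),(2,3),(3,3),(5,2),(5,3),(6,3),(8,3),(11,3)] 4 64 = true := by decide +kernel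
theorem c20006639 : chkStK M20118 6 [1,2,4,8,16,32,64,128,256,512,1026] 0x21020000000000000000000000000000000000000000000000000000000000000000000000000000000000000000000001000 ([1,2,4],[1,4,6]) ([1,2,8,16],[1,2,16,24]) = true := by decide +kernel
theorem c20006483 : chkBig M20118 6 2 [1,2,4,8,16,32,64] = true := by decide +kernel
theorem c20006487 : chkBig M20118 6 97 [2,4,8,16,33,64,128] = true := by decide +kernel
theorem c20006657 : chkDer M20118 [([1,2,8,16,42,64,128,256,1024],[1,2,16,24,42,88,458,169,1315])] [(1,0,[1,2,4,8,16,32,64,128,256]),(1,0,[1,2,8,12,16,44,230,83,407]),(1,0,[1,2,12,4,16,42,145,245,477])] ([1,2,8,16,42,64,128,256,1024],[1,2,8,16,42,64,128,256,1026]) = true := by decide +kernel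
theorem c20006630 : chkDer M20118 [([1,2,4,32,64,512,1024],[1,4,6,32,578,101,1061])] [(1,0,[1,2,4,8,16,32,64]),(0,8,[]),(2,0,[1,4,2,8,50,38,70]),(0,8,[]),(1,0,[1,6,2,8,43,61,68])] ([1,2,4,32,64,512,1024],[1,2,4,32,64,512,1059]) = true := by decide +kernel
theorem c20006635 : chkDer M20118 [([1,2,4,32,64,512,1024],[1,4,6,32,578,101,1059])] [(1,0,[1,2,4,8,16,32,64]),(0,8,[]),(2,0,[1,4,2,8,50,38,64]),(0,8,[]),(1,0,[1,6,2,8,43,61,64])] ([1,2,4,32,64,512,1024],[1,2,4,32,64,512,1059]) = true := by decide +kernel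
theorem c20006626 : chkDer M20118 [([1,2,4,32,64,512,1024],[1,4,6,32,578,101,1063])] [(2,0,[1,6,2,8,43,61,77]),(2,0,[1,4,6,8,50,29,70])] ([1,2,4,32,64,512,1024],[1,4,6,32,578,101,1030]) = true := by decide +kernel
theorem c20006646 : chkDer M20118 [([1,2,4,32,64,512,1024],[1,4,6,32,578,101,1057])] [(2,0,[1,6,2,8,43,61,79]),(2,0,[1,4,6,8,50,29,68])] ([1,2,4,32,64,512,1026],[1,4,6,32,578,101,1028]) = true := by decide +kernel
theorem c20006610 : chkDer M20118 [([1,2,4,32,64,512,1024],[1,4,6,32,578,101,1026])] [(1,0,[1,2,4,8,16,32,64]),(0,8,[]),(1,0,[1,6,4,8,43,31,66])] ([1,2,4,32,64,512,1024],[1,2,6,32,64,609,1030]) = true := by decide +kernel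
theorem c20006617 : chkTr M20118 [1,2,4,8,16,32,64,128,256,512,1026] ([1,2,8,16,42,64],[1,2,16,24,42,88]) ([1,2,8,16,42,64],[1,2,16,24,42,88]) = true := by decide +kernel
theorem c20006619 : chkTr M20118 [1,2,4,8,16,32,64,128,256,512,1026] ([1,2,4,32,64,512],[1,4,6,32,578,101]) ([1,2,4,32,64,512],[1,4,6,32,578,101]) = true := by decide +kernel
theorem c20006625 : chkTr M20118 [1,2,4,8,16,32,64,128,256,512,1026] ([1,2,4,32,64,512,1024],[1,4,6,32,578,101,1030]) ([1,2,4,32,64,512,1026],[1,4,6,32,578,101,1028]) = true := by decide +kernel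
theorem c20006641 : chkTr M20118 [1,2,4,8,16,32,64,128,256,512,1026] ([1,2,8,16,42],[1,2,16,24,42]) ([1,2,8,16,42],[1,2,16,24,42]) = true := by decide +kernel
theorem c20006643 : chkTr M20118 [1,2,4,8,16,32,64,128,256,512,1026] ([1,2,8,16,42,64,128,256],[1,2,16,24,42,88,458,169]) ([1,2,8,16,42,64,128,256],[1,2,16,24,42,88,458,169]) = true := by decide +kernel
theorem c20006645 : chkTr M20118 [1,2,4,8,16,32,64,128,256,512,1026] ([1,2,8,16,42,64,128,256,1024],[1,2,16,24,42,88,458,169,1313]) ([1,2,8,16,42,64,128,256,1026],[1,2,16,24,42,88,458,169,1315]) = true := by decide +kernel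
theorem c20006531 : chkDer M20118 [([1,2,4,32,64,512,1024],[1,4,6,32,578,101,1030]),([1,2,8,16,42,64,128,256,1024],[1,2,16,24,42,88,458,169,1313])] [(1,0,[96]),(1,1,[311]),(0,512,[]),(1,1,[477])] ([1536],[1024]) = true := by decide +kernel
theorem c20006462 : chkScM M20118 [1,2,8,16,42] [1,2,8,16,42,64,128,256] [1,2,8,16,42,64,128,256,1024] [1,2,4,8,16] [1,2,4,8,16] = true := by decide +kernel
theorem c20006620 : chkDer M20118 [([1,2,8,16,42,64,128,256,1024],[1,2,16,24,42,88,458,169,1313])] [(1,0,[1,2,4,8,16,32,64,128,258])] ([1,2,8,16,42,64,128,256,1026],[1,2,16,24,42,88,458,169,1315]) = true := by decide +kernel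
theorem c20006623 : chkDer M20118 [([1,2,4,32,64,512,1024],[1,4,6,32,578,101,1024])] [(1,0,[1,2,4,8,16,32,66])] ([1,2,4,32,64,512,1026],[1,4,6,32,578,101,1028]) = true := by decide +kernel
theorem c20006651 : chkDer M20118 [] [(0,4,[])] ([1,2,8,16,42,64,128,256,1024],[1,2,10,26,40,64,235,400,1024]) = true := by decide +kernel
theorem c20006655 : chkDer M20118 [] [(0,16,[])] ([1,2,8,16,42,64,128,256,1024],[1,2,10,16,42,66,225,355,1121]) = true := by decide +kernel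
theorem c20006601 : chkDer M20118 [] [(0,8,[])] ([1,2,4,32,64,512,1024],[1,2,6,32,64,609,1024]) = true := by decide +kernel
theorem c20006535 : chkDer M20118 [([1,2,4,32,64,512,1024],[1,4,6,32,578,101,1030])] [(1,0,[98]),(0,144,[]),(2,0,[64])] ([1538],[1024]) = true := by decide +kernel
theorem c20006495 : chkDer M20118 [([1,2,4,32],[1,4,6,32])] [(2,0,[11]),(0,16,[])] ([37],[33]) = true := by decide +kernel
theorem c20006515 : chkDer M20118 [([1,2,4,32,64,512],[1,4,6,32,578,101])] [(0,272,[]),(2,0,[16]),(0,256,[])] ([545],[33]) = true := by decide +kernel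
theorem c20006523 : chkDer M20118 [([1,2,4,32,64,512,1024],[1,4,6,32,578,101,1030])] [(1,0,[68])] ([1028],[1024]) = true := by decide +kernel
theorem c20006491 : chkDer M20118 [([1,2,4],[1,4,6])] [(2,0,[2])] ([4],[2]) = true := by decide +kernel
theorem c20006564 : chkDer M20118 [] [(0,1505,[])] ([1],[48]) = true := by decide +kernel
theorem c20006572 : chkDer M20118 [] [(0,1938,[])] ([1],[166]) = true := by decide +kernel

end Cfsg.Lib.L33E
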