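import Cfsg.Agent.L33E.R1C24

set_option autoImplicit false
set_option maxRecDepth 100000
set_option linter.all false
set_option Elab.async false

namespace Cfsg.Lib.L33E

theorem c20006596 : chkLift M20118 D20118 E20006592 [1024,1057,1121,1090] [1123,1088,1026,1059] [1024,1057,1121,1090,1,4,8,16,128,256,512] [(1,[2,1,8,4]),(0,[1,2,4,8]),(0,[1,2,4,8]),(0,[1,2,4,8]),(16,[4,8,1,2]),(1,[2,1,8,4]),(0,[1,2,4,8]),(16,[4,8,1,2]),(256,[4,2,1,8]),(0,[1,2,4,8]),(0,[1,2,4,8])] 0 [11,7,14,13] [⟨0,0,[],0,2,false⟩,⟨0,0,[],0,0,false⟩,⟨0,0,[],0,0,false⟩,⟨1,2,[⟨4,0,0,0⟩],2,3,false⟩,⟨5,0,[⟨4,0,0,1⟩,⟨2,3,0,0⟩,⟨2,12,0,0⟩,⟨2,15,0,0⟩,⟨5,0,16,0⟩],3,3,false⟩,⟨5,0,[⟨4,21,0,2⟩,⟨5,0,16,0⟩],4,0,false⟩,⟨1,4,[⟨4,3,0,3⟩,⟨4,19,0,4⟩,⟨0,32,111,0⟩],4,0,false⟩,⟨1,4,[⟨4,3,0,5⟩,⟨4,51,0,6⟩,⟨0,16,85,0⟩],0,0,false⟩,⟨1,4,[⟨4,0,0,7⟩,⟨4,2,0,8⟩,⟨0,16,213,0⟩,⟨0,32,416,0⟩],0,0,false⟩,⟨6,0,[⟨4,0,0,9⟩,⟨4,1,0,10⟩,⟨0,16,63,0⟩,⟨0,64,69,0⟩,⟨0,128,256,0⟩],0,0,false⟩]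 [] [16,15,32,64,128,19,6,256,512,1024,1] [([1123,1088,1026,1059,1,12,8,24,136,402,753],[]),([1123,1088,1026,1059,1,12,8,24,136,402,755],[]),([1123,1088,1026,1059,1,12,8,24,136,400,753],[]),([1123,1088,1026,1059,1,12,8,24,136,400,755],[]),([1123,1088,1026,1059,1,4,8,16,128,256,512],[]),([1123,1088,1026,1059,1,4,8,16,128,256,514],[]),([1123,1088,1026,1059,1,4,8,16,128,258,512],[]),([1123,1088,1026,1059,1,4,8,16,128,258,514],[])] [] = true := by decide +kernel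
theorem c20006550 : chkSyM M20118 [1024,1057,1121,1090] (gens M20118.n) = true := by decide +kernel
theorem c20006546 : chkSyl M20118 D20118 E20004312 [1,2,4,8,16,32,64,128,256,512,1024] 0 [] [⟨3,0,[],0,0,false⟩,⟨3,0,[],1,2,false⟩,⟨3,0,[],2,3,false⟩,⟨3,0,[],3,0,false⟩,⟨5,0,[],0,0,false⟩,⟨1,3,[],3,0,false⟩,⟨1,106,[],0,0,false⟩,⟨1,122,[],0,0,false⟩,⟨1,7,[],0,0,false⟩,⟨1,32,[],0,0,false⟩] [] [1,2,4,8,16,32,64,128,256,512,1024] [] [] = true := by decide +kernel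
theorem c20006543 : chkCF M20118 (1,Z20004104) [2,4,33,37,49,97,256,512,514,545,1024,1026,1028,1304,1536,1538,1540] = true := by decide +kernel
theorem c20006562 : chkCF M20118 (49,Z20005970) [1] = true := by decide +kernel
theorem c20006580 : chkCF M20118 (1304,Z20005970) [1] = true := by decide +kernel
theorem c20006590 : chkCF M20118 (1536,Z20005970) [1] = true := by decide +kernel
theorem c20006548 : chkX M20118 [([1,2,4],[1,4,6]),([1,2,8,16],[1,2,16,24]),([1,2,8,16,42,64,128,256],[1,2,16,24,42,88,458,169]),([1,2,4,32,64,512],[1,4,6,32,578,101])] [(2,0,2),(2,0,4),(2,1,4),(2,1,8),(2,2,64),(2,2,128),(2,3,16),(2,3,32),(1,1024,1)] [0,33,1057] = true := by decide +kernel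
theorem c20006638 : chkRb M20118 [1,2,4,8,16,32,64,128,256,512,1026] D20118 = true := by decide +kernel
theorem c20006607 : chkStab M20118 [1,2,4,32,64,512,1024] [1] [1] [2,4,33] [([1,2,4,32,66,518,1057],[1,2,4,8,18,38,73]),([1,2,6,32,64,609,1024],[1,2,6,8,16,57,64]),([1,2,4,32,64,512,1026],[1,2,4,8,16,32,66]),([1,2,6,32,64,609,1030],[1,2,6,8,16,57,70])] [[1,2,4,32,64,512,1024],[1,2,4,32,66,518,1057],[1,2,6,32,64,609,1024],[1,2,4,32,64,512,1026],[1,2,6,32,64,609,1030],[1,2,6,32,66,613,1057],[1,2,4,32,66,518,1059],[1,2,6,32,66,613,1063],[1,2,6,32,64,609,1026],[1,2,4,32,64,512,1028],[1,2,6,32,64,609,1028],[1,2,4,32,64,512,1030],[1,2,6,32,66,613,1059],[1,2,4,32,66,518,1061],[1,2,6,32,66,613,1061],[1,2,4,32,66,518,1063]] [(0,0),(0,1),(0,2),(0,3),(1,1),(1,2),(1,3),(2,2),(2,3),(3,3),(4,1),(5,2),(5,3),(6,3),(7,1)] 4 64 = true := by decide +kernel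
theorem c20006632 : chkStab M20118 [1,2,4,32,64,512,1024] [1] [1] [2,4,33] [([1,2,4,32,66,518,1057],[1,2,4,8,18,38,73]),([1,2,6,32,64,609,1024],[1,2,6,8,16,57,64]),([1,2,4,32,64,512,1057],[1,2,4,8,16,32,73]),([1,2,4,32,64,512,1059],[1,2,4,8,16,32,75])] [[1,2,4,32,64,512,1024],[1,2,4,32,66,518,1057],[1,2,6,32,64,609,1024],[1,2,4,32,64,512,1057],[1,2,4,32,64,512,1059],[1,2,6,32,66,613,1057],[1,2,4,32,66,518,1024],[1,2,4,32,66,518,1026],[1,2,6,32,64,609,1057],[1,2,6,32,64,609,1059],[1,2,4,32,64,512,1026],[1,2,6,32,66,613,1024],[1,2,6,32,66,613,1026],[1,2,4,32,66,518,1059],[1,2,6,32,64,609,1026],[1,2,6,32,66,613,1059]] [(0,0),(0,1),(0,2),(0,3),(1,1),(1,2),(1,3),(2,2),(2,3),(3,3),(5,2),(5,3),(6,3),(8,3),(11,3)] 4 64 = true := by decide +kernel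
theorem c20006614 : chkStK M20118 6 [1,2,4,8,16,32,64,128,256,512,1026] 0x21020000000000000000000000000000000000000000000000000000000000000000000000000000000000000000000001000 ([1,2,4],[1,4,6]) ([1,2,8,16],[1,2,16,24]) = true := by decide +kernel
theorem c20006552 : chkDer M20118 [([1,2,8,16,42,64,128,256,1024],[1,2,16,24,42,88,458,169,1313])] [(1,0,[256,277,309,290]),(0,512,[]),(1,0,[488,441,479,398]),(0,512,[]),(1,0,[311,448,258,503]),(0,512,[]),(2,0,[405,448,416,503]),(0,512,[]),(1,0,[488,501,479,450])] ([1024,1057,1121,1090],[1123,1088,1026,1059]) = true := by decide +kernel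
theorem c20006485 : chkBig M20118 6 33 [1,2,4,8,32,64,144] = true := by decide +kernel
theorem c20006489 : chkBig M20118 6 1024 [2,4,8,33,64,144,272] = true := by decide +kernel
theorem c20006603 : chkDer M20118 [([1,2,4,32,64,512,1024],[1,4,6,32,578,101,1028])] [(1,0,[1,2,4,8,16,32,64]),(0,8,[]),(2,0,[1,4,2,8,50,38,70]),(0,8,[]),(1,0,[1,6,2,8,43,61,68])] ([1,2,4,32,64,512,1024],[1,2,4,32,64,512,1026]) = true := by decide +kernel
theorem c20006608 : chkDer M20118 [([1,2,4,32,64,512,1024],[1,4,6,32,578,101,1026])] [(1,0,[1,2,4,8,16,32,64]),(0,8,[]),(2,0,[1,4,2,8,50,38,64]),(0,8,[]),(1,0,[1,6,2,8,43,61,64])] ([1,2,4,32,64,512,1024],[1,2,4,32,64,512,1026]) = true := by decide +kernel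
theorem c20006633 : chkDer M20118 [([1,2,4,32,64,512,1024],[1,4,6,32,578,101,1059])] [(1,0,[1,2,4,8,16,32,64]),(1,0,[1,4,6,8,50,29,75]),(1,0,[1,6,2,8,43,61,70])] ([1,2,4,32,64,512,1024],[1,2,4,32,64,512,1057]) = true := by decide +kernel
theorem c20006628 : chkDer M20118 [([1,2,4,32,64,512,1024],[1,4,6,32,578,101,1061])] [(1,0,[1,2,4,8,16,32,64]),(1,0,[1,4,6,8,50,29,77]),(1,0,[1,6,2,8,43,61,66])] ([1,2,4,32,64,512,1024],[1,2,4,32,64,512,1057]) = true := by decide +kernel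
theorem c20006605 : chkDer M20118 [([1,2,4,32,64,512,1024],[1,4,6,32,578,101,1028])] [(1,0,[1,2,4,8,16,32,64]),(0,8,[]),(1,0,[1,6,4,8,43,31,70])] ([1,2,4,32,64,512,1024],[1,2,6,32,64,609,1030]) = true := by decide +kernel
theorem c20006615 : chkTr M20118 [1,2,4,8,16,32,64,128,256,512,1026] ([1,2,4,32],[1,4,6,32]) ([1,2,4,32],[1,4,6,32]) = true := by decide +kernel
theorem c20006616 : chkTr M20118 [1,2,4,8,16,32,64,128,256,512,1026] ([1,2,8,16,42],[1,2,16,24,42]) ([1,2,8,16,42],[1,2,16,24,42]) = true := by decide +kernel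
theorem c20006618 : chkTr M20118 [1,2,4,8,16,32,64,128,256,512,1026] ([1,2,8,16,42,64,128,256],[1,2,16,24,42,88,458,169]) ([1,2,8,16,42,64,128,256],[1,2,16,24,42,88,458,169]) = true := by decide +kernel
theorem c20006622 : chkTr M20118 [1,2,4,8,16,32,64,128,256,512,1026] ([1,2,8,16,42,64,128,256,1024],[1,2,16,24,42,88,458,169,1313]) ([1,2,8,16,42,64,128,256,1026],[1,2,16,24,42,88,458,169,1315]) = true := by decide +kernel
theorem c20006640 : chkTr M20118 [1,2,4,8,16,32,64,128,256,512,1026] ([1,2,4,32],[1,4,6,32]) ([1,2,4,32],[1,4,6,32]) = true := by decide +kernel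
theorem c20006642 : chkTr M20118 [1,2,4,8,16,32,64,128,256,512,1026] ([1,2,8,16,42,64],[1,2,16,24,42,88]) ([1,2,8,16,42,64],[1,2,16,24,42,88]) = true := by decide +kernel
theorem c20006644 : chkTr M20118 [1,2,4,8,16,32,64,128,256,512,1026] ([1,2,4,32,64,512],[1,4,6,32,578,101]) ([1,2,4,32,64,512],[1,4,6,32,578,101]) = true := by decide +kernel
theorem c20006648 : chkTr M20118 [1,2,4,8,16,32,64,128,256,512,1026] ([1,2,4,32,64,512,1024],[1,4,6,32,578,101,1030]) ([1,2,4,32,64,512,1026],[1,4,6,32,578,101,1028]) = true := by decide +kernel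
theorem c20006519 : chkDer M20118 [([1,2,8,16,42,64,128,256,1024],[1,2,16,24,42,88,458,169,1313])] [(0,16,[]),(1,0,[311]),(0,512,[]),(1,0,[477])] ([1026],[1024]) = true := by decide +kernel
theorem c20006470 : chkScM M20118 [1,2,4,32] [1,2,4,32,64,512] [1,2,4,32,64,512,1024] [1,2,4,8] [1,2,4,8] = true := by decide +kernel
theorem c20006503 : chkDer M20118 [([1,2,8,16,42,64,128,256],[1,2,16,24,42,88,458,169]),([1,2,8,16,42],[1,2,16,24,42])] [(0,16,[]),(1,0,[183]),(0,512,[]),(2,1,[21])] ([256],[33]) = true := by decide +kernel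
theorem c20006649 : chkDer M20118 [] [(0,1,[])] ([1,2,8,16,42,64,128,256,1024],[1,2,8,16,42,66,235,379,1057]) = true := by decide +kernel
theorem c20006653 : chkDer M20118 [] [(0,8,[])] ([1,2,8,16,42,64,128,256,1024],[1,2,8,18,42,64,130,353,1024]) = true := by decide +kernel
theorem c20006599 : chkDer M20118 [] [(0,1,[])] ([1,2,4,32,64,512,1024],[1,2,4,32,66,518,1057]) = true := by decide +kernel
theorem c20006539 : chkDer M20118 [([1,2,4,32,64,512,1024],[1,4,6,32,578,101,1030])] [(0,256,[]),(1,0,[102]),(0,16,[])] ([1540],[1024]) = true := by decide +kernel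
theorem c20006499 : chkDer M20118 [([1,2,8,16,42],[1,2,16,24,42])] [(0,8,[]),(1,0,[29])] ([49],[33]) = true := by decide +kernel
theorem c20006507 : chkDer M20118 [([1,2,4,32,64,512],[1,4,6,32,578,101]),([1,2,4],[1,4,6])] [(1,0,[32]),(0,144,[]),(2,1,[2])] ([512],[2]) = true := by decide +kernel
theorem c20006511 : chkDer M20118 [([1,2,4,32,64,512],[1,4,6,32,578,101])] [(1,0,[34])] ([514],[97]) = true := by decide +kernel
theorem c20006527 : chkDer M20118 [([1,2,8,16,42,64,128,256,1024],[1,2,16,24,42,88,458,169,1313])] [(0,1,[]),(2,0,[256])] ([1304],[1024]) = true := by decide +kernel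
theorem c20006557 : chkDer M20118 [] [(0,128,[])] ([1],[106]) = true := by decide +kernel
theorem c20006568 : chkDer M20118 [] [(0,512,[])] ([49],[163]) = true := by decide +kernel
theorem c20006582 : chkDer M20118 [] [(0,32,[])] ([1304],[1344]) = true := by decide +kernel

end Cfsg.Lib.L33E
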