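import Cfsg.Agent.L33E.R1C5

set_option autoImplicit false
set_option maxRecDepth 100000
set_option linter.all false
set_option Elab.async false

namespace Cfsg.Lib.L33E

theorem c20004101 : chkExtr M20084 E20004099 [805,400,99,497,918] [⟨3,0,[⟨4,0,0,0⟩,⟨4,1,0,1⟩],0,0,false⟩,⟨3,0,[⟨4,0,0,2⟩,⟨4,2,0,3⟩],0,0,false⟩,⟨3,0,[⟨4,0,0,4⟩,⟨4,1,0,5⟩,⟨0,2,2,0⟩,⟨0,4,4,0⟩,⟨2,2,0,0⟩,⟨2,3,0,0⟩,⟨2,4,0,0⟩,⟨2,5,0,0⟩,⟨2,6,0,0⟩,⟨2,7,0,0⟩],0,0,false⟩,⟨3,0,[⟨0,2,2,0⟩,⟨0,4,4,0⟩,⟨0,8,8,0⟩,⟨1,0,10,0⟩],0,0,false⟩] [] = true := by decide +kernel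
theorem c20004334 : chkTT M20084 E20004331 0 L20004333 0x2200000 M20084.W [32,1] [] [2,4,97] 99 0 [⟨3,0,[⟨6,0,0,1⟩,⟨4,0,0,1⟩,⟨4,1,0,2⟩],1,2,false⟩] [] = true := by decide +kernel
theorem c20004979 : chkFrat M20084 E20004977 [33,35,64] [64,35,66] [33,35,64,858,691,578,90,80,181] [33,35,64,858,691,578,90,80,181] [(0,[1,2,4]),(0,[1,2,4]),(0,[1,2,4]),(256,[7,4,2]),(0,[1,2,4]),(0,[1,2,4]),(272,[2,1,7]),(272,[2,1,7]),(0,[1,2,4])] [⟨0,0,[],0,0,false⟩,⟨0,0,[],0,2,false⟩,⟨2,0,[⟨4,0,0,0⟩,⟨4,3,0,1⟩,⟨0,1,7,0⟩],2,3,false⟩,⟨4,0,[⟨4,0,0,2⟩,⟨4,1,0,3⟩,⟨0,8,13,0⟩],3,3,false⟩,⟨5,0,[⟨4,0,0,4⟩,⟨0,16,21,0⟩],0,0,false⟩] [] = true := by decide +kernel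
theorem c20004950 : chkSyM M20084 [33,35,64] [33,35,64,858,691,578,90,80,181] = true := by decide +kernel
theorem c20004093 : chkCF M20084 (547,Z20004050) [1] = true := by decide +kernel
theorem c20004127 : chkCF M20084 (2,Z20004050) [1] = true := by decide +kernel
theorem c20004326 : chkCF M20084 (1,Z20004325) [2,4,32,33,37,49,97,256,512,545,547,805] = true := by decide +kernel
theorem c20004705 : chkCF M20084 (545,Z20004050) [1] = true := by decide +kernel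
theorem c20004761 : chkCF M20084 (1,Z20004104) [2,4,33,37,49,97,256,512,545,547,805] = true := by decide +kernel
theorem c20004778 : chkCF M20084 (4,Z20004050) [1] = true := by decide +kernel
theorem c20004010 : chkFrat M20084 E20000005 [1,2,4,32] [1,4,6,32] [1,2,4,32,64,512] [1,2,4,32,64,512] [(0,[1,2,4,8]),(0,[1,2,4,8]),(0,[1,2,4,8]),(0,[1,2,4,8]),(576,[3,2,4,10]),(64,[7,2,4,14])] [⟨0,0,[],0,0,false⟩,⟨0,0,[],0,0,false⟩,⟨0,0,[],0,0,false⟩,⟨2,0,[⟨0,1,3,0⟩,⟨1,0,0,0⟩],1,0,false⟩,⟨2,0,[⟨0,1,7,0⟩,⟨0,16,16,0⟩],0,0,false⟩] [([1,2,4,32,64,512],[1,4,6,32,611,64]),([1,2,4,32,64,512],[1,4,6,32,611,66]),([1,2,4,32,64,512],[1,4,6,32,611,68]),([1,2,4,32,64,512],[1,4,6,32,611,70]),([1,2,4,32,64,512],[1,4,6,32,611,97]),([1,2,4,32,64,512],[1,4,6,32,611,99]),([1,2,4,32,64,512],[1,4,6,32,611,101]),([1,2,4,32,64,512],[1,4,6,32,611,103]),([1,2,4,32,64,512],[1,4,6,32,609,64]),([1,2,4,32,64,512],[1,4,6,32,609,66]),(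[1,2,4,32,64,512],[1,4,6,32,609,68]),([1,2,4,32,64,512],[1,4,6,32,609,70]),([1,2,4,32,64,512],[1,4,6,32,609,97]),([1,2,4,32,64,512],[1,4,6,32,609,99]),([1,2,4,32,64,512],[1,4,6,32,609,101]),([1,2,4,32,64,512],[1,4,6,32,609,103]),([1,2,4,32,64,512],[1,4,6,32,578,64]),([1,2,4,32,64,512],[1,4,6,32,578,66]),([1,2,4,32,64,512],[1,4,6,32,578,68]),([1,2,4,32,64,512],[1,4,6,32,578,70]),([1,2,4,32,64,512],[1,4,6,32,578,97]),([1,2,4,32,64,512],[1,4,6,32,578,99]),([1,2,4,32,64,512],[1,4,6,32,578,101]),([1,2,4,32,64,512],[1,4,6,32,578,103]),([1,2,4,32,64,512],[1,4,6,32,576,64]),([1,2,4,32,64,512],[1,4,6,32,576,66]),([1,2,4,32,64,512],[1,4,6,32,576,68]),([1,2,4,32,64,512],[1,4,6,32,576,70]),([1,2,4,32,64,512],[1,4,6,32,576,97]),([1,2,4,32,64,512],[1,4,6,32,576,99]),([1,2,4,32,64,512],[1,4,6,32,576,101]),([1,2,4,32,64,512],[1,4,6,32,576,103])] = true := by decide +kernel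
theorem c20004948 : chkX M20084 [([1,2,4],[1,4,6]),([1,2,8,16],[1,2,16,24]),([1,2,8,16,42,64,128,256],[1,2,16,24,42,88,458,169]),([1,2,4,32,64,512],[1,4,6,32,578,101])] [(2,0,2),(2,0,4),(2,1,4),(2,1,8),(2,2,64),(2,2,128),(2,3,16),(2,3,32)] [0,33,321] = true := by decide +kernel
theorem c20005343 : chkRb M20084 [1,2,4,8,16,32,64,128,256,514] D20084 = true := by decide +kernel
theorem c20004678 : chkStab M20084 [1,2,4,32,64,512] [1] [1] [2,4,33] [([1,2,4,32,66,518],[1,2,4,8,18,38]),([1,2,6,32,64,609],[1,2,6,8,16,57]),([1,2,4,32,64,545],[1,2,4,8,16,41]),([1,2,6,32,97,576],[1,2,6,8,25,48])] [[1,2,4,32,64,512],[1,2,4,32,66,518],[1,2,6,32,64,609],[1,2,4,32,64,545],[1,2,6,32,97,576],[1,2,6,32,66,613],[1,2,4,32,66,551],[1,2,6,32,99,580],[1,2,6,32,64,576],[1,2,4,32,97,545],[1,2,6,32,97,609],[1,2,4,32,97,512],[1,2,6,32,66,580],[1,2,4,32,99,551],[1,2,6,32,99,613],[1,2,4,32,99,518]] [(0,0),(0,1),(0,2),(0,3),(1,1),(1,2),(1,3),(2,2),(2,3),(3,3),(4,1),(5,2),(5,3),(6,3),(7,1)]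 4 64 = true := by decide +kernel
theorem c20005337 : chkStab M20084 [1,2,4,32,64,512] [1] [1] [2,4,33] [([1,2,4,32,66,518],[1,2,4,8,18,38]),([1,2,6,32,64,609],[1,2,6,8,16,57]),([1,2,4,32,64,514],[1,2,4,8,16,34]),([1,2,6,32,68,611],[1,2,6,8,20,59])] [[1,2,4,32,64,512],[1,2,4,32,66,518],[1,2,6,32,64,609],[1,2,4,32,64,514],[1,2,6,32,68,611],[1,2,6,32,66,613],[1,2,4,32,66,516],[1,2,6,32,70,615],[1,2,6,32,64,611],[1,2,4,32,70,514],[1,2,6,32,68,609],[1,2,4,32,68,518],[1,2,6,32,66,615],[1,2,4,32,68,516],[1,2,6,32,70,613],[1,2,4,32,70,512]] [(0,0),(0,1),(0,2),(0,3),(1,1),(1,2),(1,3),(2,2),(2,3),(3,3),(4,1),(5,2),(5,3),(6,3),(7,1)] 4 64 = true := by decide +kernel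
theorem c20005361 : chkStab M20084 [1,2,4,32,64,512] [1] [1] [2,4,33] [([1,2,4,32,66,518],[1,2,4,8,18,38]),([1,2,6,32,64,609],[1,2,6,8,16,57]),([1,2,4,32,68,514],[1,2,4,8,20,34]),([1,2,4,32,68,545],[1,2,4,8,20,41])] [[1,2,4,32,64,512],[1,2,4,32,66,518],[1,2,6,32,64,609],[1,2,4,32,68,514],[1,2,4,32,68,545],[1,2,6,32,66,613],[1,2,4,32,70,516],[1,2,4,32,70,551],[1,2,6,32,70,611],[1,2,6,32,70,576],[1,2,6,32,68,615],[1,2,4,32,64,547],[1,2,6,32,68,580],[1,2,4,32,66,549],[1,2,6,32,64,578],[1,2,6,32,66,582]] [(0,0),(0,1),(0,2),(0,3),(1,1),(1,2),(1,3),(2,2),(2,3),(3,1),(3,3),(4,1),(6,3),(8,3),(10,3)] 4 64 = true := by decide +kernel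
theorem c20005378 : chkStab M20084 [1,2,4,32,64,512] [1] [1] [2,4,33] [([1,2,4,32,66,518],[1,2,4,8,18,38]),([1,2,6,32,64,609],[1,2,6,8,16,57]),([1,2,4,32,68,514],[1,2,4,8,20,34]),([1,2,4,32,68,512],[1,2,4,8,20,32])] [[1,2,4,32,64,512],[1,2,4,32,66,518],[1,2,6,32,64,609],[1,2,4,32,68,514],[1,2,4,32,68,512],[1,2,6,32,66,613],[1,2,4,32,70,516],[1,2,4,32,70,518],[1,2,6,32,70,611],[1,2,6,32,70,609],[1,2,6,32,68,615],[1,2,4,32,64,514],[1,2,6,32,68,613],[1,2,4,32,66,516],[1,2,6,32,64,611],[1,2,6,32,66,615]] [(0,0),(0,1),(0,2),(0,3),(1,1),(1,2),(1,3),(2,2),(2,3),(3,1),(3,3),(4,1),(6,3),(8,3),(10,3)] 4 64 = true := by decide +kernel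
theorem c20005393 : chkStab M20084 [1,2,4,32,64,512] [1] [1] [2,4,33] [([1,2,4,32,66,518],[1,2,4,8,18,38]),([1,2,6,32,64,609],[1,2,6,8,16,57]),([1,2,4,32,68,514],[1,2,4,8,20,34]),([1,2,4,32,68,545],[1,2,4,8,20,41])] [[1,2,4,32,64,512],[1,2,4,32,66,518],[1,2,6,32,64,609],[1,2,4,32,68,514],[1,2,4,32,68,545],[1,2,6,32,66,613],[1,2,4,32,70,516],[1,2,4,32,70,551],[1,2,6,32,70,611],[1,2,6,32,70,576],[1,2,6,32,68,615],[1,2,4,32,64,547],[1,2,6,32,68,580],[1,2,4,32,66,549],[1,2,6,32,64,578],[1,2,6,32,66,582]] [(0,0),(0,1),(0,2),(0,3),(1,1),(1,2),(1,3),(2,2),(2,3),(3,1),(3,3),(4,1),(6,3),(8,3),(10,3)] 4 64 = true := by decide +kernel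
theorem c20005408 : chkStab M20084 [1,2,4,32,64,512] [1] [1] [2,4,33] [([1,2,4,32,66,518],[1,2,4,8,18,38]),([1,2,6,32,64,609],[1,2,6,8,16,57]),([1,2,4,32,70,516],[1,2,4,8,22,36]),([1,2,4,32,68,547],[1,2,4,8,20,43])] [[1,2,4,32,64,512],[1,2,4,32,66,518],[1,2,6,32,64,609],[1,2,4,32,70,516],[1,2,4,32,68,547],[1,2,6,32,66,613],[1,2,4,32,68,514],[1,2,4,32,70,549],[1,2,6,32,68,615],[1,2,6,32,70,578],[1,2,6,32,70,611],[1,2,4,32,66,551],[1,2,6,32,68,582],[1,2,4,32,64,545],[1,2,6,32,66,580],[1,2,6,32,64,576]] [(0,0),(0,1),(0,2),(0,3),(1,1),(1,2),(1,3),(2,2),(2,3),(3,1),(3,3),(4,1),(6,3),(8,3),(10,3)] 4 64 = true := by decide +kernel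
theorem c20005432 : chkStab M20084 [1,2,4,32,64,512] [1] [1] [2,4,33] [([1,2,4,32,66,518],[1,2,4,8,18,38]),([1,2,6,32,64,609],[1,2,6,8,16,57]),([1,2,4,32,70,516],[1,2,4,8,22,36]),([1,2,4,32,68,547],[1,2,4,8,20,43])] [[1,2,4,32,64,512],[1,2,4,32,66,518],[1,2,6,32,64,609],[1,2,4,32,70,516],[1,2,4,32,68,547],[1,2,6,32,66,613],[1,2,4,32,68,514],[1,2,4,32,70,549],[1,2,6,32,68,615],[1,2,6,32,70,578],[1,2,6,32,70,611],[1,2,4,32,66,551],[1,2,6,32,68,582],[1,2,4,32,64,545],[1,2,6,32,66,580],[1,2,6,32,64,576]] [(0,0),(0,1),(0,2),(0,3),(1,1),(1,2),(1,3),(2,2),(2,3),(3,1),(3,3),(4,1),(6,3),(8,3),(10,3)] 4 64 = true := by decide +kernel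
theorem c20005449 : chkStab M20084 [1,2,4,32,64,512] [1] [1] [2,4,33] [([1,2,4,32,66,518],[1,2,4,8,18,38]),([1,2,6,32,64,609],[1,2,6,8,16,57]),([1,2,4,32,64,514],[1,2,4,8,16,34]),([1,2,6,32,68,611],[1,2,6,8,20,59])] [[1,2,4,32,64,512],[1,2,4,32,66,518],[1,2,6,32,64,609],[1,2,4,32,64,514],[1,2,6,32,68,611],[1,2,6,32,66,613],[1,2,4,32,66,516],[1,2,6,32,70,615],[1,2,6,32,64,611],[1,2,4,32,70,514],[1,2,6,32,68,609],[1,2,4,32,68,518],[1,2,6,32,66,615],[1,2,4,32,68,516],[1,2,6,32,70,613],[1,2,4,32,70,512]] [(0,0),(0,1),(0,2),(0,3),(1,1),(1,2),(1,3),(2,2),(2,3),(3,3),(4,1),(5,2),(5,3),(6,3),(7,1)] 4 64 = true := by decide +kernel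
theorem c20004343 : chkStK M20084 6 [1,2,4,8,16,32,64,128,256,512] 0x21020000000000000000000000000000000000000000000000000000000000000000000000000000000000000000000001000 ([1,2,4],[1,4,6]) ([1,2,8,16],[1,2,16,24]) = true := by decide +kernel
theorem c20004371 : chkStK M20084 6 [1,2,4,8,16,32,64,128,256,512] 0x21020000000000000000000000000000000000000000000000000000000000000000000000000000000000000000000001000 ([1,2,4],[1,4,6]) ([1,2,8,16],[1,2,16,24]) = true := by decide +kernel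
theorem c20004413 : chkStK M20084 6 [1,2,4,8,16,32,64,128,256,512] 0x21020000000000000000000000000000000000000000000000000000000000000000000000000000000000000000000001000 ([1,2,4],[1,4,6]) ([1,2,8,16],[1,2,16,24]) = true := by decide +kernel
theorem c20004997 : chkStK M20084 6 [1,2,4,8,16,32,64,128,256,512] 0x21020000000000000000000000000000000000000000000000000000000000000000000000000000000000000000000001000 ([1,2,4],[1,4,6]) ([1,2,8,16],[1,2,16,24]) = true := by decide +kernel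
theorem c20005039 : chkStK M20084 6 [1,2,4,8,16,32,64,128,256,512] 0x21020000000000000000000000000000000000000000000000000000000000000000000000000000000000000000000001000 ([1,2,4],[1,4,6]) ([1,2,8,16],[1,2,16,24]) = true := by decide +kernel
theorem c20005299 : chkStK M20084 6 [1,2,4,8,16,32,64,128,256,512] 0x21020000000000000000000000000000000000000000000000000000000000000000000000000000000000000000000001000 ([1,2,4],[1,4,6]) ([1,2,8,16],[1,2,16,24]) = true := by decide +kernel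
theorem c20005325 : chkStK M20084 6 [1,2,4,8,16,32,64,128,256,514] 0x21020000000000000000000000000000000000000000000000000000000000000000000000000000000000000000000001000 ([1,2,4],[1,4,6]) ([1,2,8,16],[1,2,16,24]) = true := by decide +kernel
theorem c20004044 : chkBig M20084 6 2 [1,2,4,8,16,32,64] = true := by decide +kernel
theorem c20004048 : chkBig M20084 6 97 [2,4,8,16,33,64,128] = true := by decide +kernel
theorem c20004266 : chkStab M20084 [1,2,4,32] [1] [1] [1,2,4,32] [([1,2,6,32],[1,2,6,8]),([1,2,4,34],[1,2,4,10])] [[1,2,4,32],[1,2,6,32],[1,2,4,34],[1,2,6,34]] [(0,0),(0,1),(1,1)] 2 32 = true := by decide +kernel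
theorem c20004278 : chkStab M20084 [1,2,4,32] [1] [1] [1,2,4,32] [([1,2,6,32],[1,2,6,8]),([1,2,4,34],[1,2,4,10])] [[1,2,4,32],[1,2,6,32],[1,2,4,34],[1,2,6,34]] [(0,0),(0,1),(1,1)] 2 32 = true := by decide +kernel
theorem c20004913 : chkStab M20084 [1,2,4,32] [1] [1] [1,2,4,32] [([1,2,6,32],[1,2,6,8]),([1,2,4,34],[1,2,4,10])] [[1,2,4,32],[1,2,6,32],[1,2,4,34],[1,2,6,34]] [(0,0),(0,1),(1,1)] 2 32 = true := by decide +kernel
theorem c20005391 : chkDer M20084 [([1,2,4,32,64,512],[1,4,6,32,609,103])] [(1,0,[1,2,4,8,16,32]),(0,8,[]),(2,0,[1,4,2,8,52,38]),(0,8,[]),(1,0,[1,6,2,8,47,61])] ([1,2,4,32,64,512],[1,2,4,32,68,545]) = true := by decide +kernel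
theorem c20005452 : chkDer M20084 [([1,2,4,32,64,512],[1,4,6,32,576,103])] [(1,0,[1,2,4,8,16,32]),(0,8,[]),(2,0,[1,4,2,8,52,38]),(0,8,[]),(1,0,[1,6,2,8,47,61])] ([1,2,4,32,64,512],[1,2,4,32,68,512]) = true := by decide +kernel
theorem c20005384 : chkDer M20084 [([1,2,4,32,64,512],[1,4,6,32,609,101])] [(1,0,[1,2,4,8,16,32]),(0,8,[]),(2,0,[1,4,2,8,50,38]),(0,8,[]),(1,0,[1,6,2,8,43,61])] ([1,2,4,32,64,512],[1,2,4,32,64,547]) = true := by decide +kernel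
theorem c20004952 : chkDer M20084 [([1,2,4,32,64,512],[1,4,6,32,578,101])] [(0,1,[]),(1,0,[9,11,18]),(0,144,[]),(1,0,[9,20,54]),(0,256,[]),(2,0,[43,20,54]),(0,144,[]),(2,0,[16,11,18])] ([33,35,64],[64,35,66]) = true := by decide +kernel
theorem c20005381 : chkDer M20084 [([1,2,4,32,64,512],[1,4,6,32,609,99])] [(1,0,[1,2,4,8,16,32]),(0,8,[]),(2,0,[1,4,2,8,54,32]),(0,8,[]),(1,0,[1,6,2,8,45,57])] ([1,2,4,32,64,512],[1,2,4,32,68,547]) = true := by decide +kernel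
theorem c20005430 : chkDer M20084 [([1,2,4,32,64,512],[1,4,6,32,576,66])] [(1,0,[1,2,4,8,16,32]),(0,8,[]),(2,0,[1,4,2,8,63,32]),(0,8,[]),(1,0,[1,6,2,8,36,57])] ([1,2,4,32,64,512],[1,2,4,32,68,547]) = true := by decide +kernel
theorem c20005333 : chkDer M20084 [([1,2,4,32,64,512],[1,4,6,32,611,64])] [(1,0,[1,2,4,8,16,32]),(0,8,[]),(2,0,[1,4,2,8,57,32]),(0,8,[]),(1,0,[1,6,2,8,32,57])] ([1,2,4,32,64,512],[1,2,4,32,64,514]) = true := by decide +kernel
theorem c20005409 : chkDer M20084 [([1,2,4,32,64,512],[1,4,6,32,578,97])] [(1,0,[1,2,4,8,16,32]),(0,8,[]),(2,0,[1,4,2,8,48,32]),(0,8,[]),(1,0,[1,6,2,8,41,57])] ([1,2,4,32,64,512],[1,2,4,32,64,514]) = true := by decide +kernel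
theorem c20005414 : chkDer M20084 [([1,2,4,32,64,512],[1,4,6,32,578,99])] [(1,0,[1,2,4,8,16,32]),(1,0,[1,4,6,8,50,27]),(1,0,[1,6,2,8,45,63])] ([1,2,4,32,64,512],[1,2,4,32,68,514]) = true := by decide +kernel
theorem c20005362 : chkDer M20084 [([1,2,4,32,64,512],[1,4,6,32,611,103])] [(1,0,[1,2,4,8,16,32]),(1,0,[1,4,6,8,59,31]),(1,0,[1,6,2,8,41,48])] ([1,2,4,32,64,512],[1,2,4,32,70,516]) = true := by decide +kernel
theorem c20004264 : chkDer M20084 [([1,2,4,32],[1,4,6,32]),([1,2,4,8,16,32,64,128,256,512],[32,2,4,8,113,3,64,138,377,518])] [(1,0,[1,2,4,8]),(1,1,[1,4,6,32]),(1,0,[8,4,6,3]),(2,1,[1,6,2,38]),(1,0,[1,6,2,14])] ([1,2,4,32],[1,2,4,34]) = true := by decide +kernel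
theorem c20004272 : chkDer M20084 [([1,2,4,32],[1,4,6,32]),([1,2,4,8,16,32,64,128,256,512],[32,2,4,8,113,3,64,138,379,518])] [(1,0,[1,2,4,8]),(1,1,[1,4,6,32]),(1,0,[8,4,6,3]),(2,1,[1,6,2,38]),(1,0,[1,6,2,14])] ([1,2,4,32],[1,2,4,34]) = true := by decide +kernel
theorem c20004907 : chkDer M20084 [([1,2,4,32],[1,4,6,32]),([1,2,4,8,16,32,64,128,256,512],[32,2,4,8,113,3,64,138,377,516])] [(1,0,[1,2,4,8]),(1,1,[1,4,6,32]),(1,0,[8,4,6,3]),(2,1,[1,6,2,38]),(1,0,[1,6,2,14])] ([1,2,4,32],[1,2,4,34]) = true := by decide +kernel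
theorem c20005399 : chkDer M20084 [([1,2,4,32,64,512],[1,4,6,32,578,66])] [(1,0,[1,2,4,8,16,32]),(1,0,[1,4,6,8,50,18]),(1,0,[1,6,2,8,36,54])] ([1,2,4,32,64,512],[1,2,4,32,68,514]) = true := by decide +kernel
theorem c20005404 : chkDer M20084 [([1,2,4,32,64,512],[1,4,6,32,578,70])] [(1,0,[1,2,4,8,16,32]),(1,0,[1,4,6,8,50,22]),(1,0,[1,6,2,8,32,48])] ([1,2,4,32,64,512],[1,2,4,32,70,516]) = true := by decide +kernel
theorem c20005425 : chkDer M20084 [([1,2,4,32,64,512],[1,4,6,32,578,103])] [(2,0,[1,6,2,8,45,61]),(2,0,[1,4,6,8,48,29])] ([1,2,4,32,64,514],[1,4,6,32,576,101]) = true := by decide +kernel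
theorem c20004681 : chkDer M20084 [([1,2,4,32,64,512],[1,4,6,32,578,68])] [(1,0,[1,2,4,8,16,32]),(0,8,[]),(1,0,[1,6,4,8,43,22])] ([1,2,4,32,64,512],[1,2,6,32,97,576]) = true := by decide +kernel
theorem c20005386 : chkDer M20084 [([1,2,4,32,64,512],[1,4,6,32,609,101])] [(1,0,[1,2,4,8,16,32]),(0,8,[]),(1,0,[1,6,4,8,32,31])] ([1,2,4,32,64,512],[1,2,6,32,101,578]) = true := by decide +kernel
theorem c20005396 : chkDer M20084 [([1,2,4,32,64,512],[1,4,6,32,578,64])] [(1,0,[1,2,4,8,16,32]),(0,8,[]),(1,0,[1,6,4,8,43,16])] ([1,2,4,32,64,512],[1,2,6,32,101,578]) = true := by decide +kernel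
theorem c20005371 : chkDer M20084 [([1,2,4,32,64,512],[1,4,6,32,609,68])] [(1,0,[1,2,4,8,16,32]),(0,8,[]),(1,0,[1,6,4,8,32,22])] ([1,2,4,32,64,512],[1,2,6,32,68,611]) = true := by decide +kernel
theorem c20004346 : chkTr M20084 [1,2,4,8,16,32,64,128,256,512] ([1,2,8,16,42,64],[1,2,16,24,42,88]) ([1,2,8,16,42,64],[1,2,16,24,42,88]) = true := by decide +kernel
theorem c20004358 : chkTr M20084 [1,2,4,8,16,32,64,128,256,512] ([1,2,4,32],[1,4,6,32]) ([1,2,4,32],[1,4,6,32]) = true := by decide +kernel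
theorem c20004361 : chkTr M20084 [1,2,4,8,16,32,64,128,256,512] ([1,2,8,16,42,64,128,256],[1,2,16,24,42,88,458,169]) ([1,2,8,16,42,64,128,256],[1,2,16,24,42,88,458,169]) = true := by decide +kernel
theorem c20004373 : chkTr M20084 [1,2,4,8,16,32,64,128,256,512] ([1,2,8,16,42],[1,2,16,24,42]) ([1,2,8,16,42],[1,2,16,24,42]) = true := by decide +kernel
theorem c20004376 : chkTr M20084 [1,2,4,8,16,32,64,128,256,512] ([1,2,4,32,64,512],[1,4,6,32,611,68]) ([1,2,4,32,64,512],[1,4,6,32,611,68]) = true := by decide +kernel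
theorem c20004388 : chkTr M20084 [1,2,4,8,16,32,64,128,256,512] ([1,2,8,16,42,64],[1,2,16,24,42,88]) ([1,2,8,16,42,64],[1,2,16,24,42,88]) = true := by decide +kernel
theorem c20004400 : chkTr M20084 [1,2,4,8,16,32,64,128,256,512] ([1,2,4,32],[1,4,6,32]) ([1,2,4,32],[1,4,6,32]) = true := by decide +kernel
theorem c20004403 : chkTr M20084 [1,2,4,8,16,32,64,128,256,512] ([1,2,8,16,42,64,128,256],[1,2,16,24,42,88,458,169]) ([1,2,8,16,42,64,128,256],[1,2,16,24,42,88,458,169]) = true := by decide +kernel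
theorem c20004415 : chkTr M20084 [1,2,4,8,16,32,64,128,256,512] ([1,2,8,16,42],[1,2,16,24,42]) ([1,2,8,16,42],[1,2,16,24,42]) = true := by decide +kernel
theorem c20004418 : chkTr M20084 [1,2,4,8,16,32,64,128,256,512] ([1,2,4,32,64,512],[1,4,6,32,611,68]) ([1,2,4,32,64,512],[1,4,6,32,611,68]) = true := by decide +kernel
theorem c20004639 : chkTr M20084 [1,2,4,8,16,32,64,128,256,512] ([1,2,8,16,42,64],[1,2,16,24,42,88]) ([1,2,8,16,42,64],[1,2,16,24,42,88]) = true := by decide +kernel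
theorem c20004651 : chkTr M20084 [1,2,4,8,16,32,64,128,256,512] ([1,2,4,32],[1,4,6,32]) ([1,2,4,32],[1,4,6,32]) = true := by decide +kernel
theorem c20004654 : chkTr M20084 [1,2,4,8,16,32,64,128,256,512] ([1,2,8,16,42,64,128,256],[1,2,16,24,42,88,458,169]) ([1,2,8,16,42,64,128,256],[1,2,16,24,42,88,458,169]) = true := by decide +kernel
theorem c20004999 : chkTr M20084 [1,2,4,8,16,32,64,128,256,512] ([1,2,8,16,42],[1,2,16,24,42]) ([1,2,8,16,42],[1,2,16,24,42]) = true := by decide +kernel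
theorem c20005002 : chkTr M20084 [1,2,4,8,16,32,64,128,256,512] ([1,2,4,32,64,512],[1,4,6,32,578,101]) ([1,2,4,32,64,512],[1,4,6,32,578,101]) = true := by decide +kernel
theorem c20005014 : chkTr M20084 [1,2,4,8,16,32,64,128,256,512] ([1,2,8,16,42,64],[1,2,16,24,42,88]) ([1,2,8,16,42,64],[1,2,16,24,42,88]) = true := by decide +kernel
theorem c20005026 : chkTr M20084 [1,2,4,8,16,32,64,128,256,512] ([1,2,4,32],[1,4,6,32]) ([1,2,4,32],[1,4,6,32]) = true := by decide +kernel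
theorem c20005029 : chkTr M20084 [1,2,4,8,16,32,64,128,256,512] ([1,2,8,16,42,64,128,256],[1,2,16,24,42,88,458,169]) ([1,2,8,16,42,64,128,256],[1,2,16,24,42,88,458,169]) = true := by decide +kernel
theorem c20005041 : chkTr M20084 [1,2,4,8,16,32,64,128,256,512] ([1,2,8,16,42],[1,2,16,24,42]) ([1,2,8,16,42],[1,2,16,24,42]) = true := by decide +kernel
theorem c20005044 : chkTr M20084 [1,2,4,8,16,32,64,128,256,512] ([1,2,4,32,64,512],[1,4,6,32,578,101]) ([1,2,4,32,64,512],[1,4,6,32,578,101]) = true := by decide +kernel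
theorem c20005056 : chkTr M20084 [1,2,4,8,16,32,64,128,256,512] ([1,2,8,16,42,64],[1,2,16,24,42,88]) ([1,2,8,16,42,64],[1,2,16,24,42,88]) = true := by decide +kernel
theorem c20005068 : chkTr M20084 [1,2,4,8,16,32,64,128,256,512] ([1,2,4,32],[1,4,6,32]) ([1,2,4,32],[1,4,6,32]) = true := by decide +kernel
theorem c20005071 : chkTr M20084 [1,2,4,8,16,32,64,128,256,512] ([1,2,8,16,42,64,128,256],[1,2,16,24,42,88,458,169]) ([1,2,8,16,42,64,128,256],[1,2,16,24,42,88,458,169]) = true := by decide +kernel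
theorem c20005301 : chkTr M20084 [1,2,4,8,16,32,64,128,256,512] ([1,2,8,16,42],[1,2,16,24,42]) ([1,2,8,16,42],[1,2,16,24,42]) = true := by decide +kernel
theorem c20005304 : chkTr M20084 [1,2,4,8,16,32,64,128,256,512] ([1,2,4,32,64,512],[1,4,6,32,578,101]) ([1,2,4,32,64,512],[1,4,6,32,578,101]) = true := by decide +kernel
theorem c20005316 : chkTr M20084 [1,2,4,8,16,32,64,128,256,512] ([1,2,8,16,42,64],[1,2,16,24,42,88]) ([1,2,8,16,42,64],[1,2,16,24,42,88]) = true := by decide +kernel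
theorem c20004667 : chkTr M20084 [1,2,4,8,16,32,64,128,256,514] ([1,2,4,32],[1,4,6,32]) ([1,2,4,32],[1,4,6,32]) = true := by decide +kernel
theorem c20004670 : chkTr M20084 [1,2,4,8,16,32,64,128,256,514] ([1,2,8,16,42,64,128,256],[1,2,16,24,42,88,458,169]) ([1,2,8,16,42,64,128,256],[1,2,16,24,42,88,458,169]) = true := by decide +kernel
theorem c20005327 : chkTr M20084 [1,2,4,8,16,32,64,128,256,514] ([1,2,8,16,42],[1,2,16,24,42]) ([1,2,8,16,42],[1,2,16,24,42]) = true := by decide +kernel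
theorem c20005332 : chkTr M20084 [1,2,4,8,16,32,64,128,256,514] ([1,2,4,32,64,512],[1,4,6,32,578,101]) ([1,2,4,32,64,514],[1,4,6,32,576,101]) = true := by decide +kernel
theorem c20005347 : chkTr M20084 [1,2,4,8,16,32,64,128,256,514] ([1,2,8,16,42,64],[1,2,16,24,42,88]) ([1,2,8,16,42,64],[1,2,16,24,42,88]) = true := by decide +kernel
theorem c20005421 : chkTr M20084 [1,2,4,8,16,32,64,128,256,514] ([1,2,4,32],[1,4,6,32]) ([1,2,4,32],[1,4,6,32]) = true := by decide +kernel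
theorem c20005424 : chkTr M20084 [1,2,4,8,16,32,64,128,256,514] ([1,2,8,16,42,64,128,256],[1,2,16,24,42,88,458,169]) ([1,2,8,16,42,64,128,256],[1,2,16,24,42,88,458,169]) = true := by decide +kernel
theorem c20004711 : chkDer M20084 [([1,2,4,32,64,512],[1,4,6,32,578,101]),([1,2,4],[1,4,6])] [(0,1,[]),(1,0,[27]),(0,256,[]),(1,0,[38]),(0,144,[]),(1,1,[6])] ([97],[2]) = true := by decide +kernel
theorem c20004689 : chkDer M20084 [([1,2,8,16,42,64,128,256],[1,2,16,24,42,88,458,169]),([1,2,8,16,42],[1,2,16,24,42])] [(0,16,[]),(1,0,[183]),(0,512,[]),(2,1,[21])] ([256],[33]) = true := by decide +kernel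
theorem c20004700 : chkDer M20084 [([1,2,4,32,64,512],[1,4,6,32,578,101]),([1,2,4,32],[1,4,6,32])] [(1,0,[41]),(0,144,[]),(2,1,[11]),(0,16,[])] ([545],[33]) = true := by decide +kernel
theorem c20004062 : chkDer M20084 [([1,2,4,32,64,512],[1,4,6,32,611,68]),([1,2,4],[1,4,6])] [(1,0,[41]),(0,144,[]),(2,1,[2])] ([545],[2]) = true := by decide +kernel
theorem c20004088 : chkDer M20084 [([1,2,4,32,64,512],[1,4,6,32,611,68])] [(1,0,[43])] ([547],[97]) = true := by decide +kernel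
theorem c20004749 : chkDer M20084 [([1,2,4,32],[1,4,6,32])] [(2,0,[11]),(0,16,[])] ([37],[33]) = true := by decide +kernel
theorem c20004829 : chkDer M20084 [] [(0,8,[])] ([1,2,4,32],[1,2,6,32]) = true := by decide +kernel
theorem c20004745 : chkDer M20084 [([1,2,4],[1,4,6])] [(2,0,[2])] ([4],[2]) = true := by decide +kernel
theorem c20004076 : chkDer M20084 [] [(0,1,[])] ([97],[99]) = true := by decide +kernel
theorem c20004095 : chkDer M20084 [] [(0,1,[])] ([547],[549]) = true := by decide +kernel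
theorem c20004140 : chkDer M20084 [] [(0,576,[])] ([1],[5]) = true := by decide +kernel
theorem c20004279 : chkDer M20084 [] [(0,8,[])] ([4],[6]) = true := by decide +kernel
theorem c20004291 : chkDer M20084 [] [(0,128,[])] ([1],[106]) = true := by decide +kernel
theorem c20004696 : chkDer M20084 [] [(0,4,[])] ([256],[400]) = true := by decide +kernel
theorem c20004722 : chkDer M20084 [] [(0,132,[])] ([256],[499]) = true := by decide +kernel
theorem c20004769 : chkDer M20084 [] [(0,64,[])] ([1],[3]) = true := by decide +kernel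
theorem c20004791 : chkDer M20084 [] [(0,24,[])] ([4],[12]) = true := by decide +kernel
theorem c20004922 : chkDer M20084 [] [(0,16,[])] ([4],[14]) = true := by decide +kernel
theorem c20004934 : chkDer M20084 [] [(0,384,[])] ([1],[112]) = true := by decide +kernel
theorem c20004961 : chkDer M20084 [] [(0,13,[])] ([805],[856]) = true := by decide +kernel
theorem c20004973 : chkDer M20084 [] [(0,8,[])] ([547],[578]) = true := by decide +kernel

end Cfsg.Lib.L33E
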