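import Cfsg.Agent.L33E.R1C5

set_option autoImplicit false
set_option maxRecDepth 100000
set_option linter.all false
set_option Elab.async false

namespace Cfsg.Lib.L33E

theorem c20004742 : chkExtr M20084 E20004099 [805,400,99,497,918] [⟨3,0,[⟨4,0,0,0⟩,⟨4,1,0,1⟩],0,0,false⟩,⟨3,0,[⟨4,0,0,2⟩,⟨4,2,0,3⟩],0,0,false⟩,⟨3,0,[⟨4,0,0,4⟩,⟨4,1,0,5⟩,⟨0,2,2,0⟩,⟨0,4,4,0⟩,⟨2,2,0,0⟩,⟨2,3,0,0⟩,⟨2,4,0,0⟩,⟨2,5,0,0⟩,⟨2,6,0,0⟩,⟨2,7,0,0⟩],0,0,false⟩,⟨3,0,[⟨0,2,2,0⟩,⟨0,4,4,0⟩,⟨0,8,8,0⟩,⟨1,0,10,0⟩],0,0,false⟩] [] = true := by decide +kernel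
theorem c20004315 : chkTT M20084 E20004312 0 L20004314 0x200002 M20084.W [1] [] [] 99 0 [] [] = true := by decide +kernel
theorem c20004983 : chkFrat M20084 E20004981 [33,35,64] [64,35,66] [33,35,64,858,691,578,90,80,181] [33,35,64,858,691,578,90,80,181] [(0,[1,2,4]),(0,[1,2,4]),(0,[1,2,4]),(256,[7,4,2]),(0,[1,2,4]),(0,[1,2,4]),(272,[2,1,7]),(272,[2,1,7]),(0,[1,2,4])] [⟨0,0,[],0,0,false⟩,⟨0,0,[],0,2,false⟩,⟨2,0,[⟨4,0,0,0⟩,⟨4,3,0,1⟩,⟨0,1,7,0⟩],2,3,false⟩,⟨4,0,[⟨4,0,0,2⟩,⟨4,1,0,3⟩,⟨0,8,13,0⟩],3,3,false⟩,⟨5,0,[⟨4,0,0,4⟩,⟨0,16,21,0⟩],0,0,false⟩] [] = true := by decide +kernel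
theorem c20004988 : chkFrat M20084 E20004986 [33,35,64] [64,35,66] [33,35,64,858,691,578,90,80,181] [33,35,64,858,691,578,90,80,181] [(0,[1,2,4]),(0,[1,2,4]),(0,[1,2,4]),(256,[7,4,2]),(0,[1,2,4]),(0,[1,2,4]),(272,[2,1,7]),(272,[2,1,7]),(0,[1,2,4])] [⟨0,0,[],0,0,false⟩,⟨0,0,[],0,2,false⟩,⟨2,0,[⟨6,0,0,0⟩,⟨4,0,0,0⟩,⟨4,3,0,1⟩,⟨0,1,7,0⟩],2,3,false⟩,⟨4,0,[⟨6,0,0,1⟩,⟨4,0,0,2⟩,⟨4,1,0,3⟩,⟨0,8,13,0⟩],3,3,false⟩] [] = true := by decide +kernel
theorem c20004067 : chkCF M20084 (545,Z20004050) [1] = true := by decide +kernel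
theorem c20004121 : chkCF M20084 (1,Z20004104) [2,4,33,37,49,97,256,512,545,547,805] = true := by decide +kernel
theorem c20004138 : chkCF M20084 (4,Z20004050) [1] = true := by decide +kernel
theorem c20004329 : chkCF M20084 (32,Z20004050) [1] = true := by decide +kernel
theorem c20004716 : chkCF M20084 (97,Z20004050) [1] = true := by decide +kernel
theorem c20004764 : chkCF M20084 (33,Z20004050) [1] = true := by decide +kernel
theorem c20004943 : chkCF M20084 (512,Z20004050) [1] = true := by decide +kernel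
theorem c20004310 : chkX M20084 [([1,2,4],[1,4,6]),([1,2,8,16],[1,2,16,24]),([1,2,8,16,42,64,128,256],[1,2,16,24,42,88,458,169]),([1,2,4,32,64,512],[1,4,6,32,611,68])] [(2,0,2),(2,0,4),(2,1,4),(2,1,8),(2,2,64),(2,2,128),(2,3,16),(2,3,32)] [0,33,833] = true := by decide +kernel
theorem c20005324 : chkRb M20084 [1,2,4,8,16,32,64,128,256,514] D20084 = true := by decide +kernel
theorem c20004664 : chkStab M20084 [1,2,4,32,64,512] [1] [1] [2,4,33] [([1,2,4,32,66,518],[1,2,4,8,18,38]),([1,2,6,32,64,609],[1,2,6,8,16,57]),([1,2,4,32,64,545],[1,2,4,8,16,41]),([1,2,6,32,97,576],[1,2,6,8,25,48])] [[1,2,4,32,64,512],[1,2,4,32,66,518],[1,2,6,32,64,609],[1,2,4,32,64,545],[1,2,6,32,97,576],[1,2,6,32,66,613],[1,2,4,32,66,551],[1,2,6,32,99,580],[1,2,6,32,64,576],[1,2,4,32,97,545],[1,2,6,32,97,609],[1,2,4,32,97,512],[1,2,6,32,66,580],[1,2,4,32,99,551],[1,2,6,32,99,613],[1,2,4,32,99,518]] [(0,0),(0,1),(0,2),(0,3),(1,1),(1,2),(1,3),(2,2),(2,3),(3,3),(4,1),(5,2),(5,3),(6,3),(7,1)]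 4 64 = true := by decide +kernel
theorem c20005323 : chkStab M20084 [1,2,4,32,64,512] [1] [1] [2,4,33] [([1,2,4,32,66,518],[1,2,4,8,18,38]),([1,2,6,32,64,609],[1,2,6,8,16,57]),([1,2,4,32,64,545],[1,2,4,8,16,41]),([1,2,6,32,97,576],[1,2,6,8,25,48])] [[1,2,4,32,64,512],[1,2,4,32,66,518],[1,2,6,32,64,609],[1,2,4,32,64,545],[1,2,6,32,97,576],[1,2,6,32,66,613],[1,2,4,32,66,551],[1,2,6,32,99,580],[1,2,6,32,64,576],[1,2,4,32,97,545],[1,2,6,32,97,609],[1,2,4,32,97,512],[1,2,6,32,66,580],[1,2,4,32,99,551],[1,2,6,32,99,613],[1,2,4,32,99,518]] [(0,0),(0,1),(0,2),(0,3),(1,1),(1,2),(1,3),(2,2),(2,3),(3,3),(4,1),(5,2),(5,3),(6,3),(7,1)] 4 64 = true := by decide +kernel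
theorem c20005356 : chkStab M20084 [1,2,4,32,64,512] [1] [1] [2,4,33] [([1,2,4,32,66,518],[1,2,4,8,18,38]),([1,2,6,32,64,609],[1,2,6,8,16,57]),([1,2,4,32,64,547],[1,2,4,8,16,43]),([1,2,6,32,101,578],[1,2,6,8,29,50])] [[1,2,4,32,64,512],[1,2,4,32,66,518],[1,2,6,32,64,609],[1,2,4,32,64,547],[1,2,6,32,101,578],[1,2,6,32,66,613],[1,2,4,32,66,549],[1,2,6,32,103,582],[1,2,6,32,64,578],[1,2,4,32,103,547],[1,2,6,32,101,609],[1,2,4,32,101,518],[1,2,6,32,66,582],[1,2,4,32,101,549],[1,2,6,32,103,613],[1,2,4,32,103,512]] [(0,0),(0,1),(0,2),(0,3),(1,1),(1,2),(1,3),(2,2),(2,3),(3,3),(4,1),(5,2),(5,3),(6,3),(7,1)] 4 64 = true := by decide +kernel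
theorem c20005373 : chkStab M20084 [1,2,4,32,64,512] [1] [1] [2,4,33] [([1,2,4,32,66,518],[1,2,4,8,18,38]),([1,2,6,32,64,609],[1,2,6,8,16,57]),([1,2,4,32,64,514],[1,2,4,8,16,34]),([1,2,6,32,68,611],[1,2,6,8,20,59])] [[1,2,4,32,64,512],[1,2,4,32,66,518],[1,2,6,32,64,609],[1,2,4,32,64,514],[1,2,6,32,68,611],[1,2,6,32,66,613],[1,2,4,32,66,516],[1,2,6,32,70,615],[1,2,6,32,64,611],[1,2,4,32,70,514],[1,2,6,32,68,609],[1,2,4,32,68,518],[1,2,6,32,66,615],[1,2,4,32,68,516],[1,2,6,32,70,613],[1,2,4,32,70,512]] [(0,0),(0,1),(0,2),(0,3),(1,1),(1,2),(1,3),(2,2),(2,3),(3,3),(4,1),(5,2),(5,3),(6,3),(7,1)] 4 64 = true := by decide +kernel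
theorem c20005388 : chkStab M20084 [1,2,4,32,64,512] [1] [1] [2,4,33] [([1,2,4,32,66,518],[1,2,4,8,18,38]),([1,2,6,32,64,609],[1,2,6,8,16,57]),([1,2,4,32,64,547],[1,2,4,8,16,43]),([1,2,6,32,101,578],[1,2,6,8,29,50])] [[1,2,4,32,64,512],[1,2,4,32,66,518],[1,2,6,32,64,609],[1,2,4,32,64,547],[1,2,6,32,101,578],[1,2,6,32,66,613],[1,2,4,32,66,549],[1,2,6,32,103,582],[1,2,6,32,64,578],[1,2,4,32,103,547],[1,2,6,32,101,609],[1,2,4,32,101,518],[1,2,6,32,66,582],[1,2,4,32,101,549],[1,2,6,32,103,613],[1,2,4,32,103,512]] [(0,0),(0,1),(0,2),(0,3),(1,1),(1,2),(1,3),(2,2),(2,3),(3,3),(4,1),(5,2),(5,3),(6,3),(7,1)] 4 64 = true := by decide +kernel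
theorem c20005403 : chkStab M20084 [1,2,4,32,64,512] [1] [1] [2,4,33] [([1,2,4,32,66,518],[1,2,4,8,18,38]),([1,2,6,32,64,609],[1,2,6,8,16,57]),([1,2,4,32,68,514],[1,2,4,8,20,34]),([1,2,4,32,68,545],[1,2,4,8,20,41])] [[1,2,4,32,64,512],[1,2,4,32,66,518],[1,2,6,32,64,609],[1,2,4,32,68,514],[1,2,4,32,68,545],[1,2,6,32,66,613],[1,2,4,32,70,516],[1,2,4,32,70,551],[1,2,6,32,70,611],[1,2,6,32,70,576],[1,2,6,32,68,615],[1,2,4,32,64,547],[1,2,6,32,68,580],[1,2,4,32,66,549],[1,2,6,32,64,578],[1,2,6,32,66,582]] [(0,0),(0,1),(0,2),(0,3),(1,1),(1,2),(1,3),(2,2),(2,3),(3,1),(3,3),(4,1),(6,3),(8,3),(10,3)] 4 64 = true := by decide +kernel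
theorem c20005418 : chkStab M20084 [1,2,4,32,64,512] [1] [1] [2,4,33] [([1,2,4,32,66,518],[1,2,4,8,18,38]),([1,2,6,32,64,609],[1,2,6,8,16,57]),([1,2,4,32,68,514],[1,2,4,8,20,34]),([1,2,4,32,68,512],[1,2,4,8,20,32])] [[1,2,4,32,64,512],[1,2,4,32,66,518],[1,2,6,32,64,609],[1,2,4,32,68,514],[1,2,4,32,68,512],[1,2,6,32,66,613],[1,2,4,32,70,516],[1,2,4,32,70,518],[1,2,6,32,70,611],[1,2,6,32,70,609],[1,2,6,32,68,615],[1,2,4,32,64,514],[1,2,6,32,68,613],[1,2,4,32,66,516],[1,2,6,32,64,611],[1,2,6,32,66,615]] [(0,0),(0,1),(0,2),(0,3),(1,1),(1,2),(1,3),(2,2),(2,3),(3,1),(3,3),(4,1),(6,3),(8,3),(10,3)] 4 64 = true := by decide +kernel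
theorem c20005442 : chkStab M20084 [1,2,4,32,64,512] [1] [1] [2,4,33] [([1,2,4,32,66,518],[1,2,4,8,18,38]),([1,2,6,32,64,609],[1,2,6,8,16,57]),([1,2,4,32,68,514],[1,2,4,8,20,34]),([1,2,4,32,68,545],[1,2,4,8,20,41])] [[1,2,4,32,64,512],[1,2,4,32,66,518],[1,2,6,32,64,609],[1,2,4,32,68,514],[1,2,4,32,68,545],[1,2,6,32,66,613],[1,2,4,32,70,516],[1,2,4,32,70,551],[1,2,6,32,70,611],[1,2,6,32,70,576],[1,2,6,32,68,615],[1,2,4,32,64,547],[1,2,6,32,68,580],[1,2,4,32,66,549],[1,2,6,32,64,578],[1,2,6,32,66,582]] [(0,0),(0,1),(0,2),(0,3),(1,1),(1,2),(1,3),(2,2),(2,3),(3,1),(3,3),(4,1),(6,3),(8,3),(10,3)] 4 64 = true := by decide +kernel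
theorem c20004317 : chkNbp M20084 6 33 32 = true := by decide +kernel
theorem c20004385 : chkStK M20084 6 [1,2,4,8,16,32,64,128,256,512] 0x21020000000000000000000000000000000000000000000000000000000000000000000000000000000000000000000001000 ([1,2,4],[1,4,6]) ([1,2,8,16],[1,2,16,24]) = true := by decide +kernel
theorem c20004636 : chkStK M20084 6 [1,2,4,8,16,32,64,128,256,512] 0x21020000000000000000000000000000000000000000000000000000000000000000000000000000000000000000000001000 ([1,2,4],[1,4,6]) ([1,2,8,16],[1,2,16,24]) = true := by decide +kernel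
theorem c20005011 : chkStK M20084 6 [1,2,4,8,16,32,64,128,256,512] 0x21020000000000000000000000000000000000000000000000000000000000000000000000000000000000000000000001000 ([1,2,4],[1,4,6]) ([1,2,8,16],[1,2,16,24]) = true := by decide +kernel
theorem c20005053 : chkStK M20084 6 [1,2,4,8,16,32,64,128,256,512] 0x21020000000000000000000000000000000000000000000000000000000000000000000000000000000000000000000001000 ([1,2,4],[1,4,6]) ([1,2,8,16],[1,2,16,24]) = true := by decide +kernel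
theorem c20005313 : chkStK M20084 6 [1,2,4,8,16,32,64,128,256,512] 0x21020000000000000000000000000000000000000000000000000000000000000000000000000000000000000000000001000 ([1,2,4],[1,4,6]) ([1,2,8,16],[1,2,16,24]) = true := by decide +kernel
theorem c20005344 : chkStK M20084 6 [1,2,4,8,16,32,64,128,256,514] 0x21020000000000000000000000000000000000000000000000000000000000000000000000000000000000000000000001000 ([1,2,4],[1,4,6]) ([1,2,8,16],[1,2,16,24]) = true := by decide +kernel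
theorem c20004046 : chkBig M20084 6 33 [1,2,4,8,32,64,144] = true := by decide +kernel
theorem c20004687 : chkBig M20084 6 33 [1,2,4,8,32,64,144] = true := by decide +kernel
theorem c20004274 : chkStab M20084 [1,2,4,32] [1] [1] [1,2,4,32] [([1,2,6,32],[1,2,6,8]),([1,2,4,34],[1,2,4,10])] [[1,2,4,32],[1,2,6,32],[1,2,4,34],[1,2,6,34]] [(0,0),(0,1),(1,1)] 2 32 = true := by decide +kernel
theorem c20004909 : chkStab M20084 [1,2,4,32] [1] [1] [1,2,4,32] [([1,2,6,32],[1,2,6,8]),([1,2,4,34],[1,2,4,10])] [[1,2,4,32],[1,2,6,32],[1,2,4,34],[1,2,6,34]] [(0,0),(0,1),(1,1)] 2 32 = true := by decide +kernel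
theorem c20005364 : chkDer M20084 [([1,2,4,32,64,512],[1,4,6,32,611,103])] [(1,0,[1,2,4,8,16,32]),(0,8,[]),(2,0,[1,4,2,8,52,38]),(0,8,[]),(1,0,[1,6,2,8,47,61])] ([1,2,4,32,64,512],[1,2,4,32,68,547]) = true := by decide +kernel
theorem c20005376 : chkDer M20084 [([1,2,4,32,64,512],[1,4,6,32,609,70])] [(1,0,[1,2,4,8,16,32]),(0,8,[]),(2,0,[1,4,2,8,61,38]),(0,8,[]),(1,0,[1,6,2,8,38,61])] ([1,2,4,32,64,512],[1,2,4,32,68,512]) = true := by decide +kernel
theorem c20005440 : chkDer M20084 [([1,2,4,32,64,512],[1,4,6,32,576,70])] [(1,0,[1,2,4,8,16,32]),(0,8,[]),(2,0,[1,4,2,8,61,38]),(0,8,[]),(1,0,[1,6,2,8,38,61])] ([1,2,4,32,64,512],[1,2,4,32,68,545]) = true := by decide +kernel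
theorem c20004679 : chkDer M20084 [([1,2,4,32,64,512],[1,4,6,32,578,68])] [(1,0,[1,2,4,8,16,32]),(0,8,[]),(2,0,[1,4,2,8,59,38]),(0,8,[]),(1,0,[1,6,2,8,34,61])] ([1,2,4,32,64,512],[1,2,4,32,64,545]) = true := by decide +kernel
theorem c20005433 : chkDer M20084 [([1,2,4,32,64,512],[1,4,6,32,576,68])] [(1,0,[1,2,4,8,16,32]),(0,8,[]),(2,0,[1,4,2,8,59,38]),(0,8,[]),(1,0,[1,6,2,8,34,61])] ([1,2,4,32,64,512],[1,2,4,32,64,547]) = true := by decide +kernel
theorem c20005340 : chkDer M20084 [([1,2,4,32,64,512],[1,4,6,32,611,66])] [(1,0,[1,2,4,8,16,32]),(0,8,[]),(2,0,[1,4,2,8,63,32]),(0,8,[]),(1,0,[1,6,2,8,36,57])] ([1,2,4,32,64,512],[1,2,4,32,68,512]) = true := by decide +kernel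
theorem c20005401 : chkDer M20084 [([1,2,4,32,64,512],[1,4,6,32,578,66])] [(1,0,[1,2,4,8,16,32]),(0,8,[]),(2,0,[1,4,2,8,63,32]),(0,8,[]),(1,0,[1,6,2,8,36,57])] ([1,2,4,32,64,512],[1,2,4,32,68,545]) = true := by decide +kernel
theorem c20004674 : chkDer M20084 [([1,2,4,32,64,512],[1,4,6,32,609,97])] [(1,0,[1,2,4,8,16,32]),(0,8,[]),(2,0,[1,4,2,8,48,32]),(0,8,[]),(1,0,[1,6,2,8,41,57])] ([1,2,4,32,64,512],[1,2,4,32,64,545]) = true := by decide +kernel
theorem c20005352 : chkDer M20084 [([1,2,4,32,64,512],[1,4,6,32,611,97])] [(1,0,[1,2,4,8,16,32]),(0,8,[]),(2,0,[1,4,2,8,48,32]),(0,8,[]),(1,0,[1,6,2,8,41,57])] ([1,2,4,32,64,512],[1,2,4,32,64,547]) = true := by decide +kernel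
theorem c20005357 : chkDer M20084 [([1,2,4,32,64,512],[1,4,6,32,611,99])] [(1,0,[1,2,4,8,16,32]),(1,0,[1,4,6,8,59,27]),(1,0,[1,6,2,8,45,54])] ([1,2,4,32,64,512],[1,2,4,32,68,514]) = true := by decide +kernel
theorem c20005450 : chkDer M20084 [([1,2,4,32,64,512],[1,4,6,32,576,103])] [(1,0,[1,2,4,8,16,32]),(1,0,[1,4,6,8,48,31]),(1,0,[1,6,2,8,47,59])] ([1,2,4,32,64,512],[1,2,4,32,68,514]) = true := by decide +kernel
theorem c20005374 : chkDer M20084 [([1,2,4,32,64,512],[1,4,6,32,609,70])] [(1,0,[1,2,4,8,16,32]),(1,0,[1,4,6,8,57,22]),(1,0,[1,6,2,8,38,59])] ([1,2,4,32,64,512],[1,2,4,32,68,514]) = true := by decide +kernel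
theorem c20004268 : chkDer M20084 [([1,2,4,32],[1,4,6,32]),([1,2,4,8,16,32,64,128,256,512],[32,2,4,8,113,3,64,138,377,516])] [(1,0,[1,2,4,8]),(1,1,[1,4,6,32]),(1,0,[8,4,6,3]),(2,1,[1,6,2,38]),(1,0,[1,6,2,14])] ([1,2,4,32],[1,2,4,34]) = true := by decide +kernel
theorem c20004903 : chkDer M20084 [([1,2,4,32],[1,4,6,32]),([1,2,4,8,16,32,64,128,256,512],[32,2,4,8,113,3,64,138,377,518])] [(1,0,[1,2,4,8]),(1,1,[1,4,6,32]),(1,0,[8,4,6,3]),(2,1,[1,6,2,38]),(1,0,[1,6,2,14])] ([1,2,4,32],[1,2,4,34]) = true := by decide +kernel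
theorem c20004915 : chkDer M20084 [([1,2,4,32],[1,4,6,32]),([1,2,4,8,16,32,64,128,256,512],[32,2,4,8,113,3,64,138,379,516])] [(1,0,[1,2,4,8]),(1,1,[1,4,6,32]),(1,0,[8,4,6,3]),(2,1,[1,6,2,38]),(1,0,[1,6,2,14])] ([1,2,4,32],[1,2,4,34]) = true := by decide +kernel
theorem c20005443 : chkDer M20084 [([1,2,4,32,64,512],[1,4,6,32,576,99])] [(2,0,[1,6,2,8,47,63]),(2,0,[1,4,6,8,50,29])] ([1,2,4,32,64,512],[1,4,6,32,578,101]) = true := by decide +kernel
theorem c20005367 : chkDer M20084 [([1,2,4,32,64,512],[1,4,6,32,609,66])] [(2,0,[1,6,2,8,38,63]),(2,0,[1,4,6,8,59,20])] ([1,2,4,32,64,512],[1,4,6,32,611,68]) = true := by decide +kernel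
theorem c20004662 : chkDer M20084 [([1,2,4,32,64,512],[1,4,6,32,611,101])] [(1,0,[1,2,4,8,16,32]),(0,8,[]),(1,0,[1,6,4,8,34,31])] ([1,2,4,32,64,512],[1,2,6,32,97,576]) = true := by decide +kernel
theorem c20005349 : chkDer M20084 [([1,2,4,32,64,512],[1,4,6,32,611,70])] [(2,0,[1,6,2,8,36,61]),(2,0,[1,4,6,8,57,20])] ([1,2,4,32,64,514],[1,4,6,32,609,68]) = true := by decide +kernel
theorem c20005354 : chkDer M20084 [([1,2,4,32,64,512],[1,4,6,32,611,97])] [(1,0,[1,2,4,8,16,32]),(0,8,[]),(1,0,[1,6,4,8,34,25])] ([1,2,4,32,64,512],[1,2,6,32,101,578]) = true := by decide +kernel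
theorem c20005321 : chkDer M20084 [([1,2,4,32,64,512],[1,4,6,32,576,64])] [(1,0,[1,2,4,8,16,32]),(0,8,[]),(1,0,[1,6,4,8,41,16])] ([1,2,4,32,64,512],[1,2,6,32,97,576]) = true := by decide +kernel
theorem c20004344 : chkTr M20084 [1,2,4,8,16,32,64,128,256,512] ([1,2,4,32],[1,4,6,32]) ([1,2,4,32],[1,4,6,32]) = true := by decide +kernel
theorem c20004347 : chkTr M20084 [1,2,4,8,16,32,64,128,256,512] ([1,2,8,16,42,64,128,256],[1,2,16,24,42,88,458,169]) ([1,2,8,16,42,64,128,256],[1,2,16,24,42,88,458,169]) = true := by decide +kernel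
theorem c20004359 : chkTr M20084 [1,2,4,8,16,32,64,128,256,512] ([1,2,8,16,42],[1,2,16,24,42]) ([1,2,8,16,42],[1,2,16,24,42]) = true := by decide +kernel
theorem c20004362 : chkTr M20084 [1,2,4,8,16,32,64,128,256,512] ([1,2,4,32,64,512],[1,4,6,32,611,68]) ([1,2,4,32,64,512],[1,4,6,32,611,68]) = true := by decide +kernel
theorem c20004374 : chkTr M20084 [1,2,4,8,16,32,64,128,256,512] ([1,2,8,16,42,64],[1,2,16,24,42,88]) ([1,2,8,16,42,64],[1,2,16,24,42,88]) = true := by decide +kernel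
theorem c20004386 : chkTr M20084 [1,2,4,8,16,32,64,128,256,512] ([1,2,4,32],[1,4,6,32]) ([1,2,4,32],[1,4,6,32]) = true := by decide +kernel
theorem c20004389 : chkTr M20084 [1,2,4,8,16,32,64,128,256,512] ([1,2,8,16,42,64,128,256],[1,2,16,24,42,88,458,169]) ([1,2,8,16,42,64,128,256],[1,2,16,24,42,88,458,169]) = true := by decide +kernel
theorem c20004401 : chkTr M20084 [1,2,4,8,16,32,64,128,256,512] ([1,2,8,16,42],[1,2,16,24,42]) ([1,2,8,16,42],[1,2,16,24,42]) = true := by decide +kernel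
theorem c20004404 : chkTr M20084 [1,2,4,8,16,32,64,128,256,512] ([1,2,4,32,64,512],[1,4,6,32,611,68]) ([1,2,4,32,64,512],[1,4,6,32,611,68]) = true := by decide +kernel
theorem c20004416 : chkTr M20084 [1,2,4,8,16,32,64,128,256,512] ([1,2,8,16,42,64],[1,2,16,24,42,88]) ([1,2,8,16,42,64],[1,2,16,24,42,88]) = true := by decide +kernel
theorem c20004637 : chkTr M20084 [1,2,4,8,16,32,64,128,256,512] ([1,2,4,32],[1,4,6,32]) ([1,2,4,32],[1,4,6,32]) = true := by decide +kernel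
theorem c20004640 : chkTr M20084 [1,2,4,8,16,32,64,128,256,512] ([1,2,8,16,42,64,128,256],[1,2,16,24,42,88,458,169]) ([1,2,8,16,42,64,128,256],[1,2,16,24,42,88,458,169]) = true := by decide +kernel
theorem c20004652 : chkTr M20084 [1,2,4,8,16,32,64,128,256,512] ([1,2,8,16,42],[1,2,16,24,42]) ([1,2,8,16,42],[1,2,16,24,42]) = true := by decide +kernel
theorem c20004655 : chkTr M20084 [1,2,4,8,16,32,64,128,256,512] ([1,2,4,32,64,512],[1,4,6,32,611,68]) ([1,2,4,32,64,512],[1,4,6,32,611,68]) = true := by decide +kernel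
theorem c20005000 : chkTr M20084 [1,2,4,8,16,32,64,128,256,512] ([1,2,8,16,42,64],[1,2,16,24,42,88]) ([1,2,8,16,42,64],[1,2,16,24,42,88]) = true := by decide +kernel
theorem c20005012 : chkTr M20084 [1,2,4,8,16,32,64,128,256,512] ([1,2,4,32],[1,4,6,32]) ([1,2,4,32],[1,4,6,32]) = true := by decide +kernel
theorem c20005015 : chkTr M20084 [1,2,4,8,16,32,64,128,256,512] ([1,2,8,16,42,64,128,256],[1,2,16,24,42,88,458,169]) ([1,2,8,16,42,64,128,256],[1,2,16,24,42,88,458,169]) = true := by decide +kernel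
theorem c20005027 : chkTr M20084 [1,2,4,8,16,32,64,128,256,512] ([1,2,8,16,42],[1,2,16,24,42]) ([1,2,8,16,42],[1,2,16,24,42]) = true := by decide +kernel
theorem c20005030 : chkTr M20084 [1,2,4,8,16,32,64,128,256,512] ([1,2,4,32,64,512],[1,4,6,32,578,101]) ([1,2,4,32,64,512],[1,4,6,32,578,101]) = true := by decide +kernel
theorem c20005042 : chkTr M20084 [1,2,4,8,16,32,64,128,256,512] ([1,2,8,16,42,64],[1,2,16,24,42,88]) ([1,2,8,16,42,64],[1,2,16,24,42,88]) = true := by decide +kernel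
theorem c20005054 : chkTr M20084 [1,2,4,8,16,32,64,128,256,512] ([1,2,4,32],[1,4,6,32]) ([1,2,4,32],[1,4,6,32]) = true := by decide +kernel
theorem c20005057 : chkTr M20084 [1,2,4,8,16,32,64,128,256,512] ([1,2,8,16,42,64,128,256],[1,2,16,24,42,88,458,169]) ([1,2,8,16,42,64,128,256],[1,2,16,24,42,88,458,169]) = true := by decide +kernel
theorem c20005069 : chkTr M20084 [1,2,4,8,16,32,64,128,256,512] ([1,2,8,16,42],[1,2,16,24,42]) ([1,2,8,16,42],[1,2,16,24,42]) = true := by decide +kernel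
theorem c20005072 : chkTr M20084 [1,2,4,8,16,32,64,128,256,512] ([1,2,4,32,64,512],[1,4,6,32,578,101]) ([1,2,4,32,64,512],[1,4,6,32,578,101]) = true := by decide +kernel
theorem c20005302 : chkTr M20084 [1,2,4,8,16,32,64,128,256,512] ([1,2,8,16,42,64],[1,2,16,24,42,88]) ([1,2,8,16,42,64],[1,2,16,24,42,88]) = true := by decide +kernel
theorem c20005314 : chkTr M20084 [1,2,4,8,16,32,64,128,256,512] ([1,2,4,32],[1,4,6,32]) ([1,2,4,32],[1,4,6,32]) = true := by decide +kernel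
theorem c20005317 : chkTr M20084 [1,2,4,8,16,32,64,128,256,512] ([1,2,8,16,42,64,128,256],[1,2,16,24,42,88,458,169]) ([1,2,8,16,42,64,128,256],[1,2,16,24,42,88,458,169]) = true := by decide +kernel
theorem c20004668 : chkTr M20084 [1,2,4,8,16,32,64,128,256,514] ([1,2,8,16,42],[1,2,16,24,42]) ([1,2,8,16,42],[1,2,16,24,42]) = true := by decide +kernel
theorem c20004673 : chkTr M20084 [1,2,4,8,16,32,64,128,256,514] ([1,2,4,32,64,512],[1,4,6,32,611,68]) ([1,2,4,32,64,514],[1,4,6,32,609,68]) = true := by decide +kernel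
theorem c20005328 : chkTr M20084 [1,2,4,8,16,32,64,128,256,514] ([1,2,8,16,42,64],[1,2,16,24,42,88]) ([1,2,8,16,42,64],[1,2,16,24,42,88]) = true := by decide +kernel
theorem c20005345 : chkTr M20084 [1,2,4,8,16,32,64,128,256,514] ([1,2,4,32],[1,4,6,32]) ([1,2,4,32],[1,4,6,32]) = true := by decide +kernel
theorem c20005348 : chkTr M20084 [1,2,4,8,16,32,64,128,256,514] ([1,2,8,16,42,64,128,256],[1,2,16,24,42,88,458,169]) ([1,2,8,16,42,64,128,256],[1,2,16,24,42,88,458,169]) = true := by decide +kernel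
theorem c20005422 : chkTr M20084 [1,2,4,8,16,32,64,128,256,514] ([1,2,8,16,42],[1,2,16,24,42]) ([1,2,8,16,42],[1,2,16,24,42]) = true := by decide +kernel
theorem c20005427 : chkTr M20084 [1,2,4,8,16,32,64,128,256,514] ([1,2,4,32,64,512],[1,4,6,32,578,101]) ([1,2,4,32,64,514],[1,4,6,32,576,101]) = true := by decide +kernel
theorem c20004671 : chkDer M20084 [([1,2,4,32,64,512],[1,4,6,32,609,64])] [(1,0,[1,2,4,8,16,34])] ([1,2,4,32,64,514],[1,4,6,32,609,68]) = true := by decide +kernel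
theorem c20004656 : chkDer M20084 [] [(0,1,[])] ([1,2,4,32,64,512],[1,2,4,32,66,518]) = true := by decide +kernel
theorem c20004658 : chkDer M20084 [] [(0,8,[])] ([1,2,4,32,64,512],[1,2,6,32,64,609]) = true := by decide +kernel
theorem c20004730 : chkDer M20084 [([1,2,4,32,64,512],[1,4,6,32,578,101])] [(1,0,[43]),(0,256,[])] ([547],[33]) = true := by decide +kernel
theorem c20004109 : chkDer M20084 [([1,2,4,32],[1,4,6,32])] [(2,0,[11]),(0,16,[])] ([37],[33]) = true := by decide +kernel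
theorem c20004190 : chkDer M20084 [] [(0,8,[])] ([1,2,4,32],[1,2,6,32]) = true := by decide +kernel
theorem c20004105 : chkDer M20084 [([1,2,4],[1,4,6])] [(2,0,[2])] ([4],[2]) = true := by decide +kernel
theorem c20004069 : chkDer M20084 [] [(0,9,[])] ([545],[580]) = true := by decide +kernel
theorem c20004084 : chkDer M20084 [] [(0,512,[])] ([256],[497]) = true := by decide +kernel
theorem c20004133 : chkDer M20084 [] [(0,16,[])] ([33],[35]) = true := by decide +kernel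
theorem c20004163 : chkDer M20084 [] [(0,704,[])] ([1],[15]) = true := by decide +kernel
theorem c20004287 : chkDer M20084 [] [(0,256,[])] ([33],[64]) = true := by decide +kernel
theorem c20004299 : chkDer M20084 [] [(0,832,[])] ([1],[143]) = true := by decide +kernel
theorem c20004718 : chkDer M20084 [] [(0,1,[])] ([97],[99]) = true := by decide +kernel
theorem c20004737 : chkDer M20084 [] [(0,1,[])] ([547],[549]) = true := by decide +kernel
theorem c20004780 : chkDer M20084 [] [(0,576,[])] ([1],[5]) = true := by decide +kernel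
theorem c20004918 : chkDer M20084 [] [(0,8,[])] ([4],[6]) = true := by decide +kernel
theorem c20004930 : chkDer M20084 [] [(0,128,[])] ([1],[106]) = true := by decide +kernel
theorem c20004957 : chkDer M20084 [] [(0,5,[])] ([805],[858]) = true := by decide +kernel
theorem c20004969 : chkDer M20084 [] [(0,256,[])] ([512],[656]) = true := by decide +kernel

end Cfsg.Lib.L33E
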