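import Cfsg.Agent.L33E.R1C5

set_option autoImplicit false
set_option maxRecDepth 100000
set_option linter.all false
set_option Elab.async false

namespace Cfsg.Lib.L33E

theorem c20004322 : chkTT M20084 E20004319 0 L20004321 0x2202000002 M20084.W [33,1] [1,2,4,8,32,64,144,512] [2,4,97,545,547] 99 0 [⟨3,0,[⟨6,0,0,1⟩,⟨4,0,0,1⟩,⟨7,0,1,33⟩,⟨8,0,0,0⟩],1,2,false⟩] [] = true := by decide +kernel
theorem c20004308 : chkSyl M20084 D20084 E20004306 [1,2,4,8,16,32,64,128,256,512] 0 [32] [⟨3,0,[⟨4,0,0,1⟩,⟨4,1,0,2⟩],0,0,false⟩,⟨3,0,[⟨4,0,0,3⟩,⟨4,1,0,4⟩,⟨4,2,0,5⟩],1,2,false⟩,⟨3,0,[⟨4,4,0,6⟩,⟨4,5,0,7⟩,⟨4,6,0,8⟩,⟨0,4,6,0⟩],2,3,false⟩,⟨3,0,[⟨0,4,14,0⟩,⟨0,8,10,0⟩,⟨1,0,2,0⟩],3,0,false⟩,⟨5,0,[⟨4,1,0,9⟩,⟨4,3,0,10⟩,⟨0,16,18,0⟩],0,0,false⟩,⟨1,3,[⟨4,0,0,11⟩,⟨4,40,0,12⟩,⟨4,48,0,13⟩,⟨0,4,4,0⟩],3,0,false⟩,⟨1,106,[⟨4,13,0,14⟩,⟨0,4,111,0⟩],0,0,false⟩,⟨1,122,[⟨4,0,0,15⟩,⟨0,4,148,0⟩],0,0,false⟩,⟨1,7,[⟨4,0,0,16⟩,⟨0,8,105,0⟩,⟨0,16,128,0⟩],0,0,true⟩]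 [([1,2,4,8,16,32,64,128,256,512],[32,2,4,8,113,3,64,138,377,518]),([1,2,4,8,16,32,64,128,256,512],[32,2,4,8,113,3,64,138,377,516]),([1,2,4,8,16,32,64,128,256,512],[32,2,4,8,113,3,64,138,379,518]),([1,2,4,8,16,32,64,128,256,512],[32,2,4,8,113,3,64,138,379,516])] [1,2,4,8,16,32,64,128,256,512] [([32,2,4,8,113,1,64,225,355,514],[(0,0,0),(2,0,1)]),([32,2,4,8,113,1,64,225,355,512],[(0,0,2),(2,0,3)]),([32,2,4,8,113,1,64,225,353,514],[(0,0,4),(2,0,5)]),([32,2,4,8,113,1,64,225,353,512],[(0,0,6),(2,0,7)])] [([1,2,4,8,16,32,64,128,256,512],[32,2,4,8,113,1,64,225,355,514],0),([1,2,4,8,16,32,64,128,256,512],[32,2,4,8,113,1,64,225,355,514],2),([1,2,4,8,16,32,64,128,256,512],[32,2,4,8,113,1,64,225,355,512],0),([1,2,4,8,16,32,64,128,256,512],[32,2,4,8,113,1,64,225,355,512],2),([1,2,4,8,16,32,64,128,256,512],[32,2,4,8,113,1,64,225,353,514],0),([1,2,4,8,16,32,64,128,256,512],[32,2,4,8,113,1,64,225,353,514],2),([1,2,4,8,16,32,64,128,256,512],[32,2,4,8,113,1,64,225,353,512],0),([1,2,4,8,16,32,64,128,256,512],[32,2,4,8,113,1,64,225,353,512],2)]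 = true := by decide +kernel
theorem c20004946 : chkSyl M20084 D20084 E20004306 [1,2,4,8,16,32,64,128,256,512] 0 [32] [⟨3,0,[⟨4,0,0,1⟩,⟨4,1,0,2⟩],0,0,false⟩,⟨3,0,[⟨4,0,0,3⟩,⟨4,1,0,4⟩,⟨4,2,0,5⟩],1,2,false⟩,⟨3,0,[⟨4,4,0,6⟩,⟨4,5,0,7⟩,⟨4,6,0,8⟩,⟨0,4,6,0⟩],2,3,false⟩,⟨3,0,[⟨0,4,14,0⟩,⟨0,8,10,0⟩,⟨1,0,2,0⟩],3,0,false⟩,⟨5,0,[⟨4,1,0,9⟩,⟨4,3,0,10⟩,⟨0,16,18,0⟩],0,0,false⟩,⟨1,3,[⟨4,0,0,11⟩,⟨4,40,0,12⟩,⟨4,48,0,13⟩,⟨0,4,4,0⟩],3,0,false⟩,⟨1,106,[⟨4,13,0,14⟩,⟨0,4,111,0⟩],0,0,false⟩,⟨1,122,[⟨4,0,0,15⟩,⟨0,4,148,0⟩],0,0,false⟩,⟨1,7,[⟨4,0,0,16⟩,⟨0,8,105,0⟩,⟨0,16,128,0⟩],0,0,true⟩] [([1,2,4,8,16,32,64,128,256,512],[32,2,4,8,113,3,64,138,377,518]),([1,2,4,8,16,32,64,128,256,512],[32,2,4,8,113,3,64,138,377,516]),([1,2,4,8,16,32,64,128,256,512],[32,2,4,8,113,3,64,138,379,518]),([1,2,4,8,16,32,64,128,256,512],[32,2,4,8,113,3,64,138,379,516])] [1,2,4,8,16,32,64,128,256,512] [([32,2,4,8,113,1,64,225,355,514],[(0,0,0),(2,0,1)]),([32,2,4,8,113,1,64,225,355,512],[(0,0,2),(2,0,3)]),([32,2,4,8,113,1,64,225,353,514],[(0,0,4),(2,0,5)]),([32,2,4,8,113,1,64,225,353,512],[(0,0,6),(2,0,7)])]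 [([1,2,4,8,16,32,64,128,256,512],[32,2,4,8,113,1,64,225,355,514],0),([1,2,4,8,16,32,64,128,256,512],[32,2,4,8,113,1,64,225,355,514],2),([1,2,4,8,16,32,64,128,256,512],[32,2,4,8,113,1,64,225,355,512],0),([1,2,4,8,16,32,64,128,256,512],[32,2,4,8,113,1,64,225,355,512],2),([1,2,4,8,16,32,64,128,256,512],[32,2,4,8,113,1,64,225,353,514],0),([1,2,4,8,16,32,64,128,256,512],[32,2,4,8,113,1,64,225,353,514],2),([1,2,4,8,16,32,64,128,256,512],[32,2,4,8,113,1,64,225,353,512],0),([1,2,4,8,16,32,64,128,256,512],[32,2,4,8,113,1,64,225,353,512],2)] = true := by decide +kernel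
theorem c20004056 : chkCF M20084 (256,Z20004050) [1] = true := by decide +kernel
theorem c20004074 : chkCF M20084 (97,Z20004050) [1] = true := by decide +kernel
theorem c20004124 : chkCF M20084 (33,Z20004050) [1] = true := by decide +kernel
theorem c20004304 : chkCF M20084 (512,Z20004050) [1] = true := by decide +kernel
theorem c20004694 : chkCF M20084 (256,Z20004050) [1] = true := by decide +kernel
theorem c20004735 : chkCF M20084 (547,Z20004050) [1] = true := by decide +kernel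
theorem c20004767 : chkCF M20084 (2,Z20004050) [1] = true := by decide +kernel
theorem c20004955 : chkCF M20084 (805,Z20004050) [1] = true := by decide +kernel
theorem c20004665 : chkRb M20084 [1,2,4,8,16,32,64,128,256,514] D20084 = true := by decide +kernel
theorem c20005419 : chkRb M20084 [1,2,4,8,16,32,64,128,256,514] D20084 = true := by decide +kernel
theorem c20004683 : chkStab M20084 [1,2,4,32,64,512] [1] [1] [2,4,33] [([1,2,4,32,66,518],[1,2,4,8,18,38]),([1,2,6,32,64,609],[1,2,6,8,16,57]),([1,2,4,32,64,545],[1,2,4,8,16,41]),([1,2,6,32,97,576],[1,2,6,8,25,48])] [[1,2,4,32,64,512],[1,2,4,32,66,518],[1,2,6,32,64,609],[1,2,4,32,64,545],[1,2,6,32,97,576],[1,2,6,32,66,613],[1,2,4,32,66,551],[1,2,6,32,99,580],[1,2,6,32,64,576],[1,2,4,32,97,545],[1,2,6,32,97,609],[1,2,4,32,97,512],[1,2,6,32,66,580],[1,2,4,32,99,551],[1,2,6,32,99,613],[1,2,4,32,99,518]] [(0,0),(0,1),(0,2),(0,3),(1,1),(1,2),(1,3),(2,2),(2,3),(3,3),(4,1),(5,2),(5,3),(6,3),(7,1)]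 4 64 = true := by decide +kernel
theorem c20005342 : chkStab M20084 [1,2,4,32,64,512] [1] [1] [2,4,33] [([1,2,4,32,66,518],[1,2,4,8,18,38]),([1,2,6,32,64,609],[1,2,6,8,16,57]),([1,2,4,32,68,514],[1,2,4,8,20,34]),([1,2,4,32,68,512],[1,2,4,8,20,32])] [[1,2,4,32,64,512],[1,2,4,32,66,518],[1,2,6,32,64,609],[1,2,4,32,68,514],[1,2,4,32,68,512],[1,2,6,32,66,613],[1,2,4,32,70,516],[1,2,4,32,70,518],[1,2,6,32,70,611],[1,2,6,32,70,609],[1,2,6,32,68,615],[1,2,4,32,64,514],[1,2,6,32,68,613],[1,2,4,32,66,516],[1,2,6,32,64,611],[1,2,6,32,66,615]] [(0,0),(0,1),(0,2),(0,3),(1,1),(1,2),(1,3),(2,2),(2,3),(3,1),(3,3),(4,1),(6,3),(8,3),(10,3)] 4 64 = true := by decide +kernel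
theorem c20005366 : chkStab M20084 [1,2,4,32,64,512] [1] [1] [2,4,33] [([1,2,4,32,66,518],[1,2,4,8,18,38]),([1,2,6,32,64,609],[1,2,6,8,16,57]),([1,2,4,32,70,516],[1,2,4,8,22,36]),([1,2,4,32,68,547],[1,2,4,8,20,43])] [[1,2,4,32,64,512],[1,2,4,32,66,518],[1,2,6,32,64,609],[1,2,4,32,70,516],[1,2,4,32,68,547],[1,2,6,32,66,613],[1,2,4,32,68,514],[1,2,4,32,70,549],[1,2,6,32,68,615],[1,2,6,32,70,578],[1,2,6,32,70,611],[1,2,4,32,66,551],[1,2,6,32,68,582],[1,2,4,32,64,545],[1,2,6,32,66,580],[1,2,6,32,64,576]] [(0,0),(0,1),(0,2),(0,3),(1,1),(1,2),(1,3),(2,2),(2,3),(3,1),(3,3),(4,1),(6,3),(8,3),(10,3)] 4 64 = true := by decide +kernel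
theorem c20005383 : chkStab M20084 [1,2,4,32,64,512] [1] [1] [2,4,33] [([1,2,4,32,66,518],[1,2,4,8,18,38]),([1,2,6,32,64,609],[1,2,6,8,16,57]),([1,2,4,32,70,516],[1,2,4,8,22,36]),([1,2,4,32,68,547],[1,2,4,8,20,43])] [[1,2,4,32,64,512],[1,2,4,32,66,518],[1,2,6,32,64,609],[1,2,4,32,70,516],[1,2,4,32,68,547],[1,2,6,32,66,613],[1,2,4,32,68,514],[1,2,4,32,70,549],[1,2,6,32,68,615],[1,2,6,32,70,578],[1,2,6,32,70,611],[1,2,4,32,66,551],[1,2,6,32,68,582],[1,2,4,32,64,545],[1,2,6,32,66,580],[1,2,6,32,64,576]] [(0,0),(0,1),(0,2),(0,3),(1,1),(1,2),(1,3),(2,2),(2,3),(3,1),(3,3),(4,1),(6,3),(8,3),(10,3)] 4 64 = true := by decide +kernel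
theorem c20005398 : chkStab M20084 [1,2,4,32,64,512] [1] [1] [2,4,33] [([1,2,4,32,66,518],[1,2,4,8,18,38]),([1,2,6,32,64,609],[1,2,6,8,16,57]),([1,2,4,32,64,547],[1,2,4,8,16,43]),([1,2,6,32,101,578],[1,2,6,8,29,50])] [[1,2,4,32,64,512],[1,2,4,32,66,518],[1,2,6,32,64,609],[1,2,4,32,64,547],[1,2,6,32,101,578],[1,2,6,32,66,613],[1,2,4,32,66,549],[1,2,6,32,103,582],[1,2,6,32,64,578],[1,2,4,32,103,547],[1,2,6,32,101,609],[1,2,4,32,101,518],[1,2,6,32,66,582],[1,2,4,32,101,549],[1,2,6,32,103,613],[1,2,4,32,103,512]] [(0,0),(0,1),(0,2),(0,3),(1,1),(1,2),(1,3),(2,2),(2,3),(3,3),(4,1),(5,2),(5,3),(6,3),(7,1)] 4 64 = true := by decide +kernel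
theorem c20005413 : chkStab M20084 [1,2,4,32,64,512] [1] [1] [2,4,33] [([1,2,4,32,66,518],[1,2,4,8,18,38]),([1,2,6,32,64,609],[1,2,6,8,16,57]),([1,2,4,32,64,514],[1,2,4,8,16,34]),([1,2,6,32,68,611],[1,2,6,8,20,59])] [[1,2,4,32,64,512],[1,2,4,32,66,518],[1,2,6,32,64,609],[1,2,4,32,64,514],[1,2,6,32,68,611],[1,2,6,32,66,613],[1,2,4,32,66,516],[1,2,6,32,70,615],[1,2,6,32,64,611],[1,2,4,32,70,514],[1,2,6,32,68,609],[1,2,4,32,68,518],[1,2,6,32,66,615],[1,2,4,32,68,516],[1,2,6,32,70,613],[1,2,4,32,70,512]] [(0,0),(0,1),(0,2),(0,3),(1,1),(1,2),(1,3),(2,2),(2,3),(3,3),(4,1),(5,2),(5,3),(6,3),(7,1)] 4 64 = true := by decide +kernel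
theorem c20005437 : chkStab M20084 [1,2,4,32,64,512] [1] [1] [2,4,33] [([1,2,4,32,66,518],[1,2,4,8,18,38]),([1,2,6,32,64,609],[1,2,6,8,16,57]),([1,2,4,32,64,547],[1,2,4,8,16,43]),([1,2,6,32,101,578],[1,2,6,8,29,50])] [[1,2,4,32,64,512],[1,2,4,32,66,518],[1,2,6,32,64,609],[1,2,4,32,64,547],[1,2,6,32,101,578],[1,2,6,32,66,613],[1,2,4,32,66,549],[1,2,6,32,103,582],[1,2,6,32,64,578],[1,2,4,32,103,547],[1,2,6,32,101,609],[1,2,4,32,101,518],[1,2,6,32,66,582],[1,2,4,32,101,549],[1,2,6,32,103,613],[1,2,4,32,103,512]] [(0,0),(0,1),(0,2),(0,3),(1,1),(1,2),(1,3),(2,2),(2,3),(3,3),(4,1),(5,2),(5,3),(6,3),(7,1)] 4 64 = true := by decide +kernel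
theorem c20005454 : chkStab M20084 [1,2,4,32,64,512] [1] [1] [2,4,33] [([1,2,4,32,66,518],[1,2,4,8,18,38]),([1,2,6,32,64,609],[1,2,6,8,16,57]),([1,2,4,32,68,514],[1,2,4,8,20,34]),([1,2,4,32,68,512],[1,2,4,8,20,32])] [[1,2,4,32,64,512],[1,2,4,32,66,518],[1,2,6,32,64,609],[1,2,4,32,68,514],[1,2,4,32,68,512],[1,2,6,32,66,613],[1,2,4,32,70,516],[1,2,4,32,70,518],[1,2,6,32,70,611],[1,2,6,32,70,609],[1,2,6,32,68,615],[1,2,4,32,64,514],[1,2,6,32,68,613],[1,2,4,32,66,516],[1,2,6,32,64,611],[1,2,6,32,66,615]] [(0,0),(0,1),(0,2),(0,3),(1,1),(1,2),(1,3),(2,2),(2,3),(3,1),(3,3),(4,1),(6,3),(8,3),(10,3)] 4 64 = true := by decide +kernel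
theorem c20004357 : chkStK M20084 6 [1,2,4,8,16,32,64,128,256,512] 0x21020000000000000000000000000000000000000000000000000000000000000000000000000000000000000000000001000 ([1,2,4],[1,4,6]) ([1,2,8,16],[1,2,16,24]) = true := by decide +kernel
theorem c20004399 : chkStK M20084 6 [1,2,4,8,16,32,64,128,256,512] 0x21020000000000000000000000000000000000000000000000000000000000000000000000000000000000000000000001000 ([1,2,4],[1,4,6]) ([1,2,8,16],[1,2,16,24]) = true := by decide +kernel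
theorem c20004650 : chkStK M20084 6 [1,2,4,8,16,32,64,128,256,512] 0x21020000000000000000000000000000000000000000000000000000000000000000000000000000000000000000000001000 ([1,2,4],[1,4,6]) ([1,2,8,16],[1,2,16,24]) = true := by decide +kernel
theorem c20005025 : chkStK M20084 6 [1,2,4,8,16,32,64,128,256,512] 0x21020000000000000000000000000000000000000000000000000000000000000000000000000000000000000000000001000 ([1,2,4],[1,4,6]) ([1,2,8,16],[1,2,16,24]) = true := by decide +kernel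
theorem c20005067 : chkStK M20084 6 [1,2,4,8,16,32,64,128,256,512] 0x21020000000000000000000000000000000000000000000000000000000000000000000000000000000000000000000001000 ([1,2,4],[1,4,6]) ([1,2,8,16],[1,2,16,24]) = true := by decide +kernel
theorem c20004666 : chkStK M20084 6 [1,2,4,8,16,32,64,128,256,514] 0x21020000000000000000000000000000000000000000000000000000000000000000000000000000000000000000000001000 ([1,2,4],[1,4,6]) ([1,2,8,16],[1,2,16,24]) = true := by decide +kernel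
theorem c20005420 : chkStK M20084 6 [1,2,4,8,16,32,64,128,256,514] 0x21020000000000000000000000000000000000000000000000000000000000000000000000000000000000000000000001000 ([1,2,4],[1,4,6]) ([1,2,8,16],[1,2,16,24]) = true := by decide +kernel
theorem c20004685 : chkBig M20084 6 2 [1,2,4,8,16,32,64] = true := by decide +kernel
theorem c20004270 : chkStab M20084 [1,2,4,32] [1] [1] [1,2,4,32] [([1,2,6,32],[1,2,6,8]),([1,2,4,34],[1,2,4,10])] [[1,2,4,32],[1,2,6,32],[1,2,4,34],[1,2,6,34]] [(0,0),(0,1),(1,1)] 2 32 = true := by decide +kernel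
theorem c20004905 : chkStab M20084 [1,2,4,32] [1] [1] [1,2,4,32] [([1,2,6,32],[1,2,6,8]),([1,2,4,34],[1,2,4,10])] [[1,2,4,32],[1,2,6,32],[1,2,4,34],[1,2,6,34]] [(0,0),(0,1),(1,1)] 2 32 = true := by decide +kernel
theorem c20004917 : chkStab M20084 [1,2,4,32] [1] [1] [1,2,4,32] [([1,2,6,32],[1,2,6,8]),([1,2,4,34],[1,2,4,10])] [[1,2,4,32],[1,2,6,32],[1,2,4,34],[1,2,6,34]] [(0,0),(0,1),(1,1)] 2 32 = true := by decide +kernel
theorem c20005406 : chkDer M20084 [([1,2,4,32,64,512],[1,4,6,32,578,70])] [(1,0,[1,2,4,8,16,32]),(0,8,[]),(2,0,[1,4,2,8,61,38]),(0,8,[]),(1,0,[1,6,2,8,38,61])] ([1,2,4,32,64,512],[1,2,4,32,68,547]) = true := by decide +kernel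
theorem c20004660 : chkDer M20084 [([1,2,4,32,64,512],[1,4,6,32,611,101])] [(1,0,[1,2,4,8,16,32]),(0,8,[]),(2,0,[1,4,2,8,50,38]),(0,8,[]),(1,0,[1,6,2,8,43,61])] ([1,2,4,32,64,512],[1,2,4,32,64,545]) = true := by decide +kernel
theorem c20005369 : chkDer M20084 [([1,2,4,32,64,512],[1,4,6,32,609,68])] [(1,0,[1,2,4,8,16,32]),(0,8,[]),(2,0,[1,4,2,8,59,38]),(0,8,[]),(1,0,[1,6,2,8,34,61])] ([1,2,4,32,64,512],[1,2,4,32,64,514]) = true := by decide +kernel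
theorem c20005445 : chkDer M20084 [([1,2,4,32,64,512],[1,4,6,32,576,101])] [(1,0,[1,2,4,8,16,32]),(0,8,[]),(2,0,[1,4,2,8,50,38]),(0,8,[]),(1,0,[1,6,2,8,43,61])] ([1,2,4,32,64,512],[1,2,4,32,64,514]) = true := by decide +kernel
theorem c20005359 : chkDer M20084 [([1,2,4,32,64,512],[1,4,6,32,611,99])] [(1,0,[1,2,4,8,16,32]),(0,8,[]),(2,0,[1,4,2,8,54,32]),(0,8,[]),(1,0,[1,6,2,8,45,57])] ([1,2,4,32,64,512],[1,2,4,32,68,545]) = true := by decide +kernel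
theorem c20005416 : chkDer M20084 [([1,2,4,32,64,512],[1,4,6,32,578,99])] [(1,0,[1,2,4,8,16,32]),(0,8,[]),(2,0,[1,4,2,8,54,32]),(0,8,[]),(1,0,[1,6,2,8,45,57])] ([1,2,4,32,64,512],[1,2,4,32,68,512]) = true := by decide +kernel
theorem c20005319 : chkDer M20084 [([1,2,4,32,64,512],[1,4,6,32,576,64])] [(1,0,[1,2,4,8,16,32]),(0,8,[]),(2,0,[1,4,2,8,57,32]),(0,8,[]),(1,0,[1,6,2,8,32,57])] ([1,2,4,32,64,512],[1,2,4,32,64,545]) = true := by decide +kernel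
theorem c20005394 : chkDer M20084 [([1,2,4,32,64,512],[1,4,6,32,578,64])] [(1,0,[1,2,4,8,16,32]),(0,8,[]),(2,0,[1,4,2,8,57,32]),(0,8,[]),(1,0,[1,6,2,8,32,57])] ([1,2,4,32,64,512],[1,2,4,32,64,547]) = true := by decide +kernel
theorem c20005389 : chkDer M20084 [([1,2,4,32,64,512],[1,4,6,32,609,103])] [(1,0,[1,2,4,8,16,32]),(1,0,[1,4,6,8,57,31]),(1,0,[1,6,2,8,47,50])] ([1,2,4,32,64,512],[1,2,4,32,68,514]) = true := by decide +kernel
theorem c20005338 : chkDer M20084 [([1,2,4,32,64,512],[1,4,6,32,611,66])] [(1,0,[1,2,4,8,16,32]),(1,0,[1,4,6,8,59,18]),(1,0,[1,6,2,8,36,63])] ([1,2,4,32,64,512],[1,2,4,32,68,514]) = true := by decide +kernel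
theorem c20005379 : chkDer M20084 [([1,2,4,32,64,512],[1,4,6,32,609,99])] [(1,0,[1,2,4,8,16,32]),(1,0,[1,4,6,8,57,27]),(1,0,[1,6,2,8,43,52])] ([1,2,4,32,64,512],[1,2,4,32,70,516]) = true := by decide +kernel
theorem c20004276 : chkDer M20084 [([1,2,4,32],[1,4,6,32]),([1,2,4,8,16,32,64,128,256,512],[32,2,4,8,113,3,64,138,379,516])] [(1,0,[1,2,4,8]),(1,1,[1,4,6,32]),(1,0,[8,4,6,3]),(2,1,[1,6,2,38]),(1,0,[1,6,2,14])] ([1,2,4,32],[1,2,4,34]) = true := by decide +kernel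
theorem c20004911 : chkDer M20084 [([1,2,4,32],[1,4,6,32]),([1,2,4,8,16,32,64,128,256,512],[32,2,4,8,113,3,64,138,379,518])] [(1,0,[1,2,4,8]),(1,1,[1,4,6,32]),(1,0,[8,4,6,3]),(2,1,[1,6,2,38]),(1,0,[1,6,2,14])] ([1,2,4,32],[1,2,4,34]) = true := by decide +kernel
theorem c20005438 : chkDer M20084 [([1,2,4,32,64,512],[1,4,6,32,576,70])] [(1,0,[1,2,4,8,16,32]),(1,0,[1,4,6,8,48,22]),(1,0,[1,6,2,8,38,50])] ([1,2,4,32,64,512],[1,2,4,32,68,514]) = true := by decide +kernel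
theorem c20005428 : chkDer M20084 [([1,2,4,32,64,512],[1,4,6,32,576,66])] [(1,0,[1,2,4,8,16,32]),(1,0,[1,4,6,8,48,18]),(1,0,[1,6,2,8,34,52])] ([1,2,4,32,64,512],[1,2,4,32,70,516]) = true := by decide +kernel
theorem c20005447 : chkDer M20084 [([1,2,4,32,64,512],[1,4,6,32,576,101])] [(1,0,[1,2,4,8,16,32]),(0,8,[]),(1,0,[1,6,4,8,41,31])] ([1,2,4,32,64,512],[1,2,6,32,68,611]) = true := by decide +kernel
theorem c20005411 : chkDer M20084 [([1,2,4,32,64,512],[1,4,6,32,578,97])] [(1,0,[1,2,4,8,16,32]),(0,8,[]),(1,0,[1,6,4,8,43,25])] ([1,2,4,32,64,512],[1,2,6,32,68,611]) = true := by decide +kernel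
theorem c20005435 : chkDer M20084 [([1,2,4,32,64,512],[1,4,6,32,576,68])] [(1,0,[1,2,4,8,16,32]),(0,8,[]),(1,0,[1,6,4,8,41,22])] ([1,2,4,32,64,512],[1,2,6,32,101,578]) = true := by decide +kernel
theorem c20004676 : chkDer M20084 [([1,2,4,32,64,512],[1,4,6,32,609,97])] [(1,0,[1,2,4,8,16,32]),(0,8,[]),(1,0,[1,6,4,8,32,25])] ([1,2,4,32,64,512],[1,2,6,32,97,576]) = true := by decide +kernel
theorem c20005335 : chkDer M20084 [([1,2,4,32,64,512],[1,4,6,32,611,64])] [(1,0,[1,2,4,8,16,32]),(0,8,[]),(1,0,[1,6,4,8,34,16])] ([1,2,4,32,64,512],[1,2,6,32,68,611]) = true := by decide +kernel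
theorem c20004345 : chkTr M20084 [1,2,4,8,16,32,64,128,256,512] ([1,2,8,16,42],[1,2,16,24,42]) ([1,2,8,16,42],[1,2,16,24,42]) = true := by decide +kernel
theorem c20004348 : chkTr M20084 [1,2,4,8,16,32,64,128,256,512] ([1,2,4,32,64,512],[1,4,6,32,611,68]) ([1,2,4,32,64,512],[1,4,6,32,611,68]) = true := by decide +kernel
theorem c20004360 : chkTr M20084 [1,2,4,8,16,32,64,128,256,512] ([1,2,8,16,42,64],[1,2,16,24,42,88]) ([1,2,8,16,42,64],[1,2,16,24,42,88]) = true := by decide +kernel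
theorem c20004372 : chkTr M20084 [1,2,4,8,16,32,64,128,256,512] ([1,2,4,32],[1,4,6,32]) ([1,2,4,32],[1,4,6,32]) = true := by decide +kernel
theorem c20004375 : chkTr M20084 [1,2,4,8,16,32,64,128,256,512] ([1,2,8,16,42,64,128,256],[1,2,16,24,42,88,458,169]) ([1,2,8,16,42,64,128,256],[1,2,16,24,42,88,458,169]) = true := by decide +kernel
theorem c20004387 : chkTr M20084 [1,2,4,8,16,32,64,128,256,512] ([1,2,8,16,42],[1,2,16,24,42]) ([1,2,8,16,42],[1,2,16,24,42]) = true := by decide +kernel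
theorem c20004390 : chkTr M20084 [1,2,4,8,16,32,64,128,256,512] ([1,2,4,32,64,512],[1,4,6,32,611,68]) ([1,2,4,32,64,512],[1,4,6,32,611,68]) = true := by decide +kernel
theorem c20004402 : chkTr M20084 [1,2,4,8,16,32,64,128,256,512] ([1,2,8,16,42,64],[1,2,16,24,42,88]) ([1,2,8,16,42,64],[1,2,16,24,42,88]) = true := by decide +kernel
theorem c20004414 : chkTr M20084 [1,2,4,8,16,32,64,128,256,512] ([1,2,4,32],[1,4,6,32]) ([1,2,4,32],[1,4,6,32]) = true := by decide +kernel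
theorem c20004417 : chkTr M20084 [1,2,4,8,16,32,64,128,256,512] ([1,2,8,16,42,64,128,256],[1,2,16,24,42,88,458,169]) ([1,2,8,16,42,64,128,256],[1,2,16,24,42,88,458,169]) = true := by decide +kernel
theorem c20004638 : chkTr M20084 [1,2,4,8,16,32,64,128,256,512] ([1,2,8,16,42],[1,2,16,24,42]) ([1,2,8,16,42],[1,2,16,24,42]) = true := by decide +kernel
theorem c20004641 : chkTr M20084 [1,2,4,8,16,32,64,128,256,512] ([1,2,4,32,64,512],[1,4,6,32,611,68]) ([1,2,4,32,64,512],[1,4,6,32,611,68]) = true := by decide +kernel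
theorem c20004653 : chkTr M20084 [1,2,4,8,16,32,64,128,256,512] ([1,2,8,16,42,64],[1,2,16,24,42,88]) ([1,2,8,16,42,64],[1,2,16,24,42,88]) = true := by decide +kernel
theorem c20004998 : chkTr M20084 [1,2,4,8,16,32,64,128,256,512] ([1,2,4,32],[1,4,6,32]) ([1,2,4,32],[1,4,6,32]) = true := by decide +kernel
theorem c20005001 : chkTr M20084 [1,2,4,8,16,32,64,128,256,512] ([1,2,8,16,42,64,128,256],[1,2,16,24,42,88,458,169]) ([1,2,8,16,42,64,128,256],[1,2,16,24,42,88,458,169]) = true := by decide +kernel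
theorem c20005013 : chkTr M20084 [1,2,4,8,16,32,64,128,256,512] ([1,2,8,16,42],[1,2,16,24,42]) ([1,2,8,16,42],[1,2,16,24,42]) = true := by decide +kernel
theorem c20005016 : chkTr M20084 [1,2,4,8,16,32,64,128,256,512] ([1,2,4,32,64,512],[1,4,6,32,578,101]) ([1,2,4,32,64,512],[1,4,6,32,578,101]) = true := by decide +kernel
theorem c20005028 : chkTr M20084 [1,2,4,8,16,32,64,128,256,512] ([1,2,8,16,42,64],[1,2,16,24,42,88]) ([1,2,8,16,42,64],[1,2,16,24,42,88]) = true := by decide +kernel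
theorem c20005040 : chkTr M20084 [1,2,4,8,16,32,64,128,256,512] ([1,2,4,32],[1,4,6,32]) ([1,2,4,32],[1,4,6,32]) = true := by decide +kernel
theorem c20005043 : chkTr M20084 [1,2,4,8,16,32,64,128,256,512] ([1,2,8,16,42,64,128,256],[1,2,16,24,42,88,458,169]) ([1,2,8,16,42,64,128,256],[1,2,16,24,42,88,458,169]) = true := by decide +kernel
theorem c20005055 : chkTr M20084 [1,2,4,8,16,32,64,128,256,512] ([1,2,8,16,42],[1,2,16,24,42]) ([1,2,8,16,42],[1,2,16,24,42]) = true := by decide +kernel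
theorem c20005058 : chkTr M20084 [1,2,4,8,16,32,64,128,256,512] ([1,2,4,32,64,512],[1,4,6,32,578,101]) ([1,2,4,32,64,512],[1,4,6,32,578,101]) = true := by decide +kernel
theorem c20005070 : chkTr M20084 [1,2,4,8,16,32,64,128,256,512] ([1,2,8,16,42,64],[1,2,16,24,42,88]) ([1,2,8,16,42,64],[1,2,16,24,42,88]) = true := by decide +kernel
theorem c20005300 : chkTr M20084 [1,2,4,8,16,32,64,128,256,512] ([1,2,4,32],[1,4,6,32]) ([1,2,4,32],[1,4,6,32]) = true := by decide +kernel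
theorem c20005303 : chkTr M20084 [1,2,4,8,16,32,64,128,256,512] ([1,2,8,16,42,64,128,256],[1,2,16,24,42,88,458,169]) ([1,2,8,16,42,64,128,256],[1,2,16,24,42,88,458,169]) = true := by decide +kernel
theorem c20005315 : chkTr M20084 [1,2,4,8,16,32,64,128,256,512] ([1,2,8,16,42],[1,2,16,24,42]) ([1,2,8,16,42],[1,2,16,24,42]) = true := by decide +kernel
theorem c20005318 : chkTr M20084 [1,2,4,8,16,32,64,128,256,512] ([1,2,4,32,64,512],[1,4,6,32,578,101]) ([1,2,4,32,64,512],[1,4,6,32,578,101]) = true := by decide +kernel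
theorem c20004669 : chkTr M20084 [1,2,4,8,16,32,64,128,256,514] ([1,2,8,16,42,64],[1,2,16,24,42,88]) ([1,2,8,16,42,64],[1,2,16,24,42,88]) = true := by decide +kernel
theorem c20005326 : chkTr M20084 [1,2,4,8,16,32,64,128,256,514] ([1,2,4,32],[1,4,6,32]) ([1,2,4,32],[1,4,6,32]) = true := by decide +kernel
theorem c20005329 : chkTr M20084 [1,2,4,8,16,32,64,128,256,514] ([1,2,8,16,42,64,128,256],[1,2,16,24,42,88,458,169]) ([1,2,8,16,42,64,128,256],[1,2,16,24,42,88,458,169]) = true := by decide +kernel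
theorem c20005346 : chkTr M20084 [1,2,4,8,16,32,64,128,256,514] ([1,2,8,16,42],[1,2,16,24,42]) ([1,2,8,16,42],[1,2,16,24,42]) = true := by decide +kernel
theorem c20005351 : chkTr M20084 [1,2,4,8,16,32,64,128,256,514] ([1,2,4,32,64,512],[1,4,6,32,611,68]) ([1,2,4,32,64,514],[1,4,6,32,609,68]) = true := by decide +kernel
theorem c20005423 : chkTr M20084 [1,2,4,8,16,32,64,128,256,514] ([1,2,8,16,42,64],[1,2,16,24,42,88]) ([1,2,8,16,42,64],[1,2,16,24,42,88]) = true := by decide +kernel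
theorem c20004007 : chkScM M20084 [1,2,4,32] [1,2,4,32] [1,2,4,32,64,512] [1,2,4,8] [1,2,4,8] = true := by decide +kernel
theorem c20004051 : chkDer M20084 [([1,2,8,16,42,64,128,256],[1,2,16,24,42,88,458,169]),([1,2,8,16,42],[1,2,16,24,42])] [(0,16,[]),(1,0,[183]),(0,512,[]),(2,1,[21])] ([256],[33]) = true := by decide +kernel
theorem c20005330 : chkDer M20084 [([1,2,4,32,64,512],[1,4,6,32,576,97])] [(1,0,[1,2,4,8,16,34])] ([1,2,4,32,64,514],[1,4,6,32,576,101]) = true := by decide +kernel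
theorem c20004113 : chkDer M20084 [([1,2,8,16,42],[1,2,16,24,42])] [(0,8,[]),(1,0,[29])] ([49],[33]) = true := by decide +kernel
theorem c20004753 : chkDer M20084 [([1,2,8,16,42],[1,2,16,24,42])] [(0,8,[]),(1,0,[29])] ([49],[33]) = true := by decide +kernel
theorem c20004117 : chkDer M20084 [([1,2,4,32,64,512],[1,4,6,32,611,68])] [(0,272,[]),(1,0,[34]),(0,256,[])] ([512],[33]) = true := by decide +kernel
theorem c20004757 : chkDer M20084 [([1,2,4,32,64,512],[1,4,6,32,578,101]),([1,2,4],[1,4,6])] [(1,0,[32]),(0,144,[]),(2,1,[2])] ([512],[2]) = true := by decide +kernel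
theorem c20004058 : chkDer M20084 [] [(0,4,[])] ([256],[400]) = true := by decide +kernel
theorem c20004080 : chkDer M20084 [] [(0,132,[])] ([256],[499]) = true := by decide +kernel
theorem c20004129 : chkDer M20084 [] [(0,64,[])] ([1],[3]) = true := by decide +kernel
theorem c20004151 : chkDer M20084 [] [(0,24,[])] ([4],[12]) = true := by decide +kernel
theorem c20004283 : chkDer M20084 [] [(0,16,[])] ([4],[14]) = true := by decide +kernel
theorem c20004295 : chkDer M20084 [] [(0,384,[])] ([1],[112]) = true := by decide +kernel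
theorem c20004707 : chkDer M20084 [] [(0,9,[])] ([545],[580]) = true := by decide +kernel
theorem c20004726 : chkDer M20084 [] [(0,512,[])] ([256],[497]) = true := by decide +kernel
theorem c20004773 : chkDer M20084 [] [(0,16,[])] ([33],[35]) = true := by decide +kernel
theorem c20004803 : chkDer M20084 [] [(0,704,[])] ([1],[15]) = true := by decide +kernel
theorem c20004926 : chkDer M20084 [] [(0,256,[])] ([33],[64]) = true := by decide +kernel
theorem c20004938 : chkDer M20084 [] [(0,832,[])] ([1],[143]) = true := by decide +kernel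
theorem c20004965 : chkDer M20084 [] [(0,16,[])] ([545],[691]) = true := by decide +kernel

end Cfsg.Lib.L33E
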