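import Cfsg.Agent.L33E.Mod
import Cfsg.Agent.L33E.Xs
import Cfsg.Agent.L33E.TTa

/-!
# The certified climb: homomorphisms to `ℤ/4` given by tables, transfer on codes
-/

set_option autoImplicit false

namespace Cfsg.Lib.L33E

variable {G : Type*} [Group G] {M : Md} {gs : List G} {X : Subgroup G} {s : ℕ} {D : Tw}

theorem l2_lt (r x : ℕ) : l2 r x < 4 := Nat.lt_succ_of_le Nat.and_le_right

theorem hom_of (C : Ch M gs) {c La om : ℕ} (h : chkHom M c La om = true) {x y : ℕ} (hx : x < M.N)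
    (hy : y < M.N) (px : par (Nat.land x c) = 0)
    (hp : ∀ a b, a < M.N → b < M.N →
      par (Nat.land (M.mul a b) c) = (par (Nat.land a c) + par (Nat.land b c)) % 2) :
    l2 La (M.mul x y) = (l2 La x + l2 La y) % 4 := by
  simp only [chkHom, frc_eq, Md.rm_eq, Bool.and_eq_true, allN_iff, Nat.beq_eq, pw_eq] at h
  induction y using Nat.strong_induction_on with
  | _ y ih =>
  rcases eq_or_ne y 0 with rfl | h0
  · rw [C.inj _ _ (C.lt _ _ hx hy) hx (by rw [C.mul _ _ hx hy, evL_zero, mul_one]), h.1, add_zero,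
      Nat.mod_eq_of_lt (l2_lt _ _)]
  obtain ⟨h1, h2⟩ := log2_split h0
  have h4 : y - 2 ^ y.log2 < y := Nat.sub_lt (Nat.pos_of_ne_zero h0) (by positivity)
  have hy' := h4.trans hy
  have hp' := h1.trans_lt hy
  have h9 := evL_add_pow gs 1 h2
  rw [mul_one, Nat.sub_add_cancel h1] at h9
  have h5 := h.2 _ ((Nat.pow_lt_pow_iff_right one_lt_two).1 (C.pow ▸ hp'))
  have a1 := h5 _ (C.lt _ _ hx hy')
  have a2 := h5 _ hy'
  have a3 : ∀ z, Nat.land z 3 = z % 4 := fun z => Nat.and_two_pow_sub_one_eq_mod z 2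
  rw [C.inj _ _ (C.lt _ _ (C.lt _ _ hx hy') hp') (C.lt _ _ hx hy) (by
    rw [C.mul _ _ (C.lt _ _ hx hy') hp', C.mul _ _ hx hy', C.mul _ _ hx hy, h9, mul_assoc]),
    hp _ _ hx hy', px, zero_add, Nat.mod_eq_of_lt (by have := par_le (Nat.land (y - 2 ^ y.log2) c); omega),
    ih _ h4 hy', a3, Nat.add_eq] at a1
  rw [C.inj _ _ (C.lt _ _ hy' hp') hy (by rw [C.mul _ _ hy' hp', h9]), a3, Nat.add_eq] at a2
  omega

theorem Amb.perf {t : G} (A : Amb X t) : X ≤ ⁅X, X⁆ := by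
  have := A.simple
  rcases (inferInstance : (commutator X).Normal).eq_bot_or_eq_top with e | e
  · refine absurd ⟨⟨fun a b => ?_⟩⟩ A.ncomm
    exact Subgroup.mem_center_iff.1 ((commutator_eq_bot_iff_center_eq_top X).1 e ▸ Subgroup.mem_top b) a
  · rw [← Subgroup.map_subtype_commutator, e, ← MonoidHom.range_eq_map, Subgroup.range_subtype]

/-- the subgroup selected by the parity `c` -/
theorem exists_sel (S : St X s D gs) (C : Ch M gs) {c0 c : ℕ} (hX : XC X gs c0)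
    (hc : c = 0 ∨ c = c0) : ∃ H : Subgroup G, H.Normal ∧ X ≤ H ∧ (∀ g, g ∈ H → c = 0 ∨ g ∈ X) ∧
      (∀ x < M.N, evL gs x ∈ H ↔ par (Nat.land x c) = 0) ∧ ∀ a b, a < M.N → b < M.N →
        par (Nat.land (M.mul a b) c) = (par (Nat.land a c) + par (Nat.land b c)) % 2 := by
  have h0 : ∀ x, par (Nat.land x 0) = 0 := fun x => congrArg par (Nat.and_zero x)
  rcases hc with rfl | rfl
  · exact ⟨⊤, inferInstance, le_top, fun _ _ => .inl rfl, fun x _ => iff_of_true trivial (h0 x),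
      fun a b _ _ => by simp only [h0]⟩
  have h1 : ∀ x < M.N, evL gs x ∈ X ↔ par (Nat.land x c) = 0 := fun x hx =>
    hX.2 x ((Xs.lt_pow C).2 hx)
  refine ⟨X, S.amb.nrm, le_rfl, fun _ => .inr, h1, fun a b ha hb => ?_⟩
  have := Xs.mul_iff S.amb (evL gs a) (evL gs b)
  rw [← C.mul _ _ ha hb, h1 _ ha, h1 _ hb, h1 _ (C.lt _ _ ha hb)] at this
  have := par_le (Nat.land a c)
  have := par_le (Nat.land b c)
  have := par_le (Nat.land (M.mul a b) c)
  omega

/-- group form of the transfer step: `H` is the whole group (`c = 0`) or `X` -/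
theorem tt_code [Finite G] (S : St X s D gs) (C : Ch M gs) (hs : Syl gs) {c0 c La om : ℕ}
    (hX : XC X gs c0) (hc : c = 0 ∨ c = c0) (h : chkHom M c La om = true) {u : ℕ} (hu : u < M.N)
    (pu : par (Nat.land u c0) = 0) (h4 : evL gs u ^ 4 = 1)
    (h1 : ∀ g : G, ∀ y < M.N, par (Nat.land y c) = 0 → g⁻¹ * evL gs u * g = evL gs y →
      l2 La y % 2 = 0)
    (h2 : ∀ g : G, ∀ y < M.N, par (Nat.land y c) = 0 →
      g⁻¹ * (evL gs u * evL gs u) * g = evL gs y → l2 La y = 0)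
    {rs : List ℕ} (hr : ∀ r ∈ rs, r < M.N ∧ par (Nat.land r c) = 0 ∧ Commute (evL gs r) (evL gs u)) :
    ∃ g : G, (c = 0 ∨ g ∈ X) ∧ (∀ r ∈ gen (rs.map (evL gs)), ∃ y < M.N,
      par (Nat.land y c) = 0 ∧ g⁻¹ * r * g = evL gs y) ∧
      ∃ y < M.N, par (Nat.land y c) = 0 ∧ g⁻¹ * evL gs u * g = evL gs y ∧ l2 La y = 0 := by
  classical
  obtain ⟨H, hn, hXH, hH, hp, hadd⟩ := exists_sel S C hX hc
  obtain ⟨P, hP⟩ := hs
  have hT : ∀ t : H, t ∈ (Trans.sylowInfNormal P H : Subgroup H) → ∃ y < M.N,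
      par (Nat.land y c) = 0 ∧ (t : G) = evL gs y := fun t ht => by
    obtain ⟨y, hy, e⟩ := C.mem_iff.1 (hP ▸ ht : (t : G) ∈ gen gs)
    exact ⟨y, hy, (hp y hy).1 (e ▸ t.2), e.symm⟩
  obtain ⟨f, hf⟩ : ∃ f : G → Multiplicative (ZMod 4), ∀ x < M.N,
      f (evL gs x) = Multiplicative.ofAdd (l2 La x : ZMod 4) := by
    refine ⟨fun g => if h : ∃ x < M.N, evL gs x = g then .ofAdd (l2 La h.choose) else 1,
      fun x hx => ?_⟩
    have e : ∃ y < M.N, evL gs y = evL gs x := ⟨x, hx, rfl⟩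
    simp only [dif_pos e, C.inj _ _ e.choose_spec.1 hx e.choose_spec.2]
  let la : (Trans.sylowInfNormal P H : Subgroup H) →* Multiplicative (ZMod 4) :=
    MonoidHom.mk' (fun t => f t) fun a b => by
      obtain ⟨x, hx, px, ex⟩ := hT _ a.2
      obtain ⟨y, hy, -, ey⟩ := hT _ b.2
      simp only [Subgroup.coe_mul, ex, ey, ← C.mul _ _ hx hy, hf _ hx, hf _ hy,
        hf _ (C.lt _ _ hx hy), hom_of C h hx hy px hadd, ZMod.natCast_mod, Nat.cast_add, ofAdd_add]
  have huX : evL gs u ∈ X := (hX.2 u ((Xs.lt_pow C).2 hu)).2 pu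
  have hle : gen (rs.map (evL gs)) ≤ H := (Subgroup.closure_le _).2 fun x hx => by
    obtain ⟨r, h1, rfl⟩ := List.mem_map.1 hx
    exact (hp r (hr r h1).1).2 (hr r h1).2.1
  obtain ⟨g, g1, g2, g3⟩ := tt_abs (Trans.sylowInfNormal P H) la (u := ⟨_, hXH huX⟩) (by
      obtain ⟨v, hv, e⟩ := (Subgroup.map_subtype_commutator H).ge
        (Subgroup.commutator_mono hXH hXH (S.amb.perf huX))
      exact (Subtype.ext e : v = ⟨_, hXH huX⟩) ▸ hv) (Subtype.ext h4)
    (fun g hg => by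
      obtain ⟨y, hy, py, e⟩ := hT _ hg
      have := h1 g y hy py e
      have h3 := l2_lt La y
      change f _ ^ 2 = 1
      rw [e, hf y hy]
      generalize l2 La y = a at this h3
      interval_cases a <;> first | rfl | omega)
    (fun g hg => by
      obtain ⟨y, hy, py, e⟩ := hT _ hg
      change f _ = 1
      rw [e, hf y hy, h2 g y hy py e]
      rfl)
    (R := (gen (rs.map (evL gs))).subgroupOf H) (C.isP.to_le Xs.gen_le).comap_subtype
    fun r hr' => Subtype.ext (Xs.comm_gen (List.forall_mem_map.2 fun r h => (hr r h).2.2) hr').eq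
  refine ⟨g, hH g g.2, fun r h => hT _ (g1 ⟨r, hle h⟩ h), ?_⟩
  obtain ⟨y, hy, py, e⟩ := hT _ g2
  refine ⟨y, hy, py, e, ?_⟩
  change f _ = 1 at g3
  have h3 := l2_lt La y
  rw [e, hf y hy] at g3
  generalize l2 La y = a at g3 h3
  interval_cases a <;> first | rfl | exact absurd g3 (by decide)

end Cfsg.Lib.L33E
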