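import Cfsg.Agent.L33E.IdS
import Cfsg.Agent.SporChar.WFormAct

/-! Tower relations between words. -/

set_option autoImplicit false

namespace Cfsg.Lib.L33E.Id

open Subgroup Cfsg.Lib.Spor Cfsg.Lib.Spor.Bulk

variable {G : Type*} [Group G] (g : ℕ → G)

/-- the word of a code -/
def evW : List (List ℕ) → ℕ → List ℕ
  | [], _ => []
  | W :: Ws, m => evW Ws (m / 2) ++ if m % 2 = 1 then W else []

theorem wv_evW (Ws : List (List ℕ)) (m : ℕ) : wv g (evW Ws m) = evL (Ws.map (wv g)) m := by
  induction Ws generalizing m with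
  | nil => rfl
  | cons W Ws ih => rw [evW, wv_append, ih, List.map_cons, evL_cons]; split_ifs <;> rfl

/-- the equations of a tower (both lists reversed) -/
def rels : Tw → List (List ℕ) → List (List ℕ × List ℕ)
  | lv :: D, W :: Ws => (W ++ W, evW Ws.reverse lv.2) :: (Ws.reverse.zip lv.1).map
      (fun p => (p.1 ++ W, W ++ evW Ws.reverse p.2)) ++ rels D Ws
  | _, _ => []

/-- the lengths fit -/
def lenOK : Tw → List (List ℕ) → Bool
  | lv :: D, _ :: Ws => Nat.beq lv.1.length Ws.length && lenOK D Ws
  | [], [] => true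
  | _, _ => false

theorem rl_rev {D : Tw} {Ws : List (List ℕ)} (hl : lenOK D Ws = true)
    (h : ∀ p ∈ rels D Ws, wv g p.1 = wv g p.2) : Rl D.reverse (Ws.reverse.map (wv g)) := by
  induction D generalizing Ws with
  | nil =>
    cases Ws with
    | nil => exact .nil
    | cons => cases hl
  | cons lv D ih =>
    cases Ws with
    | nil => cases hl
    | cons W Ws =>
      simp only [lenOK, Bool.and_eq_true, Nat.beq_eq] at hl
      simp only [rels, List.cons_append, List.mem_cons, List.mem_append, List.mem_map] at h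
      rw [List.reverse_cons, List.reverse_cons, List.map_append]
      refine (ih hl.2 fun p hp => h p (.inr (.inr hp))).snoc (List.forall₂_map_left_iff.2
        (List.forall₂_iff_zip.2 ⟨by simp [hl.1], fun {a b} k => ?_⟩)) ?_
      · have := h _ (.inr (.inl ⟨_, k, rfl⟩))
        rw [wv_append, wv_append, wv_evW] at this
        rw [this, mul_inv_cancel_right]
      · have := h _ (.inl rfl)
        rwa [wv_append, wv_evW] at this

theorem rl_of {D : Tw} {Ws : List (List ℕ)} (hl : lenOK D.reverse Ws.reverse = true)
    (h : ∀ p ∈ rels D.reverse Ws.reverse, wv g p.1 = wv g p.2) : Rl D (Ws.map (wv g)) := by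
  simpa using rl_rev g hl h

end Cfsg.Lib.L33E.Id
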