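import Cfsg.Agent.L33E.Chk3
import Cfsg.Agent.L33E.Ext4

set_option autoImplicit false
set_option maxRecDepth 100000
set_option linter.all false
set_option Elab.async false

namespace Cfsg.Lib.L33E

noncomputable def D10001 : Tw := [([],0),([1],0),([1,2],0),([1,2,6],2),([1,2,14,10],2)]
noncomputable def D10002 : Tw := [([],0),([1],0),([1,2],0),([1,2,6],2),([1,2,14,10],2),([3,2,6,8,18],0)]
noncomputable def D10003 : Tw := [([],0),([1],0),([1,2],0),([1,2,6],2),([1,2,14,10],2),([3,2,4,8,18],0)]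
noncomputable def D10004 : Tw := [([],0),([1],0),([1,2],0),([1,2,6],2),([1,2,14,10],2),([3,2,4,8,18],0),([43,2,46,8,16,34],0)]
noncomputable def D10005 : Tw := [([],0),([1],0),([1,2],0),([1,2,6],2),([1,2,14,10],2),([3,2,4,8,18],0),([43,2,46,8,16,34],2)]
noncomputable def D10006 : Tw := [([],0),([1],0),([1,2],0),([1,2,6],2),([1,2,14,10],2),([3,2,4,8,18],0),([43,2,46,8,18,34],0)]
noncomputable def D10007 : Tw := [([],0),([1],0),([1,2],0),([1,2,6],2),([1,2,14,10],2),([3,2,4,8,18],0),([43,2,46,8,18,34],2)]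
noncomputable def D10008 : Tw := [([],0),([1],0),([1,2],0),([1,2,6],2),([1,2,14,10],2),([3,2,4,8,18],0),([43,2,46,8,16,34],2),([7,2,4,40,64,32,16],0)]
noncomputable def D10009 : Tw := [([],0),([1],0),([1,2],0),([1,2,6],2),([1,2,14,10],2),([3,2,4,8,18],0),([43,2,46,8,16,34],2),([7,2,4,40,64,32,16],2)]
noncomputable def D10010 : Tw := [([],0),([1],0),([1,2],0),([1,2,6],2),([1,2,14,10],2),([3,2,4,8,18],0),([43,2,46,8,18,34],2),([7,2,4,40,64,32,16],0)]
noncomputable def D10011 : Tw := [([],0),([1],0),([1,2],0),([1,2,6],2),([1,2,14,10],2),([3,2,4,8,18],0),([43,2,46,8,18,34],2),([7,2,4,40,64,32,16],2)]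
noncomputable def D10012 : Tw := [([],0),([1],0),([1,2],0),([1,2,6],2),([1,2,14,10],2),([3,2,4,8,18],0),([34,2,14,10,49,3],0)]
noncomputable def D10013 : Tw := [([],0),([1],0),([1,2],0),([1,2,6],2),([1,2,14,10],2),([3,2,4,8,18],0),([34,2,14,10,49,3],2)]
noncomputable def D10014 : Tw := [([],0),([1],0),([1,2],0),([1,2,6],2),([1,2,14,10],2),([3,2,4,8,18],0),([34,2,14,10,51,3],0)]
noncomputable def D10015 : Tw := [([],0),([1],0),([1,2],0),([1,2,6],2),([1,2,14,10],2),([3,2,4,8,18],0),([34,2,14,10,51,3],2)]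
noncomputable def D10016 : Tw := [([],0),([1],0),([1,2],0),([1,2,6],2),([1,2,14,10],2),([3,2,4,8,18],0),([34,2,14,10,49,3],0),([58,2,83,35,49,48,7],108)]
noncomputable def D10017 : Tw := [([],0),([1],0),([1,2],0),([1,2,6],2),([1,2,14,10],2),([3,2,4,8,18],0),([34,2,14,10,49,3],0),([58,2,83,35,49,48,7],110)]
noncomputable def D10018 : Tw := [([],0),([1],0),([1,2],0),([1,2,6],2),([1,2,14,10],2),([3,2,4,8,18],0),([34,2,14,10,49,3],0),([58,2,81,35,49,48,5],108)]
noncomputable def D10019 : Tw := [([],0),([1],0),([1,2],0),([1,2,6],2),([1,2,14,10],2),([3,2,4,8,18],0),([34,2,14,10,49,3],0),([58,2,81,35,49,48,5],110)]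
noncomputable def D10020 : Tw := [([],0),([1],0),([1,2],0),([1,2,6],2),([1,2,14,10],2),([3,2,4,8,18],0),([34,2,14,10,49,3],0),([58,2,83,35,49,48,7],108)]
noncomputable def D10021 : Tw := [([],0),([1],0),([1,2],0),([1,2,6],2),([1,2,14,10],2),([3,2,4,8,18],0),([34,2,14,10,49,3],0),([58,2,83,35,49,48,7],110)]
noncomputable def D10022 : Tw := [([],0),([1],0),([1,2],0),([1,2,6],2),([1,2,14,10],2),([3,2,4,8,18],0),([34,2,14,10,49,3],0),([58,2,81,35,49,48,5],108)]
noncomputable def D10023 : Tw := [([],0),([1],0),([1,2],0),([1,2,6],2),([1,2,14,10],2),([3,2,4,8,18],0),([34,2,14,10,49,3],0),([58,2,81,35,49,48,5],110)]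
noncomputable def D10024 : Tw := [([],0),([1],0),([1,2],0),([1,2,6],2),([1,2,14,10],2),([3,2,4,8,18],0),([34,2,14,10,51,3],0),([58,2,122,33,51,50,44],69)]
noncomputable def D10025 : Tw := [([],0),([1],0),([1,2],0),([1,2,6],2),([1,2,14,10],2),([3,2,4,8,18],0),([34,2,14,10,51,3],0),([58,2,122,33,51,50,44],71)]
noncomputable def D10026 : Tw := [([],0),([1],0),([1,2],0),([1,2,6],2),([1,2,14,10],2),([3,2,4,8,18],0),([34,2,14,10,51,3],0),([58,2,120,33,51,50,46],69)]
noncomputable def D10027 : Tw := [([],0),([1],0),([1,2],0),([1,2,6],2),([1,2,14,10],2),([3,2,4,8,18],0),([34,2,14,10,51,3],0),([58,2,120,33,51,50,46],71)]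
noncomputable def D10028 : Tw := [([],0),([1],0),([1,2],0),([1,2,6],2),([1,2,14,10],2),([3,2,4,8,18],0),([34,2,14,10,51,3],0),([58,2,122,33,51,50,44],69)]
noncomputable def D10029 : Tw := [([],0),([1],0),([1,2],0),([1,2,6],2),([1,2,14,10],2),([3,2,4,8,18],0),([34,2,14,10,51,3],0),([58,2,122,33,51,50,44],71)]
noncomputable def D10030 : Tw := [([],0),([1],0),([1,2],0),([1,2,6],2),([1,2,14,10],2),([3,2,4,8,18],0),([34,2,14,10,51,3],0),([58,2,120,33,51,50,46],69)]
noncomputable def D10031 : Tw := [([],0),([1],0),([1,2],0),([1,2,6],2),([1,2,14,10],2),([3,2,4,8,18],0),([34,2,14,10,51,3],0),([58,2,120,33,51,50,46],71)]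
noncomputable def D10032 : Tw := [([],0),([1],0),([1,2],0),([1,2,6],2),([1,2,14,10],2),([3,2,6,8,16],0)]
noncomputable def D10033 : Tw := [([],0),([1],0),([1,2],0),([1,2,6],2),([1,2,14,10],2),([3,2,4,8,16],0)]
noncomputable def D10034 : Tw := [([],0),([1],0),([1,2],0),([1,2,6],2),([1,2,14,10],2),([3,2,4,8,16],0),([43,2,46,10,50,32],0)]
noncomputable def D10035 : Tw := [([],0),([1],0),([1,2],0),([1,2,6],2),([1,2,14,10],2),([3,2,4,8,16],0),([43,2,46,10,50,32],2)]
noncomputable def D10036 : Tw := [([],0),([1],0),([1,2],0),([1,2,6],2),([1,2,14,10],2),([3,2,4,8,16],0),([43,2,46,10,48,32],0)]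
noncomputable def D10037 : Tw := [([],0),([1],0),([1,2],0),([1,2,6],2),([1,2,14,10],2),([3,2,4,8,16],0),([43,2,46,10,48,32],2)]
noncomputable def D10038 : Tw := [([],0),([1],0),([1,2],0),([1,2,6],2),([1,2,14,10],2),([3,2,4,8,16],0),([43,2,46,10,50,32],0),([59,2,118,42,48,32,64],0)]
noncomputable def D10039 : Tw := [([],0),([1],0),([1,2],0),([1,2,6],2),([1,2,14,10],2),([3,2,4,8,16],0),([43,2,46,10,50,32],0),([59,2,118,42,48,32,64],2)]
noncomputable def D10040 : Tw := [([],0),([1],0),([1,2],0),([1,2,6],2),([1,2,14,10],2),([3,2,4,8,16],0),([43,2,46,10,48,32],2),([59,2,86,40,50,32,66],0)]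
noncomputable def D10041 : Tw := [([],0),([1],0),([1,2],0),([1,2,6],2),([1,2,14,10],2),([3,2,4,8,16],0),([43,2,46,10,48,32],2),([59,2,86,40,50,32,66],2)]
noncomputable def D10042 : Tw := [([],0),([1],0),([1,2],0),([1,2,6],2),([1,2,14,10],2),([3,2,4,8,16],0),([43,2,46,10,48,32],2),([59,2,86,40,50,32,66],2),([7,2,4,40,66,32,18,240],0)]
noncomputable def D10043 : Tw := [([],0),([1],0),([1,2],0),([1,2,6],2),([1,2,14,10],2),([3,2,4,8,16],0),([43,2,46,10,48,32],2),([59,2,86,40,50,32,66],2),([7,2,4,40,66,32,18,240],2)]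
noncomputable def D10044 : Tw := [([],0),([1],0),([1,2],0),([1,2,6],2),([1,2,14,10],2),([3,2,4,8,16],0),([43,2,46,10,48,32],2),([59,2,86,40,50,32,66],2),([7,2,4,40,66,32,18,242],0)]
noncomputable def D10045 : Tw := [([],0),([1],0),([1,2],0),([1,2,6],2),([1,2,14,10],2),([3,2,4,8,16],0),([43,2,46,10,48,32],2),([59,2,86,40,50,32,66],2),([7,2,4,40,66,32,18,242],2)]
noncomputable def D10046 : Tw := [([],0),([1],0),([1,2],0),([1,2,6],2),([1,2,14,10],2),([3,2,4,8,16],0),([43,2,46,10,48,32],2),([59,2,86,40,50,32,66],2),([7,2,4,40,64,32,16,210],0)]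
noncomputable def D10047 : Tw := [([],0),([1],0),([1,2],0),([1,2,6],2),([1,2,14,10],2),([3,2,4,8,16],0),([43,2,46,10,48,32],2),([59,2,86,40,50,32,66],2),([7,2,4,40,64,32,16,210],2)]
noncomputable def D10048 : Tw := [([],0),([1],0),([1,2],0),([1,2,6],2),([1,2,14,10],2),([3,2,4,8,16],0),([43,2,46,10,48,32],2),([59,2,86,40,50,32,66],2),([7,2,4,40,64,32,16,208],0)]
noncomputable def D10049 : Tw := [([],0),([1],0),([1,2],0),([1,2,6],2),([1,2,14,10],2),([3,2,4,8,16],0),([43,2,46,10,48,32],2),([59,2,86,40,50,32,66],2),([7,2,4,40,64,32,16,208],2)]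
noncomputable def D10050 : Tw := [([],0),([1],0),([1,2],0),([1,2,6],2),([1,2,14,10],2),([3,2,4,8,16],0),([32,2,12,10,18,1],0)]
noncomputable def D10051 : Tw := [([],0),([1],0),([1,2],0),([1,2,6],2),([1,2,14,10],2),([3,2,4,8,16],0),([32,2,12,10,18,1],2)]
noncomputable def D10052 : Tw := [([],0),([1],0),([1,2],0),([1,2,6],2),([1,2,14,10],2),([3,2,4,8,16],0),([32,2,12,10,16,1],0)]
noncomputable def D10053 : Tw := [([],0),([1],0),([1,2],0),([1,2,6],2),([1,2,14,10],2),([3,2,4,8,16],0),([32,2,12,10,16,1],2)]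
noncomputable def D10054 : Tw := [([],0),([1],0),([1,2],0),([1,2,6],2),([1,2,14,10],2),([3,2,4,8,16],0),([32,2,12,10,18,1],0),([80,2,59,8,37,113,38],55)]
noncomputable def D10055 : Tw := [([],0),([1],0),([1,2],0),([1,2,6],2),([1,2,14,10],2),([3,2,4,8,16],0),([32,2,12,10,18,1],0),([80,2,59,8,37,113,38],53)]
noncomputable def D10056 : Tw := [([],0),([1],0),([1,2],0),([1,2,6],2),([1,2,14,10],2),([3,2,4,8,16],0),([32,2,12,10,18,1],0),([80,2,59,8,39,113,38],28)]
noncomputable def D10057 : Tw := [([],0),([1],0),([1,2],0),([1,2,6],2),([1,2,14,10],2),([3,2,4,8,16],0),([32,2,12,10,18,1],0),([80,2,59,8,39,113,38],30)]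
noncomputable def D10058 : Tw := [([],0),([1],0),([1,2],0),([1,2,6],2),([1,2,14,10],2),([3,2,4,8,16],0),([32,2,12,10,18,1],0),([80,2,57,10,45,115,13],91)]
noncomputable def D10059 : Tw := [([],0),([1],0),([1,2],0),([1,2,6],2),([1,2,14,10],2),([3,2,4,8,16],0),([32,2,12,10,18,1],0),([80,2,57,10,45,115,13],89)]
noncomputable def D10060 : Tw := [([],0),([1],0),([1,2],0),([1,2,6],2),([1,2,14,10],2),([3,2,4,8,16],0),([32,2,12,10,18,1],0),([80,2,57,10,47,115,13],112)]
noncomputable def D10061 : Tw := [([],0),([1],0),([1,2],0),([1,2,6],2),([1,2,14,10],2),([3,2,4,8,16],0),([32,2,12,10,18,1],0),([80,2,57,10,47,115,13],114)]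
noncomputable def D10062 : Tw := [([],0),([1],0),([1,2],0),([1,2,6],2),([1,2,14,10],2),([3,2,4,8,16],0),([32,2,12,10,16,1],0),([57,2,121,35,11,49,38],84)]
noncomputable def D10063 : Tw := [([],0),([1],0),([1,2],0),([1,2,6],2),([1,2,14,10],2),([3,2,4,8,16],0),([32,2,12,10,16,1],0),([57,2,121,35,11,49,38],86)]
noncomputable def D10064 : Tw := [([],0),([1],0),([1,2],0),([1,2,6],2),([1,2,14,10],2),([3,2,4,8,16],0),([32,2,12,10,16,1],0),([57,2,121,35,9,49,38],125)]
noncomputable def D10065 : Tw := [([],0),([1],0),([1,2],0),([1,2,6],2),([1,2,14,10],2),([3,2,4,8,16],0),([32,2,12,10,16,1],0),([57,2,121,35,9,49,38],127)]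
noncomputable def D10066 : Tw := [([],0),([1],0),([1,2],0),([1,2,6],2),([1,2,14,10],2),([3,2,4,8,16],0),([32,2,12,10,16,1],0),([57,2,123,33,42,51,13],58)]
noncomputable def D10067 : Tw := [([],0),([1],0),([1,2],0),([1,2,6],2),([1,2,14,10],2),([3,2,4,8,16],0),([32,2,12,10,16,1],0),([57,2,123,33,42,51,13],56)]
noncomputable def D10068 : Tw := [([],0),([1],0),([1,2],0),([1,2,6],2),([1,2,14,10],2),([3,2,4,8,16],0),([32,2,12,10,16,1],0),([57,2,123,33,40,51,13],19)]
noncomputable def D10069 : Tw := [([],0),([1],0),([1,2],0),([1,2,6],2),([1,2,14,10],2),([3,2,4,8,16],0),([32,2,12,10,16,1],0),([57,2,123,33,40,51,13],17)]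
noncomputable def Z10001516 : ℕ := 0xa00000a0000a0a0a000000a0aa
noncomputable def Z10001637 : ℕ := 0x500500005005000000000055000000550000000000000000000000000000000050500000505000000000505500005054
noncomputable def Z10001926 : ℕ := 0x50500505505005050505505005055050500500005005000000000055000000550000000000000000000000000000000050500000505000000000505500005054
noncomputable def L10000177 : ℕ := 0x88888888888888888888888888888888888888888888888888888888888888888888888888888888888888888888888888888888888888888888888888888888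
noncomputable def Z10000148 : ℕ := 0xa000000a0aa
noncomputable def L10000868 : ℕ := 0x88888888888888882222222222222222222222222222222288888888888888888888888888888888222222222222222222222222222222228888888888888888
noncomputable def Z10000843 : ℕ := 0xa0a00000505050550550000a0aa
noncomputable def Z10002412 : ℕ := 0xa0a0a00050505000050550000a0aa
noncomputable def L10001537 : ℕ := 0x8888888888888888888888888888888888888888888888888888888888888888888888888888888888888888888888888888888888888888888888888888888888888888888888888888888888888888888888888888888888888888888888888888888888888888888888888888888888888888888888888888888888888888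
noncomputable def Z10001807 : ℕ := 0x1004000040040000000000110000004100000000000000000000000000000000000000a00000a0000a0a0a050000a0aa
noncomputable def Z10001814 : ℕ := 0x4001000010010000000000440000001400000000000000000000000000000000505000a05050a0000a0a5a500000f0fe
noncomputable def Z10000353 : ℕ := 0x5005000050050000000000550000005500000005000005000505505500005054
noncomputable def E10000005 : Env := ⟨5,0,[],[]⟩
noncomputable def E10001531 : Env := ⟨5,0,[(1,Z10001516)],[]⟩
noncomputable def E10001661 : Env := ⟨5,0,[(4,Z10001637),(36,Z10001637),(14,Z10001637),(46,Z10001637),(94,Z10001637),(126,Z10001637)],[]⟩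
noncomputable def E10001665 : Env := ⟨5,1,[(4,Z10001637),(36,Z10001637),(14,Z10001637),(46,Z10001637),(94,Z10001637),(126,Z10001637)],[]⟩
noncomputable def E10001941 : Env := ⟨5,0,[(2,Z10001926),(32,Z10001926),(34,Z10001926)],[]⟩
noncomputable def E10001987 : Env := ⟨5,0,[(4,Z10001926),(36,Z10001926),(14,Z10001926),(46,Z10001926),(94,Z10001926),(126,Z10001926)],[]⟩
noncomputable def E10001991 : Env := ⟨5,1,[(4,Z10001926),(36,Z10001926),(14,Z10001926),(46,Z10001926),(94,Z10001926),(126,Z10001926)],[]⟩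
noncomputable def E10000171 : Env := ⟨5,0,[(1,Z10000148)],[]⟩
noncomputable def E10000862 : Env := ⟨5,0,[(1,Z10000843)],[]⟩
noncomputable def E10002423 : Env := ⟨5,0,[(1,Z10002412)],[]⟩
noncomputable def E10001802 : Env := ⟨5,1,[(336,Z10001637),(368,Z10001637),(348,Z10001637),(380,Z10001637),(2,Z10001637),(34,Z10001637)],[]⟩
noncomputable def E10001848 : Env := ⟨5,1,[(34,Z10001807),(288,Z10001807),(294,Z10001814),(36,Z10001814),(380,Z10001807),(126,Z10001814),(350,Z10001807),(2,Z10001814),(256,Z10001807),(292,Z10001807)],[]⟩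
noncomputable def E10000369 : Env := ⟨5,0,[(4,Z10000353),(36,Z10000353),(14,Z10000353),(46,Z10000353)],[]⟩
noncomputable def E10000373 : Env := ⟨5,1,[(4,Z10000353),(36,Z10000353),(14,Z10000353),(46,Z10000353)],[]⟩

end Cfsg.Lib.L33E
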