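import Cfsg.Agent.L33E.Chk3
import Cfsg.Agent.L33E.Ext4

set_option autoImplicit false
set_option maxRecDepth 100000
set_option linter.all false
set_option Elab.async false

namespace Cfsg.Lib.L33E

noncomputable def D20001 : Tw := [([],0),([1],0),([1,2],0),([1,2,6],2),([1,2,14,10],2),([1,2,4,8,18],0)]
noncomputable def D20002 : Tw := [([],0),([1],0),([1,2],0),([1,2,6],2),([1,2,14,10],2),([1,2,4,8,18],0),([3,2,12,8,26,34],10)]
noncomputable def D20003 : Tw := [([],0),([1],0),([1,2],0),([1,2,6],2),([1,2,14,10],2),([1,2,4,8,18],0),([3,2,13,8,26,34],33)]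
noncomputable def D20004 : Tw := [([],0),([1],0),([1,2],0),([1,2,6],2),([1,2,14,10],2),([1,2,4,8,18],0),([3,2,36,8,26,34],10)]
noncomputable def D20005 : Tw := [([],0),([1],0),([1,2],0),([1,2,6],2),([1,2,14,10],2),([1,2,4,8,18],0),([3,2,37,8,26,34],33)]
noncomputable def D20006 : Tw := [([],0),([1],0),([1,2],0),([1,2,6],2),([1,2,14,10],2),([1,2,4,8,18],0),([3,2,37,8,26,34],33),([34,2,37,41,124,3,64],0)]
noncomputable def D20007 : Tw := [([],0),([1],0),([1,2],0),([1,2,6],2),([1,2,14,10],2),([1,2,4,8,18],0),([3,2,37,8,26,34],33),([34,2,37,41,124,3,64],2)]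
noncomputable def D20008 : Tw := [([],0),([1],0),([1,2],0),([1,2,6],2),([1,2,14,10],2),([1,2,4,8,18],0),([3,2,37,8,26,34],33),([34,2,37,41,92,3,97],0)]
noncomputable def D20009 : Tw := [([],0),([1],0),([1,2],0),([1,2,6],2),([1,2,14,10],2),([1,2,4,8,18],0),([3,2,37,8,26,34],33),([34,2,37,41,92,3,97],2)]
noncomputable def D20010 : Tw := [([],0),([1],0),([1,2],0),([1,2,6],2),([1,2,14,10],2),([1,2,4,8,18],0),([3,2,4,8,18,34],0)]
noncomputable def D20011 : Tw := [([],0),([1],0),([1,2],0),([1,2,6],2),([1,2,14,10],2),([1,2,4,8,18],0),([3,2,5,8,18,34],43)]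
noncomputable def D20012 : Tw := [([],0),([1],0),([1,2],0),([1,2,6],2),([1,2,14,10],2),([1,2,4,8,18],0),([3,2,44,8,18,34],0)]
noncomputable def D20013 : Tw := [([],0),([1],0),([1,2],0),([1,2,6],2),([1,2,14,10],2),([1,2,4,8,18],0),([3,2,45,8,18,34],43)]
noncomputable def D20014 : Tw := [([],0),([1],0),([1,2],0),([1,2,6],2),([1,2,14,10],2),([1,2,4,8,18],0),([3,2,4,8,18,34],0),([75,2,78,8,16,104,66],0)]
noncomputable def D20015 : Tw := [([],0),([1],0),([1,2],0),([1,2,6],2),([1,2,14,10],2),([1,2,4,8,18],0),([3,2,4,8,18,34],0),([75,2,78,8,16,104,66],2)]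
noncomputable def D20016 : Tw := [([],0),([1],0),([1,2],0),([1,2,6],2),([1,2,14,10],2),([1,2,4,8,18],0),([3,2,4,8,18,34],0),([75,2,78,8,16,104,66],0),([7,2,4,72,161,38,64,49],33)]
noncomputable def D20017 : Tw := [([],0),([1],0),([1,2],0),([1,2,6],2),([1,2,14,10],2),([1,2,4,8,18],0),([3,2,4,8,18,34],0),([75,2,78,8,16,104,66],0),([7,2,4,72,161,38,64,49],35)]
noncomputable def D20018 : Tw := [([],0),([1],0),([1,2],0),([1,2,6],2),([1,2,14,10],2),([1,2,4,8,18],0),([3,2,4,8,18,34],0),([75,2,78,8,16,104,66],0),([7,2,4,72,161,38,64,51],0)]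
noncomputable def D20019 : Tw := [([],0),([1],0),([1,2],0),([1,2,6],2),([1,2,14,10],2),([1,2,4,8,18],0),([3,2,4,8,18,34],0),([75,2,78,8,16,104,66],0),([7,2,4,72,161,38,64,51],2)]
noncomputable def D20022 : Tw := [([],0),([1],0),([1,2],0),([1,2,6],2),([1,2,14,10],2),([1,2,4,8,18],0),([3,2,4,8,18,34],0),([75,2,78,8,16,104,66],2),([7,2,4,72,128,38,64,16],0)]
noncomputable def D20023 : Tw := [([],0),([1],0),([1,2],0),([1,2,6],2),([1,2,14,10],2),([1,2,4,8,18],0),([3,2,4,8,18,34],0),([75,2,78,8,16,104,66],2),([7,2,4,72,128,38,64,16],2)]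
noncomputable def D20024 : Tw := [([],0),([1],0),([1,2],0),([1,2,6],2),([1,2,14,10],2),([1,2,4,8,18],0),([3,2,4,8,18,34],0),([75,2,78,8,16,104,66],2),([7,2,4,72,128,38,64,18],33)]
noncomputable def D20025 : Tw := [([],0),([1],0),([1,2],0),([1,2,6],2),([1,2,14,10],2),([1,2,4,8,18],0),([3,2,4,8,18,34],0),([75,2,78,8,16,104,66],2),([7,2,4,72,128,38,64,18],35)]
noncomputable def D20028 : Tw := [([],0),([1],0),([1,2],0),([1,2,6],2),([1,2,14,10],2),([1,2,4,8,18],0),([3,2,4,8,18,34],0),([66,2,14,10,81,99,3],0)]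
noncomputable def D20029 : Tw := [([],0),([1],0),([1,2],0),([1,2,6],2),([1,2,14,10],2),([1,2,4,8,18],0),([3,2,4,8,18,34],0),([66,2,14,10,81,99,3],2)]
noncomputable def D20030 : Tw := [([],0),([1],0),([1,2],0),([1,2,6],2),([1,2,14,10],2),([1,2,4,8,18],0),([3,2,4,8,18,34],0),([66,2,14,10,81,99,3],0),([90,2,145,67,81,50,80,7],229)]
noncomputable def D20031 : Tw := [([],0),([1],0),([1,2],0),([1,2,6],2),([1,2,14,10],2),([1,2,4,8,18],0),([3,2,4,8,18,34],0),([66,2,14,10,81,99,3],0),([90,2,145,67,81,50,80,7],231)]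
noncomputable def D20032 : Tw := [([],0),([1],0),([1,2],0),([1,2,6],2),([1,2,14,10],2),([1,2,4,8,18],0),([3,2,4,8,18,34],0),([66,2,14,10,81,99,3],0),([90,2,145,67,81,50,80,5],204)]
noncomputable def D20033 : Tw := [([],0),([1],0),([1,2],0),([1,2,6],2),([1,2,14,10],2),([1,2,4,8,18],0),([3,2,4,8,18,34],0),([66,2,14,10,81,99,3],0),([90,2,145,67,81,50,80,5],206)]
noncomputable def D20034 : Tw := [([],0),([1],0),([1,2],0),([1,2,6],2),([1,2,14,10],2),([1,2,4,8,18],0),([3,2,4,8,18,34],0),([66,2,14,10,81,99,3],0),([90,2,184,67,81,50,80,44],204)]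
noncomputable def D20035 : Tw := [([],0),([1],0),([1,2],0),([1,2,6],2),([1,2,14,10],2),([1,2,4,8,18],0),([3,2,4,8,18,34],0),([66,2,14,10,81,99,3],0),([90,2,184,67,81,50,80,44],206)]
noncomputable def D20036 : Tw := [([],0),([1],0),([1,2],0),([1,2,6],2),([1,2,14,10],2),([1,2,4,8,18],0),([3,2,4,8,18,34],0),([66,2,14,10,81,99,3],0),([90,2,184,67,81,50,80,46],229)]
noncomputable def D20037 : Tw := [([],0),([1],0),([1,2],0),([1,2,6],2),([1,2,14,10],2),([1,2,4,8,18],0),([3,2,4,8,18,34],0),([66,2,14,10,81,99,3],0),([90,2,184,67,81,50,80,46],231)]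
noncomputable def D20038 : Tw := [([],0),([1],0),([1,2],0),([1,2,6],2),([1,2,14,10],2),([1,2,4,8,18],0),([3,2,4,8,18,34],0),([66,2,14,10,81,99,3],0),([90,2,145,67,81,50,80,7],229)]
noncomputable def D20039 : Tw := [([],0),([1],0),([1,2],0),([1,2,6],2),([1,2,14,10],2),([1,2,4,8,18],0),([3,2,4,8,18,34],0),([66,2,14,10,81,99,3],0),([90,2,145,67,81,50,80,7],231)]
noncomputable def D20040 : Tw := [([],0),([1],0),([1,2],0),([1,2,6],2),([1,2,14,10],2),([1,2,4,8,18],0),([3,2,4,8,18,34],0),([66,2,14,10,81,99,3],0),([90,2,145,67,81,50,80,5],204)]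
noncomputable def D20041 : Tw := [([],0),([1],0),([1,2],0),([1,2,6],2),([1,2,14,10],2),([1,2,4,8,18],0),([3,2,4,8,18,34],0),([66,2,14,10,81,99,3],0),([90,2,145,67,81,50,80,5],206)]
noncomputable def D20042 : Tw := [([],0),([1],0),([1,2],0),([1,2,6],2),([1,2,14,10],2),([1,2,4,8,18],0),([3,2,4,8,18,34],0),([66,2,14,10,81,99,3],0),([90,2,184,67,81,50,80,44],204)]
noncomputable def D20043 : Tw := [([],0),([1],0),([1,2],0),([1,2,6],2),([1,2,14,10],2),([1,2,4,8,18],0),([3,2,4,8,18,34],0),([66,2,14,10,81,99,3],0),([90,2,184,67,81,50,80,44],206)]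
noncomputable def D20044 : Tw := [([],0),([1],0),([1,2],0),([1,2,6],2),([1,2,14,10],2),([1,2,4,8,18],0),([3,2,4,8,18,34],0),([66,2,14,10,81,99,3],0),([90,2,184,67,81,50,80,46],229)]
noncomputable def D20045 : Tw := [([],0),([1],0),([1,2],0),([1,2,6],2),([1,2,14,10],2),([1,2,4,8,18],0),([3,2,4,8,18,34],0),([66,2,14,10,81,99,3],0),([90,2,184,67,81,50,80,46],231)]
noncomputable def D20046 : Tw := [([],0),([1],0),([1,2],0),([1,2,6],2),([1,2,14,10],2),([1,2,4,8,18],0),([3,2,4,8,18,34],0),([66,2,14,10,81,99,3],0),([90,2,145,67,81,50,80,7],229)]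
noncomputable def D20047 : Tw := [([],0),([1],0),([1,2],0),([1,2,6],2),([1,2,14,10],2),([1,2,4,8,18],0),([3,2,4,8,18,34],0),([66,2,14,10,81,99,3],0),([90,2,145,67,81,50,80,7],231)]
noncomputable def D20048 : Tw := [([],0),([1],0),([1,2],0),([1,2,6],2),([1,2,14,10],2),([1,2,4,8,18],0),([3,2,4,8,18,34],0),([66,2,14,10,81,99,3],0),([90,2,145,67,81,50,80,5],204)]
noncomputable def D20049 : Tw := [([],0),([1],0),([1,2],0),([1,2,6],2),([1,2,14,10],2),([1,2,4,8,18],0),([3,2,4,8,18,34],0),([66,2,14,10,81,99,3],0),([90,2,145,67,81,50,80,5],206)]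
noncomputable def D20050 : Tw := [([],0),([1],0),([1,2],0),([1,2,6],2),([1,2,14,10],2),([1,2,4,8,18],0),([3,2,4,8,18,34],0),([66,2,14,10,81,99,3],0),([90,2,184,67,81,50,80,44],204)]
noncomputable def D20051 : Tw := [([],0),([1],0),([1,2],0),([1,2,6],2),([1,2,14,10],2),([1,2,4,8,18],0),([3,2,4,8,18,34],0),([66,2,14,10,81,99,3],0),([90,2,184,67,81,50,80,44],206)]
noncomputable def D20052 : Tw := [([],0),([1],0),([1,2],0),([1,2,6],2),([1,2,14,10],2),([1,2,4,8,18],0),([3,2,4,8,18,34],0),([66,2,14,10,81,99,3],0),([90,2,184,67,81,50,80,46],229)]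
noncomputable def D20053 : Tw := [([],0),([1],0),([1,2],0),([1,2,6],2),([1,2,14,10],2),([1,2,4,8,18],0),([3,2,4,8,18,34],0),([66,2,14,10,81,99,3],0),([90,2,184,67,81,50,80,46],231)]
noncomputable def D20054 : Tw := [([],0),([1],0),([1,2],0),([1,2,6],2),([1,2,14,10],2),([1,2,4,8,18],0),([3,2,4,8,18,34],0),([66,2,14,10,81,99,3],0),([90,2,184,67,81,50,80,46],229),([48,2,249,65,89,90,58,78,391],73)]
noncomputable def D20055 : Tw := [([],0),([1],0),([1,2],0),([1,2,6],2),([1,2,14,10],2),([1,2,4,8,18],0),([3,2,4,8,18,34],0),([66,2,14,10,81,99,3],0),([90,2,184,67,81,50,80,46],229),([48,2,249,65,89,90,58,78,391],75)]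
noncomputable def D20056 : Tw := [([],0),([1],0),([1,2],0),([1,2,6],2),([1,2,14,10],2),([1,2,4,8,18],0),([3,2,4,8,18,34],0),([66,2,14,10,81,99,3],0),([90,2,184,67,81,50,80,46],229),([48,2,249,65,89,90,58,78,389],73)]
noncomputable def D20057 : Tw := [([],0),([1],0),([1,2],0),([1,2,6],2),([1,2,14,10],2),([1,2,4,8,18],0),([3,2,4,8,18,34],0),([66,2,14,10,81,99,3],0),([90,2,184,67,81,50,80,46],229),([48,2,249,65,89,90,58,78,389],75)]
noncomputable def D20058 : Tw := [([],0),([1],0),([1,2],0),([1,2,6],2),([1,2,14,10],2),([1,2,4,8,18],0),([3,2,4,8,18,34],0),([66,2,14,10,81,99,3],0),([90,2,184,67,81,50,80,46],231),([48,2,249,65,89,90,58,78,391],73)]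
noncomputable def D20059 : Tw := [([],0),([1],0),([1,2],0),([1,2,6],2),([1,2,14,10],2),([1,2,4,8,18],0),([3,2,4,8,18,34],0),([66,2,14,10,81,99,3],0),([90,2,184,67,81,50,80,46],231),([48,2,249,65,89,90,58,78,391],75)]
noncomputable def D20060 : Tw := [([],0),([1],0),([1,2],0),([1,2,6],2),([1,2,14,10],2),([1,2,4,8,18],0),([3,2,4,8,18,34],0),([66,2,14,10,81,99,3],0),([90,2,184,67,81,50,80,46],231),([48,2,249,65,89,90,58,78,389],73)]
noncomputable def D20061 : Tw := [([],0),([1],0),([1,2],0),([1,2,6],2),([1,2,14,10],2),([1,2,4,8,18],0),([3,2,4,8,18,34],0),([66,2,14,10,81,99,3],0),([90,2,184,67,81,50,80,46],231),([48,2,249,65,89,90,58,78,389],75)]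
noncomputable def D20062 : Tw := [([],0),([1],0),([1,2],0),([1,2,6],2),([1,2,14,10],2),([1,2,4,8,18],0),([3,2,4,8,18,34],0),([66,2,14,10,81,99,3],0),([90,2,145,67,81,50,80,7],229)]
noncomputable def D20063 : Tw := [([],0),([1],0),([1,2],0),([1,2,6],2),([1,2,14,10],2),([1,2,4,8,18],0),([3,2,4,8,18,34],0),([66,2,14,10,81,99,3],0),([90,2,145,67,81,50,80,7],231)]
noncomputable def D20064 : Tw := [([],0),([1],0),([1,2],0),([1,2,6],2),([1,2,14,10],2),([1,2,4,8,18],0),([3,2,4,8,18,34],0),([66,2,14,10,81,99,3],0),([90,2,145,67,81,50,80,5],204)]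
noncomputable def D20065 : Tw := [([],0),([1],0),([1,2],0),([1,2,6],2),([1,2,14,10],2),([1,2,4,8,18],0),([3,2,4,8,18,34],0),([66,2,14,10,81,99,3],0),([90,2,145,67,81,50,80,5],206)]
noncomputable def D20066 : Tw := [([],0),([1],0),([1,2],0),([1,2,6],2),([1,2,14,10],2),([1,2,4,8,18],0),([3,2,4,8,18,34],0),([66,2,14,10,81,99,3],0),([90,2,184,67,81,50,80,44],204)]
noncomputable def D20067 : Tw := [([],0),([1],0),([1,2],0),([1,2,6],2),([1,2,14,10],2),([1,2,4,8,18],0),([3,2,4,8,18,34],0),([66,2,14,10,81,99,3],0),([90,2,184,67,81,50,80,44],206)]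
noncomputable def D20068 : Tw := [([],0),([1],0),([1,2],0),([1,2,6],2),([1,2,14,10],2),([1,2,4,8,18],0),([3,2,4,8,18,34],0),([66,2,14,10,81,99,3],0),([90,2,184,67,81,50,80,46],229)]
noncomputable def D20069 : Tw := [([],0),([1],0),([1,2],0),([1,2,6],2),([1,2,14,10],2),([1,2,4,8,18],0),([3,2,4,8,18,34],0),([66,2,14,10,81,99,3],0),([90,2,184,67,81,50,80,46],231)]
noncomputable def D20070 : Tw := [([],0),([1],0),([1,2],0),([1,2,6],2),([1,2,14,10],2),([1,2,4,8,18],0),([3,2,4,8,18,34],0),([66,2,14,10,81,99,3],0),([90,2,184,67,81,50,80,46],229),([56,2,186,65,16,80,48,7,391],73)]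
noncomputable def D20071 : Tw := [([],0),([1],0),([1,2],0),([1,2,6],2),([1,2,14,10],2),([1,2,4,8,18],0),([3,2,4,8,18,34],0),([66,2,14,10,81,99,3],0),([90,2,184,67,81,50,80,46],229),([56,2,186,65,16,80,48,7,391],75)]
noncomputable def D20072 : Tw := [([],0),([1],0),([1,2],0),([1,2,6],2),([1,2,14,10],2),([1,2,4,8,18],0),([3,2,4,8,18,34],0),([66,2,14,10,81,99,3],0),([90,2,184,67,81,50,80,46],229),([56,2,186,65,16,80,48,7,389],73)]
noncomputable def D20073 : Tw := [([],0),([1],0),([1,2],0),([1,2,6],2),([1,2,14,10],2),([1,2,4,8,18],0),([3,2,4,8,18,34],0),([66,2,14,10,81,99,3],0),([90,2,184,67,81,50,80,46],229),([56,2,186,65,16,80,48,7,389],75)]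
noncomputable def D20074 : Tw := [([],0),([1],0),([1,2],0),([1,2,6],2),([1,2,14,10],2),([1,2,4,8,18],0),([3,2,4,8,18,34],0),([66,2,14,10,81,99,3],0),([90,2,184,67,81,50,80,46],231),([56,2,186,65,16,80,48,7,391],73)]
noncomputable def D20075 : Tw := [([],0),([1],0),([1,2],0),([1,2,6],2),([1,2,14,10],2),([1,2,4,8,18],0),([3,2,4,8,18,34],0),([66,2,14,10,81,99,3],0),([90,2,184,67,81,50,80,46],231),([56,2,186,65,16,80,48,7,391],75)]
noncomputable def D20076 : Tw := [([],0),([1],0),([1,2],0),([1,2,6],2),([1,2,14,10],2),([1,2,4,8,18],0),([3,2,4,8,18,34],0),([66,2,14,10,81,99,3],0),([90,2,184,67,81,50,80,46],231),([56,2,186,65,16,80,48,7,389],73)]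
noncomputable def D20077 : Tw := [([],0),([1],0),([1,2],0),([1,2,6],2),([1,2,14,10],2),([1,2,4,8,18],0),([3,2,4,8,18,34],0),([66,2,14,10,81,99,3],0),([90,2,184,67,81,50,80,46],231),([56,2,186,65,16,80,48,7,389],75)]
noncomputable def D20078 : Tw := [([],0),([1],0),([1,2],0),([1,2,6],2),([1,2,14,10],2),([1,2,4,8,18],0),([3,2,4,8,18,34],0),([106,2,111,10,113,73,66],0)]
noncomputable def D20079 : Tw := [([],0),([1],0),([1,2],0),([1,2,6],2),([1,2,14,10],2),([1,2,4,8,18],0),([3,2,4,8,18,34],0),([106,2,111,10,113,73,66],2)]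
noncomputable def D20080 : Tw := [([],0),([1],0),([1,2],0),([1,2,6],2),([1,2,14,10],2),([1,2,4,8,18],0),([3,2,4,8,18,34],0),([106,2,111,10,113,73,66],2),([122,2,148,105,115,58,33,130],0)]
noncomputable def D20081 : Tw := [([],0),([1],0),([1,2],0),([1,2,6],2),([1,2,14,10],2),([1,2,4,8,18],0),([3,2,4,8,18,34],0),([106,2,111,10,113,73,66],2),([122,2,148,105,115,58,33,128],43)]
noncomputable def D20082 : Tw := [([],0),([1],0),([1,2],0),([1,2,6],2),([1,2,14,10],2),([1,2,4,8,18],0),([3,2,4,8,18,34],0),([106,2,111,10,113,73,66],2),([122,2,189,105,115,58,33,130],43)]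
noncomputable def D20083 : Tw := [([],0),([1],0),([1,2],0),([1,2,6],2),([1,2,14,10],2),([1,2,4,8,18],0),([3,2,4,8,18,34],0),([106,2,111,10,113,73,66],2),([122,2,189,105,115,58,33,128],0)]
noncomputable def D20084 : Tw := [([],0),([1],0),([1,2],0),([1,2,6],2),([1,2,14,10],2),([1,2,4,8,18],0),([3,2,4,8,18,34],0),([106,2,111,10,113,73,66],2),([122,2,148,105,115,58,33,130],0),([7,2,4,105,128,38,64,16,497],0)]
noncomputable def D20085 : Tw := [([],0),([1],0),([1,2],0),([1,2,6],2),([1,2,14,10],2),([1,2,4,8,18],0),([3,2,4,8,18,34],0),([106,2,111,10,113,73,66],2),([122,2,148,105,115,58,33,130],0),([7,2,4,105,128,38,64,16,497],2)]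
noncomputable def D20086 : Tw := [([],0),([1],0),([1,2],0),([1,2,6],2),([1,2,14,10],2),([1,2,4,8,18],0),([3,2,4,8,18,34],0),([106,2,111,10,113,73,66],2),([122,2,148,105,115,58,33,130],0),([7,2,4,105,128,38,64,16,499],0)]
noncomputable def D20087 : Tw := [([],0),([1],0),([1,2],0),([1,2,6],2),([1,2,14,10],2),([1,2,4,8,18],0),([3,2,4,8,18,34],0),([106,2,111,10,113,73,66],2),([122,2,148,105,115,58,33,130],0),([7,2,4,105,128,38,64,16,499],2)]
noncomputable def D20088 : Tw := [([],0),([1],0),([1,2],0),([1,2,6],2),([1,2,14,10],2),([1,2,4,8,18],0),([3,2,4,8,18,34],0),([106,2,111,10,113,73,66],2),([122,2,148,105,115,58,33,130],0),([7,2,4,105,128,38,64,16,497],0),([32,2,4,8,113,1,64,225,355,514],0)]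
noncomputable def D20089 : Tw := [([],0),([1],0),([1,2],0),([1,2,6],2),([1,2,14,10],2),([1,2,4,8,18],0),([3,2,4,8,18,34],0),([106,2,111,10,113,73,66],2),([122,2,148,105,115,58,33,130],0),([7,2,4,105,128,38,64,16,497],0),([32,2,4,8,113,1,64,225,355,514],2)]
noncomputable def D20090 : Tw := [([],0),([1],0),([1,2],0),([1,2,6],2),([1,2,14,10],2),([1,2,4,8,18],0),([3,2,4,8,18,34],0),([106,2,111,10,113,73,66],2),([122,2,148,105,115,58,33,130],0),([7,2,4,105,128,38,64,16,497],0),([32,2,4,8,113,1,64,225,355,512],0)]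
noncomputable def D20091 : Tw := [([],0),([1],0),([1,2],0),([1,2,6],2),([1,2,14,10],2),([1,2,4,8,18],0),([3,2,4,8,18,34],0),([106,2,111,10,113,73,66],2),([122,2,148,105,115,58,33,130],0),([7,2,4,105,128,38,64,16,497],0),([32,2,4,8,113,1,64,225,355,512],2)]
noncomputable def D20092 : Tw := [([],0),([1],0),([1,2],0),([1,2,6],2),([1,2,14,10],2),([1,2,4,8,18],0),([3,2,4,8,18,34],0),([106,2,111,10,113,73,66],2),([122,2,148,105,115,58,33,130],0),([7,2,4,105,128,38,64,16,497],0),([32,2,4,8,113,1,64,225,353,514],0)]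
noncomputable def D20093 : Tw := [([],0),([1],0),([1,2],0),([1,2,6],2),([1,2,14,10],2),([1,2,4,8,18],0),([3,2,4,8,18,34],0),([106,2,111,10,113,73,66],2),([122,2,148,105,115,58,33,130],0),([7,2,4,105,128,38,64,16,497],0),([32,2,4,8,113,1,64,225,353,514],2)]
noncomputable def D20094 : Tw := [([],0),([1],0),([1,2],0),([1,2,6],2),([1,2,14,10],2),([1,2,4,8,18],0),([3,2,4,8,18,34],0),([106,2,111,10,113,73,66],2),([122,2,148,105,115,58,33,130],0),([7,2,4,105,128,38,64,16,497],0),([32,2,4,8,113,1,64,225,353,512],0)]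
noncomputable def D20095 : Tw := [([],0),([1],0),([1,2],0),([1,2,6],2),([1,2,14,10],2),([1,2,4,8,18],0),([3,2,4,8,18,34],0),([106,2,111,10,113,73,66],2),([122,2,148,105,115,58,33,130],0),([7,2,4,105,128,38,64,16,497],0),([32,2,4,8,113,1,64,225,353,512],2)]
noncomputable def D20096 : Tw := [([],0),([1],0),([1,2],0),([1,2,6],2),([1,2,14,10],2),([1,2,4,8,18],0),([3,2,4,8,18,34],0),([106,2,111,10,113,73,66],2),([122,2,148,105,115,58,33,130],0),([7,2,4,105,128,38,64,16,497],0),([32,2,4,8,113,1,64,225,355,514],0)]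
noncomputable def D20097 : Tw := [([],0),([1],0),([1,2],0),([1,2,6],2),([1,2,14,10],2),([1,2,4,8,18],0),([3,2,4,8,18,34],0),([106,2,111,10,113,73,66],2),([122,2,148,105,115,58,33,130],0),([7,2,4,105,128,38,64,16,497],0),([32,2,4,8,113,1,64,225,355,514],2)]
noncomputable def D20098 : Tw := [([],0),([1],0),([1,2],0),([1,2,6],2),([1,2,14,10],2),([1,2,4,8,18],0),([3,2,4,8,18,34],0),([106,2,111,10,113,73,66],2),([122,2,148,105,115,58,33,130],0),([7,2,4,105,128,38,64,16,497],0),([32,2,4,8,113,1,64,225,355,512],0)]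
noncomputable def D20099 : Tw := [([],0),([1],0),([1,2],0),([1,2,6],2),([1,2,14,10],2),([1,2,4,8,18],0),([3,2,4,8,18,34],0),([106,2,111,10,113,73,66],2),([122,2,148,105,115,58,33,130],0),([7,2,4,105,128,38,64,16,497],0),([32,2,4,8,113,1,64,225,355,512],2)]
noncomputable def D20100 : Tw := [([],0),([1],0),([1,2],0),([1,2,6],2),([1,2,14,10],2),([1,2,4,8,18],0),([3,2,4,8,18,34],0),([106,2,111,10,113,73,66],2),([122,2,148,105,115,58,33,130],0),([7,2,4,105,128,38,64,16,497],0),([32,2,4,8,113,1,64,225,353,514],0)]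
noncomputable def D20101 : Tw := [([],0),([1],0),([1,2],0),([1,2,6],2),([1,2,14,10],2),([1,2,4,8,18],0),([3,2,4,8,18,34],0),([106,2,111,10,113,73,66],2),([122,2,148,105,115,58,33,130],0),([7,2,4,105,128,38,64,16,497],0),([32,2,4,8,113,1,64,225,353,514],2)]
noncomputable def D20102 : Tw := [([],0),([1],0),([1,2],0),([1,2,6],2),([1,2,14,10],2),([1,2,4,8,18],0),([3,2,4,8,18,34],0),([106,2,111,10,113,73,66],2),([122,2,148,105,115,58,33,130],0),([7,2,4,105,128,38,64,16,497],0),([32,2,4,8,113,1,64,225,353,512],0)]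
noncomputable def D20103 : Tw := [([],0),([1],0),([1,2],0),([1,2,6],2),([1,2,14,10],2),([1,2,4,8,18],0),([3,2,4,8,18,34],0),([106,2,111,10,113,73,66],2),([122,2,148,105,115,58,33,130],0),([7,2,4,105,128,38,64,16,497],0),([32,2,4,8,113,1,64,225,353,512],2)]
noncomputable def D20104 : Tw := [([],0),([1],0),([1,2],0),([1,2,6],2),([1,2,14,10],2),([1,2,4,8,18],0),([3,2,4,8,18,34],0),([106,2,111,10,113,73,66],2),([122,2,148,105,115,58,33,130],0),([7,2,4,105,128,38,64,16,499],0),([32,2,4,8,113,1,64,225,355,514],0)]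
noncomputable def D20105 : Tw := [([],0),([1],0),([1,2],0),([1,2,6],2),([1,2,14,10],2),([1,2,4,8,18],0),([3,2,4,8,18,34],0),([106,2,111,10,113,73,66],2),([122,2,148,105,115,58,33,130],0),([7,2,4,105,128,38,64,16,499],0),([32,2,4,8,113,1,64,225,355,514],2)]
noncomputable def D20106 : Tw := [([],0),([1],0),([1,2],0),([1,2,6],2),([1,2,14,10],2),([1,2,4,8,18],0),([3,2,4,8,18,34],0),([106,2,111,10,113,73,66],2),([122,2,148,105,115,58,33,130],0),([7,2,4,105,128,38,64,16,499],0),([32,2,4,8,113,1,64,225,355,512],0)]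
noncomputable def D20107 : Tw := [([],0),([1],0),([1,2],0),([1,2,6],2),([1,2,14,10],2),([1,2,4,8,18],0),([3,2,4,8,18,34],0),([106,2,111,10,113,73,66],2),([122,2,148,105,115,58,33,130],0),([7,2,4,105,128,38,64,16,499],0),([32,2,4,8,113,1,64,225,355,512],2)]
noncomputable def D20108 : Tw := [([],0),([1],0),([1,2],0),([1,2,6],2),([1,2,14,10],2),([1,2,4,8,18],0),([3,2,4,8,18,34],0),([106,2,111,10,113,73,66],2),([122,2,148,105,115,58,33,130],0),([7,2,4,105,128,38,64,16,499],0),([32,2,4,8,113,1,64,225,353,514],0)]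
noncomputable def D20109 : Tw := [([],0),([1],0),([1,2],0),([1,2,6],2),([1,2,14,10],2),([1,2,4,8,18],0),([3,2,4,8,18,34],0),([106,2,111,10,113,73,66],2),([122,2,148,105,115,58,33,130],0),([7,2,4,105,128,38,64,16,499],0),([32,2,4,8,113,1,64,225,353,514],2)]
noncomputable def D20110 : Tw := [([],0),([1],0),([1,2],0),([1,2,6],2),([1,2,14,10],2),([1,2,4,8,18],0),([3,2,4,8,18,34],0),([106,2,111,10,113,73,66],2),([122,2,148,105,115,58,33,130],0),([7,2,4,105,128,38,64,16,499],0),([32,2,4,8,113,1,64,225,353,512],0)]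
noncomputable def D20111 : Tw := [([],0),([1],0),([1,2],0),([1,2,6],2),([1,2,14,10],2),([1,2,4,8,18],0),([3,2,4,8,18,34],0),([106,2,111,10,113,73,66],2),([122,2,148,105,115,58,33,130],0),([7,2,4,105,128,38,64,16,499],0),([32,2,4,8,113,1,64,225,353,512],2)]
noncomputable def D20112 : Tw := [([],0),([1],0),([1,2],0),([1,2,6],2),([1,2,14,10],2),([1,2,4,8,18],0),([3,2,4,8,18,34],0),([106,2,111,10,113,73,66],2),([122,2,148,105,115,58,33,130],0),([7,2,4,105,128,38,64,16,499],0),([32,2,4,8,113,1,64,225,355,514],0)]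
noncomputable def D20113 : Tw := [([],0),([1],0),([1,2],0),([1,2,6],2),([1,2,14,10],2),([1,2,4,8,18],0),([3,2,4,8,18,34],0),([106,2,111,10,113,73,66],2),([122,2,148,105,115,58,33,130],0),([7,2,4,105,128,38,64,16,499],0),([32,2,4,8,113,1,64,225,355,514],2)]
noncomputable def D20114 : Tw := [([],0),([1],0),([1,2],0),([1,2,6],2),([1,2,14,10],2),([1,2,4,8,18],0),([3,2,4,8,18,34],0),([106,2,111,10,113,73,66],2),([122,2,148,105,115,58,33,130],0),([7,2,4,105,128,38,64,16,499],0),([32,2,4,8,113,1,64,225,355,512],0)]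
noncomputable def D20115 : Tw := [([],0),([1],0),([1,2],0),([1,2,6],2),([1,2,14,10],2),([1,2,4,8,18],0),([3,2,4,8,18,34],0),([106,2,111,10,113,73,66],2),([122,2,148,105,115,58,33,130],0),([7,2,4,105,128,38,64,16,499],0),([32,2,4,8,113,1,64,225,355,512],2)]
noncomputable def D20116 : Tw := [([],0),([1],0),([1,2],0),([1,2,6],2),([1,2,14,10],2),([1,2,4,8,18],0),([3,2,4,8,18,34],0),([106,2,111,10,113,73,66],2),([122,2,148,105,115,58,33,130],0),([7,2,4,105,128,38,64,16,499],0),([32,2,4,8,113,1,64,225,353,514],0)]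
noncomputable def D20117 : Tw := [([],0),([1],0),([1,2],0),([1,2,6],2),([1,2,14,10],2),([1,2,4,8,18],0),([3,2,4,8,18,34],0),([106,2,111,10,113,73,66],2),([122,2,148,105,115,58,33,130],0),([7,2,4,105,128,38,64,16,499],0),([32,2,4,8,113,1,64,225,353,514],2)]
noncomputable def D20118 : Tw := [([],0),([1],0),([1,2],0),([1,2,6],2),([1,2,14,10],2),([1,2,4,8,18],0),([3,2,4,8,18,34],0),([106,2,111,10,113,73,66],2),([122,2,148,105,115,58,33,130],0),([7,2,4,105,128,38,64,16,499],0),([32,2,4,8,113,1,64,225,353,512],0)]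
noncomputable def D20119 : Tw := [([],0),([1],0),([1,2],0),([1,2,6],2),([1,2,14,10],2),([1,2,4,8,18],0),([3,2,4,8,18,34],0),([106,2,111,10,113,73,66],2),([122,2,148,105,115,58,33,130],0),([7,2,4,105,128,38,64,16,499],0),([32,2,4,8,113,1,64,225,353,512],2)]
noncomputable def D20120 : Tw := [([],0),([1],0),([1,2],0),([1,2,6],2),([1,2,14,10],2),([1,2,4,8,18],0),([3,2,4,8,18,34],0),([106,2,111,10,113,73,66],2),([122,2,189,105,115,58,33,128],0),([58,2,148,105,16,122,33,227,256],43)]
noncomputable def D20121 : Tw := [([],0),([1],0),([1,2],0),([1,2,6],2),([1,2,14,10],2),([1,2,4,8,18],0),([3,2,4,8,18,34],0),([106,2,111,10,113,73,66],2),([122,2,189,105,115,58,33,128],0),([58,2,148,105,16,122,33,227,256],41)]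
noncomputable def D20122 : Tw := [([],0),([1],0),([1,2],0),([1,2,6],2),([1,2,14,10],2),([1,2,4,8,18],0),([3,2,4,8,18,34],0),([106,2,111,10,113,73,66],2),([122,2,189,105,115,58,33,128],0),([58,2,148,105,16,122,33,227,258],43)]
noncomputable def D20123 : Tw := [([],0),([1],0),([1,2],0),([1,2,6],2),([1,2,14,10],2),([1,2,4,8,18],0),([3,2,4,8,18,34],0),([106,2,111,10,113,73,66],2),([122,2,189,105,115,58,33,128],0),([58,2,148,105,16,122,33,227,258],41)]
noncomputable def D20124 : Tw := [([],0),([1],0),([1,2],0),([1,2,6],2),([1,2,14,10],2),([1,2,4,8,18],0),([3,2,4,8,18,34],0),([106,2,111,10,113,73,66],2),([122,2,189,105,115,58,33,128],0),([58,2,189,105,16,122,33,227,256],0)]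
noncomputable def D20125 : Tw := [([],0),([1],0),([1,2],0),([1,2,6],2),([1,2,14,10],2),([1,2,4,8,18],0),([3,2,4,8,18,34],0),([106,2,111,10,113,73,66],2),([122,2,189,105,115,58,33,128],0),([58,2,189,105,16,122,33,227,256],2)]
noncomputable def D20126 : Tw := [([],0),([1],0),([1,2],0),([1,2,6],2),([1,2,14,10],2),([1,2,4,8,18],0),([3,2,4,8,18,34],0),([106,2,111,10,113,73,66],2),([122,2,189,105,115,58,33,128],0),([58,2,189,105,16,122,33,227,258],0)]
noncomputable def D20127 : Tw := [([],0),([1],0),([1,2],0),([1,2,6],2),([1,2,14,10],2),([1,2,4,8,18],0),([3,2,4,8,18,34],0),([106,2,111,10,113,73,66],2),([122,2,189,105,115,58,33,128],0),([58,2,189,105,16,122,33,227,258],2)]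
noncomputable def D20128 : Tw := [([],0),([1],0),([1,2],0),([1,2,6],2),([1,2,14,10],2),([1,2,4,8,18],0),([3,2,4,8,18,34],0),([106,2,111,10,113,73,66],2),([122,2,189,105,115,58,33,128],0),([56,2,148,105,18,120,33,225,355],74)]
noncomputable def D20129 : Tw := [([],0),([1],0),([1,2],0),([1,2,6],2),([1,2,14,10],2),([1,2,4,8,18],0),([3,2,4,8,18,34],0),([106,2,111,10,113,73,66],2),([122,2,189,105,115,58,33,128],0),([56,2,148,105,18,120,33,225,355],72)]
noncomputable def D20130 : Tw := [([],0),([1],0),([1,2],0),([1,2,6],2),([1,2,14,10],2),([1,2,4,8,18],0),([3,2,4,8,18,34],0),([106,2,111,10,113,73,66],2),([122,2,189,105,115,58,33,128],0),([56,2,148,105,18,120,33,225,353],74)]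
noncomputable def D20131 : Tw := [([],0),([1],0),([1,2],0),([1,2,6],2),([1,2,14,10],2),([1,2,4,8,18],0),([3,2,4,8,18,34],0),([106,2,111,10,113,73,66],2),([122,2,189,105,115,58,33,128],0),([56,2,148,105,18,120,33,225,353],72)]
noncomputable def D20132 : Tw := [([],0),([1],0),([1,2],0),([1,2,6],2),([1,2,14,10],2),([1,2,4,8,18],0),([3,2,4,8,18,34],0),([106,2,111,10,113,73,66],2),([122,2,189,105,115,58,33,128],0),([56,2,189,105,18,120,33,225,355],97)]
noncomputable def D20133 : Tw := [([],0),([1],0),([1,2],0),([1,2,6],2),([1,2,14,10],2),([1,2,4,8,18],0),([3,2,4,8,18,34],0),([106,2,111,10,113,73,66],2),([122,2,189,105,115,58,33,128],0),([56,2,189,105,18,120,33,225,355],99)]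
noncomputable def D20134 : Tw := [([],0),([1],0),([1,2],0),([1,2,6],2),([1,2,14,10],2),([1,2,4,8,18],0),([3,2,4,8,18,34],0),([106,2,111,10,113,73,66],2),([122,2,189,105,115,58,33,128],0),([56,2,189,105,18,120,33,225,353],97)]
noncomputable def D20135 : Tw := [([],0),([1],0),([1,2],0),([1,2,6],2),([1,2,14,10],2),([1,2,4,8,18],0),([3,2,4,8,18,34],0),([106,2,111,10,113,73,66],2),([122,2,189,105,115,58,33,128],0),([56,2,189,105,18,120,33,225,353],99)]
noncomputable def D20136 : Tw := [([],0),([1],0),([1,2],0),([1,2,6],2),([1,2,14,10],2),([1,2,4,8,18],0),([3,2,4,8,18,34],0),([106,2,111,10,113,73,66],2),([122,2,189,105,115,58,33,128],0),([56,2,189,105,18,120,33,225,355],99),([7,2,4,105,128,38,64,18,617,363],33)]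
noncomputable def D20137 : Tw := [([],0),([1],0),([1,2],0),([1,2,6],2),([1,2,14,10],2),([1,2,4,8,18],0),([3,2,4,8,18,34],0),([106,2,111,10,113,73,66],2),([122,2,189,105,115,58,33,128],0),([56,2,189,105,18,120,33,225,355],99),([7,2,4,105,128,38,64,18,617,363],35)]
noncomputable def D20138 : Tw := [([],0),([1],0),([1,2],0),([1,2,6],2),([1,2,14,10],2),([1,2,4,8,18],0),([3,2,4,8,18,34],0),([106,2,111,10,113,73,66],2),([122,2,189,105,115,58,33,128],0),([56,2,189,105,18,120,33,225,355],99),([7,2,4,105,128,38,64,18,619,361],33)]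
noncomputable def D20139 : Tw := [([],0),([1],0),([1,2],0),([1,2,6],2),([1,2,14,10],2),([1,2,4,8,18],0),([3,2,4,8,18,34],0),([106,2,111,10,113,73,66],2),([122,2,189,105,115,58,33,128],0),([56,2,189,105,18,120,33,225,355],99),([7,2,4,105,128,38,64,18,619,361],35)]
noncomputable def D20140 : Tw := [([],0),([1],0),([1,2],0),([1,2,6],2),([1,2,14,10],2),([1,2,4,8,18],0),([3,2,4,8,18,34],0),([97,2,12,10,16,64,32],0)]
noncomputable def D20141 : Tw := [([],0),([1],0),([1,2],0),([1,2,6],2),([1,2,14,10],2),([1,2,4,8,18],0),([3,2,4,8,18,34],0),([97,2,12,10,16,64,32],2)]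
noncomputable def D20142 : Tw := [([],0),([1],0),([1,2],0),([1,2,6],2),([1,2,14,10],2),([1,2,4,8,18],0),([3,2,4,8,18,34],0),([97,2,12,10,16,64,32],0),([177,2,122,10,108,250,154,68],208)]
noncomputable def D20143 : Tw := [([],0),([1],0),([1,2],0),([1,2,6],2),([1,2,14,10],2),([1,2,4,8,18],0),([3,2,4,8,18,34],0),([97,2,12,10,16,64,32],0),([177,2,122,10,108,250,154,68],210)]
noncomputable def D20144 : Tw := [([],0),([1],0),([1,2],0),([1,2,6],2),([1,2,14,10],2),([1,2,4,8,18],0),([3,2,4,8,18,34],0),([97,2,12,10,16,64,32],0),([248,2,51,10,77,179,209,68],243)]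
noncomputable def D20145 : Tw := [([],0),([1],0),([1,2],0),([1,2,6],2),([1,2,14,10],2),([1,2,4,8,18],0),([3,2,4,8,18,34],0),([97,2,12,10,16,64,32],0),([248,2,51,10,77,179,209,68],241)]
noncomputable def D20146 : Tw := [([],0),([1],0),([1,2],0),([1,2,6],2),([1,2,14,10],2),([1,2,4,8,18],0),([3,2,4,8,18,34],0),([97,2,12,10,16,64,32],0),([49,2,177,96,72,122,112,15],48)]
noncomputable def D20147 : Tw := [([],0),([1],0),([1,2],0),([1,2,6],2),([1,2,14,10],2),([1,2,4,8,18],0),([3,2,4,8,18,34],0),([97,2,12,10,16,64,32],0),([49,2,177,96,72,122,112,15],50)]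
noncomputable def D20148 : Tw := [([],0),([1],0),([1,2],0),([1,2,6],2),([1,2,14,10],2),([1,2,4,8,18],0),([3,2,4,8,18,34],0),([97,2,12,10,16,64,32],0),([120,2,248,96,105,51,59,15],19)]
noncomputable def D20149 : Tw := [([],0),([1],0),([1,2],0),([1,2,6],2),([1,2,14,10],2),([1,2,4,8,18],0),([3,2,4,8,18,34],0),([97,2,12,10,16,64,32],0),([120,2,248,96,105,51,59,15],17)]
noncomputable def Z20004104 : ℕ := 0x500000a000000000500000a0000505050000000a00050550550000a0aa
noncomputable def Z20005970 : ℕ := 0xa00a000050050000a00a000050050000000000aa00000055000000aa000000550000000a00050000000a0000000000050a000000000000050000000a05000000a0a0000050500000a0a00000505000000000a0aa000050550000a0aa000050550000000000000000000000000000000000000000000000000000000000000000a00a000050050000a00a000050050000000000aa00000055000000aa00000055000a000a0000000000000000000500050a00000a000000000000000005000005a0a0000050500505a0a00a0a505000000000a0aa050550550a0aa0aa00005054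
noncomputable def L20004537 : ℕ := 0x2222222222222222888888888888888822222222222222228888888888888888222222222222222288888888888888882222222222222222888888888888888822222222222222228888888888888888222222222222222288888888888888882222222222222222888888888888888822222222222222228888888888888888222222222222222288888888888888882222222222222222888888888888888822222222222222228888888888888888222222222222222288888888888888882222222222222222888888888888888822222222222222228888888888888888222222222222222288888888888888882222222222222222888888888888888822222222222222228888888888888888222222222222222288888888888888882222222222222222888888888888888822222222222222228888888888888888222222222222222288888888888888882222222222222222888888888888888822222222222222228888888888888888222222222222222288888888888888882222222222222222888888888888888822222222222222228888888888888888222222222222222288888888888888882222222222222222888888888888888822222222222222228888888888888888222222222222222288888888888888882222222222222222888888888888888822222222222222228888888888888888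
noncomputable def L20004563 : ℕ := 0xaaaaaaaaaaaaaaaaaaaaaaaaaaaaaaaaaaaaaaaaaaaaaaaaaaaaaaaaaaaaaaaaaaaaaaaaaaaaaaaaaaaaaaaaaaaaaaaaaaaaaaaaaaaaaaaaaaaaaaaaaaaaaaaaaaaaaaaaaaaaaaaaaaaaaaaaaaaaaaaaaaaaaaaaaaaaaaaaaaaaaaaaaaaaaaaaaaaaaaaaaaaaaaaaaaaaaaaaaaaaaaaaaaaaaaaaaaaaaaaaaaaaaaaaaaaaaaaaaaaaaaaaaaaaaaaaaaaaaaaaaaaaaaaaaaaaaaaaaaaaaaaaaaaaaaaaaaaaaaaaaaaaaaaaaaaaaaaaaaaaaaaaaaaaaaaaaaaaaaaaaaaaaaaaaaaaaaaaaaaaaaaaaaaaaaaaaaaaaaaaaaaaaaaaaaaaaaaaaaaaaaaaaaaaaaaaaaaaaaaaaaaaaaaaaaaaaaaaaaaaaaaaaaaaaaaaaaaaaaaaaaaaaaaaaaaaaaaaaaaaaaaaaaaaaaaa00000000000000000000000000000000000000000000000000000000000000000000000000000000000000000000000000000000000000000000000000000000000000000000000000000000000000000000000000000000000000000000000000000000000000000000000000000000000000000000000000000000000000000000000000000000000000000000000000000000000000000000000000000000000000000000000000000000000000000000000000000000000000000000000000000000000000000000000000000000000000000000000000000000000000000000000000000000000000000000000000000000000000000000000000000000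
noncomputable def L20004571 : ℕ := 0xdddddddddddddddddddddddddddddddd77777777777777777777777777777777dddddddddddddddddddddddddddddddd7777777777777777777777777777777777777777777777777777777777777777dddddddddddddddddddddddddddddddd77777777777777777777777777777777dddddddddddddddddddddddddddddddd77777777777777777777777777777777dddddddddddddddddddddddddddddddd77777777777777777777777777777777dddddddddddddddddddddddddddddddddddddddddddddddddddddddddddddddd77777777777777777777777777777777dddddddddddddddddddddddddddddddd777777777777777777777777777777770000000000000000aaaaaaaaaaaaaaaaaaaaaaaaaaaaaaaa00000000000000000000000000000000aaaaaaaaaaaaaaaaaaaaaaaaaaaaaaaa0000000000000000aaaaaaaaaaaaaaaa00000000000000000000000000000000aaaaaaaaaaaaaaaaaaaaaaaaaaaaaaaa00000000000000000000000000000000aaaaaaaaaaaaaaaaaaaaaaaaaaaaaaaa00000000000000000000000000000000aaaaaaaaaaaaaaaaaaaaaaaaaaaaaaaa00000000000000000000000000000000aaaaaaaaaaaaaaaa0000000000000000aaaaaaaaaaaaaaaaaaaaaaaaaaaaaaaa00000000000000000000000000000000aaaaaaaaaaaaaaaaaaaaaaaaaaaaaaaa0000000000000000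
noncomputable def Z20004452 : ℕ := 0xa0a000000000050500000a0a505000000000a0a0050500000a0a000000005050a00a000050050000a00a000050050000000000aa00000055000000aa000000550000000a00050000000a0000000000050a000000000000050000000a05000000a0a0000050500000a0a00000505000000000a0aa000050550000a0aa000050550000000050500505a0a00a0a0000000000000000050550500a0aa0a000000000a00a000050050000a00a000050050000000000aa00000055000000aa00000055000a000a0000000000000000000500050a00000a000000000000000005000005a0a0000050500505a0a00a0a505000000000a0aa050550550a0aa0aa00005054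
noncomputable def Z20004540 : ℕ := 0xa0a000000000050500000a0a505000000000a0a0050500000a0a000000005050a00a000050050000a00a000050050000000000aa00000055000000aa000000550000000a00050000000a0000000000050a000000000000050000000a05000000a0a0000050500000a0a00000505000000000a0aa000050550000a0aa000050550000000050500505a0a00a0a0000000000000000050550500a0aa0a000000000a00a000050050000a00a000050050000000000aa00000055000000aa00000055000a000a0000000000000000000500050a00000a000000000000000005000005a0a0000050500505a0a00a0a505000000000a0a0050550500a0aa0a000005050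
noncomputable def L20004314 : ℕ := 0x22222222222222228888888888888888222222222222222288888888888888882222222222222222888888888888888822222222222222228888888888888888222222222222222288888888888888882222222222222222888888888888888822222222222222228888888888888888222222222222222288888888888888882222222222222222888888888888888822222222222222228888888888888888222222222222222288888888888888882222222222222222888888888888888822222222222222228888888888888888222222222222222288888888888888882222222222222222888888888888888822222222222222228888888888888888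
noncomputable def L20004321 : ℕ := 0x22222222222222222222222222222222888888888888888888888888888888882222222222222222222222222222222288888888888888888888888888888888888888888888888888888888888888882222222222222222222222222222222288888888888888888888888888888888222222222222222222222222222222228888888888888888888888888888888822222222222222222222222222222222888888888888888888888888888888882222222222222222222222222222222222222222222222222222222222222222888888888888888888888888888888882222222222222222222222222222222288888888888888888888888888888888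
noncomputable def L20004333 : ℕ := 0xaaaaaaaaaaaaaaaaaaaaaaaaaaaaaaaa00000000000000000000000000000000aaaaaaaaaaaaaaaaaaaaaaaaaaaaaaaa00000000000000000000000000000000aaaaaaaaaaaaaaaaaaaaaaaaaaaaaaaa00000000000000000000000000000000aaaaaaaaaaaaaaaaaaaaaaaaaaaaaaaa00000000000000000000000000000000aaaaaaaaaaaaaaaaaaaaaaaaaaaaaaaa00000000000000000000000000000000aaaaaaaaaaaaaaaaaaaaaaaaaaaaaaaa00000000000000000000000000000000aaaaaaaaaaaaaaaaaaaaaaaaaaaaaaaa00000000000000000000000000000000aaaaaaaaaaaaaaaaaaaaaaaaaaaaaaaa0000000000000000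
noncomputable def Z20004050 : ℕ := 0x50500505a0a00a0a0000000000000000050550500a0aa0a000000000a00a000050050000a00a000050050000000000aa00000055000000aa00000055000a000a0000000000000000000500050a00000a000000000000000005000005a0a000005050a505a0a00a5a505000000000a0aa05055a550f0ff0ff00005054
noncomputable def Z20004325 : ℕ := 0x5000000000000000000000a0000505050000000000000000000000a0aa
noncomputable def Z20005553 : ℕ := 0xa00a000050050000a00a000050050000000000aa00000055000000aa00000055000a000a0000000000000000000500050a00000a000000000000000005000005a0a000005050a505a0a00a5a505000000000a0aa05055a550f0ff0ff00005054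
noncomputable def Z20000421 : ℕ := 0xa0a0000000000000a0a00505050000000a00050550550000a0aa
noncomputable def Z20000456 : ℕ := 0xa00a000050050000a00a000050050000000000aa00000055000000aa000000550000000a0000a5a000000a000000a0a50505a5aa050550550f0ff0ff00005054
noncomputable def L20003165 : ℕ := 0x22222222222222228888888888888888888888888888888822222222222222228888888888888888222222222222222222222222222222228888888888888888222222222222222288888888888888888888888888888888222222222222222288888888888888882222222222222222222222222222222288888888888888882222222222222222888888888888888888888888888888882222222222222222888888888888888822222222222222222222222222222222888888888888888822222222222222228888888888888888888888888888888822222222222222228888888888888888222222222222222222222222222222228888888888888888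
noncomputable def Z20002941 : ℕ := 0x50500000a0a00000a0a000005050000a0aa05055055050550550000a0aa
noncomputable def Z20003006 : ℕ := 0x50505000a0aa0aa0a0aa0aa05050500a0aa00005055000050550000a0aa0000a000a0000050005000500050a000a00005000500000a000a000a000a0500050000000000000a000a0000000005000500a000a0000000000000500050000000000a0000005055000005000000a0aa00000505050000000a000a0aa0aa00005054
noncomputable def Z20003308 : ℕ := 0xa00050500000a0a05000a0a000005050000a0aa05055a55050550550000f0fe
noncomputable def Z20003338 : ℕ := 0x50505000a0aa0aa0a0aa0aa05050500a0aa00005055000050550000a0aa0000a000a0000050005000500050a000a00005000500000a000a000a000a0500050000000000000a000a0000000005000500a000a0000000000000500050000000000000050550550a0a00000a0aa0aa05050505a5aa050550550f0ff0ff0000a0aa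
noncomputable def Z20003404 : ℕ := 0xffffafaffffff5fffffff5ffffffafaff5fffffffafffffffafffffff5fffffffffffffffffffffffffffffffffffffffffffffffffffffffffffffffffffffffafffafffffffffffff5fff5ffffffffffffffffffafffafffffffff5fff5fff5f55fffffaffffffafaafffff5ffffffffffafaff5f55f55fffff5fffafafaff
noncomputable def L20007841 : ℕ := 0x8888888888888888888888888888888888888888888888888888888888888888888888888888888888888888888888888888888888888888888888888888888888888888888888888888888888888888888888888888888888888888888888888888888888888888888888888888888888888888888888888888888888888888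
noncomputable def L20007854 : ℕ := 0x2222222222222222888888888888888888888888888888882222222222222222888888888888888822222222222222222222222222222222888888888888888822222222222222228888888888888888888888888888888822222222222222228888888888888888222222222222222222222222222222228888888888888888
noncomputable def Z20007595 : ℕ := 0xa0aa0a00a0aa0a000000000a0a00a0a0000000000000000a0a00a0a55500505000a0a0a000a0a0a555005050000a0aa05055055050550550000a0aa
noncomputable def Z20007610 : ℕ := 0xa0aa0a00a0aa0a000000000a0a00a0a0000000000000000a0a00a0a555005050000000000000000555005050505050005055a550f0ff0ff00005054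
noncomputable def Z20007820 : ℕ := 0xa0a0a000a0a0a000000000000a0aa00000000000000000000a0aa
noncomputable def L20001223 : ℕ := 0x2222222222222222888888888888888822222222222222228888888888888888222222222222222288888888888888882222222222222222888888888888888822222222222222228888888888888888222222222222222288888888888888882222222222222222888888888888888822222222222222228888888888888888
noncomputable def L20001230 : ℕ := 0x2222222222222222222222222222222222222222222222222222222222222222222222222222222222222222222222222222222222222222222222222222222288888888888888888888888888888888888888888888888888888888888888888888888888888888888888888888888888888888888888888888888888888888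
noncomputable def L20001246 : ℕ := 0xaaaaaaaaaaaaaaaa0000000000000000aaaaaaaaaaaaaaaa0000000000000000aaaaaaaaaaaaaaaa0000000000000000aaaaaaaaaaaaaaaa0000000000000000aaaaaaaaaaaaaaaa0000000000000000aaaaaaaaaaaaaaaa0000000000000000aaaaaaaaaaaaaaaa0000000000000000aaaaaaaaaaaaaaaa0000000000000000
noncomputable def Z20000974 : ℕ := 0x50500000000000005050000000000505050000000a00050550550000a0aa
noncomputable def Z20001017 : ℕ := 0xa00a000050050000a00a000050050000000000aa00000055000000aa000000550a0a5a50050500050a0a505a050505000505a5aa050550550f0ff0ff00005054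
noncomputable def Z20001234 : ℕ := 0xa00000000000000a0aa
noncomputable def L20006363 : ℕ := 0x88888888888888888888888888888888222222222222222222222222222222228888888888888888888888888888888822222222222222222222222222222222222222222222222222222222222222228888888888888888888888888888888822222222222222222222222222222222888888888888888888888888888888888888888888888888888888888888888822222222222222222222222222222222888888888888888888888888888888882222222222222222222222222222222222222222222222222222222222222222888888888888888888888888888888882222222222222222222222222222222288888888888888888888888888888888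
noncomputable def L20006374 : ℕ := 0xaaaaaaaaaaaaaaaa00000000000000000000000000000000aaaaaaaaaaaaaaaaaaaaaaaaaaaaaaaa00000000000000000000000000000000aaaaaaaaaaaaaaaaaaaaaaaaaaaaaaaa00000000000000000000000000000000aaaaaaaaaaaaaaaaaaaaaaaaaaaaaaaa00000000000000000000000000000000aaaaaaaaaaaaaaaa0000000000000000aaaaaaaaaaaaaaaaaaaaaaaaaaaaaaaa00000000000000000000000000000000aaaaaaaaaaaaaaaaaaaaaaaaaaaaaaaa00000000000000000000000000000000aaaaaaaaaaaaaaaaaaaaaaaaaaaaaaaa00000000000000000000000000000000aaaaaaaaaaaaaaaaaaaaaaaaaaaaaaaa0000000000000000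
noncomputable def E20000005 : Env := ⟨6,0,[],[]⟩
noncomputable def E20004312 : Env := ⟨6,0,[(1,Z20004104)],[]⟩
noncomputable def E20006592 : Env := ⟨6,0,[(1,Z20004104),(4,Z20005970),(106,Z20004104),(49,Z20005970),(48,Z20004104),(163,Z20005970),(166,Z20004104),(256,Z20005970),(1344,Z20005970),(512,Z20005970),(1536,Z20005970)],[]⟩
noncomputable def E20004471 : Env := ⟨6,0,[(1542,Z20004452),(1457,Z20004452)],[]⟩
noncomputable def E20004486 : Env := ⟨6,0,[(1542,Z20004452),(402,Z20004452)],[]⟩
noncomputable def E20004542 : Env := ⟨6,33,[],[]⟩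
noncomputable def E20004561 : Env := ⟨6,33,[(1024,Z20004540)],[]⟩
noncomputable def E20004569 : Env := ⟨6,1057,[(33,Z20004452),(1,Z20004104)],[]⟩
noncomputable def E20004099 : Env := ⟨6,0,[(400,Z20004050),(580,Z20004050),(99,Z20004050),(499,Z20004050),(497,Z20004050),(549,Z20004050)],[]⟩
noncomputable def E20004306 : Env := ⟨6,0,[(1,Z20004104),(2,Z20004050),(3,Z20004104),(4,Z20004050),(5,Z20004104),(6,Z20004050),(14,Z20004050),(15,Z20004104),(12,Z20004050),(33,Z20004050),(35,Z20004050),(64,Z20004050),(106,Z20004104),(112,Z20004104),(143,Z20004104),(256,Z20004050),(512,Z20004050)],[]⟩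
noncomputable def E20004319 : Env := ⟨6,33,[(33,Z20004050),(1,Z20004104)],[(33,1,32)]⟩
noncomputable def E20004331 : Env := ⟨6,833,[(32,Z20004050),(1,Z20004325),(33,Z20004050)],[]⟩
noncomputable def E20005740 : Env := ⟨6,0,[(1,Z20004104),(2,Z20005553),(3,Z20004104),(4,Z20005553),(5,Z20004104),(6,Z20005553),(14,Z20005553),(15,Z20004104),(12,Z20005553),(33,Z20005553),(35,Z20005553),(64,Z20005553),(106,Z20004104),(112,Z20004104),(143,Z20004104),(256,Z20005553),(512,Z20005553)],[]⟩
noncomputable def E20005782 : Env := ⟨6,33,[(658,Z20005553),(689,Z20005553),(609,Z20005553),(576,Z20005553),(670,Z20005553),(701,Z20005553)],[]⟩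
noncomputable def E20005787 : Env := ⟨6,833,[],[]⟩
noncomputable def E20000657 : Env := ⟨6,0,[(1,Z20000421),(2,Z20000456),(3,Z20000421),(4,Z20000456),(5,Z20000421),(6,Z20000456),(14,Z20000456),(15,Z20000421),(12,Z20000456),(33,Z20000456),(35,Z20000456),(64,Z20000456),(75,Z20000421),(128,Z20000456),(256,Z20000456)],[]⟩
noncomputable def E20000678 : Env := ⟨6,0,[(4,Z20000456),(68,Z20000456),(14,Z20000456),(78,Z20000456),(33,Z20000456),(97,Z20000456)],[]⟩
noncomputable def E20000682 : Env := ⟨6,33,[(4,Z20000456),(68,Z20000456),(14,Z20000456),(78,Z20000456)],[]⟩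
noncomputable def E20000687 : Env := ⟨6,385,[(4,Z20000456),(68,Z20000456),(14,Z20000456),(78,Z20000456),(33,Z20000456)],[]⟩
noncomputable def E20004977 : Env := ⟨6,0,[(858,Z20004050),(856,Z20004050),(691,Z20004050),(656,Z20004050),(578,Z20004050)],[]⟩
noncomputable def E20004981 : Env := ⟨6,33,[(858,Z20004050),(856,Z20004050),(691,Z20004050),(656,Z20004050),(578,Z20004050)],[]⟩
noncomputable def E20004986 : Env := ⟨6,321,[(858,Z20004050),(856,Z20004050),(691,Z20004050),(656,Z20004050)],[]⟩
noncomputable def E20002996 : Env := ⟨6,0,[(1,Z20002941)],[]⟩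
noncomputable def E20003018 : Env := ⟨6,0,[(4,Z20003006),(37,Z20003006)],[]⟩
noncomputable def E20003054 : Env := ⟨6,481,[(4,Z20003006),(37,Z20003006)],[]⟩
noncomputable def E20003229 : Env := ⟨6,481,[(4,Z20003006),(785,Z20003006),(799,Z20003006),(828,Z20003006),(49,Z20003006),(51,Z20003006),(914,Z20003006),(945,Z20003006),(751,Z20003006),(467,Z20003006)],[]⟩
noncomputable def E20003252 : Env := ⟨6,481,[(1,Z20002941)],[]⟩
noncomputable def E20003270 : Env := ⟨6,0,[(1,Z20002941),(4,Z20003006),(37,Z20003006)],[]⟩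
noncomputable def E20003303 : Env := ⟨6,481,[(47,Z20003006),(14,Z20003006),(2,Z20003006),(35,Z20003006)],[]⟩
noncomputable def E20003356 : Env := ⟨6,481,[(249,Z20003308),(251,Z20003308),(186,Z20003308),(184,Z20003308),(33,Z20003338),(75,Z20003308),(73,Z20003308),(90,Z20002941)],[]⟩
noncomputable def E20003376 : Env := ⟨6,481,[(249,Z20003308),(251,Z20003308),(186,Z20003308),(184,Z20003308),(33,Z20003338),(4,Z20003308),(6,Z20003308),(78,Z20002941)],[]⟩
noncomputable def E20006006 : Env := ⟨6,0,[(1505,Z20005970),(1507,Z20005970),(691,Z20005970),(656,Z20005970),(1538,Z20005970),(1571,Z20005970)],[]⟩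
noncomputable def E20006010 : Env := ⟨6,33,[(1505,Z20005970),(1507,Z20005970),(691,Z20005970),(656,Z20005970),(1538,Z20005970),(1571,Z20005970)],[]⟩
noncomputable def E20006014 : Env := ⟨6,1057,[(1505,Z20005970),(691,Z20005970),(656,Z20005970),(1538,Z20005970)],[]⟩
noncomputable def E20007670 : Env := ⟨6,0,[(1,Z20007595),(33,Z20007610),(2,Z20007610),(3,Z20007595),(35,Z20007610),(4,Z20007610),(5,Z20007595),(37,Z20007610),(7,Z20007595),(12,Z20007610),(13,Z20007595),(45,Z20007610),(15,Z20007595),(114,Z20007610),(112,Z20007610)],[]⟩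
noncomputable def E20007835 : Env := ⟨6,0,[(1,Z20007820)],[]⟩
noncomputable def E20007848 : Env := ⟨6,225,[(33,Z20007610),(1,Z20007820),(32,Z20007610)],[]⟩
noncomputable def E20007852 : Env := ⟨6,257,[(32,Z20007610),(1,Z20007820),(33,Z20007610)],[]⟩
noncomputable def E20003050 : Env := ⟨6,0,[(1,Z20002941),(4,Z20003006),(37,Z20003006),(5,Z20002941),(99,Z20002941),(49,Z20003006),(51,Z20003006),(48,Z20002941),(90,Z20002941)],[]⟩
noncomputable def E20003060 : Env := ⟨6,481,[(1,Z20002941),(4,Z20003006),(37,Z20003006),(5,Z20002941),(99,Z20002941),(49,Z20003006),(51,Z20003006),(48,Z20002941),(90,Z20002941)],[]⟩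
noncomputable def E20001215 : Env := ⟨6,0,[(1,Z20000974),(2,Z20001017),(3,Z20000974),(4,Z20001017),(5,Z20000974),(6,Z20001017),(14,Z20001017),(15,Z20000974),(12,Z20001017),(33,Z20001017),(35,Z20001017),(64,Z20001017),(75,Z20000974),(136,Z20001017),(256,Z20001017)],[]⟩
noncomputable def E20001221 : Env := ⟨6,0,[(1,Z20000974)],[]⟩
noncomputable def E20001228 : Env := ⟨6,33,[(33,Z20001017),(1,Z20000974),(4,Z20001017),(37,Z20001017),(2,Z20001017),(35,Z20001017)],[(33,1,32)]⟩
noncomputable def E20001244 : Env := ⟨6,257,[(32,Z20001017),(1,Z20001234),(33,Z20001017)],[]⟩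
noncomputable def E20005225 : Env := ⟨6,0,[(1505,Z20004452),(1507,Z20004452),(858,Z20004452),(856,Z20004452),(691,Z20004452)],[]⟩
noncomputable def E20005229 : Env := ⟨6,33,[(1505,Z20004452),(1507,Z20004452),(858,Z20004452),(856,Z20004452),(691,Z20004452)],[]⟩
noncomputable def E20005233 : Env := ⟨6,1057,[(1505,Z20004452),(858,Z20004452),(856,Z20004452),(691,Z20004452)],[]⟩
noncomputable def E20006361 : Env := ⟨6,33,[(33,Z20005553),(1,Z20004104)],[(33,1,32)]⟩
noncomputable def E20006372 : Env := ⟨6,321,[(32,Z20005553),(1,Z20004325),(33,Z20005553)],[]⟩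

end Cfsg.Lib.L33E
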